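import Groth.Prelude.Def_EtZar
import Groth.Agent.Lib.BigEt.Basic
import Groth.Agent.Lib.EtSite.Basic

/-!
# The Zariski site inside the small étale site
-/

set_option autoImplicit false
set_option backward.isDefEq.respectTransparency false
set_option backward.isDefEq.respectTransparency.types false
set_option linter.style.haveILetI false

universe u

open CategoryTheory CategoryTheory.Limits AlgebraicGeometry Opposite TopologicalSpace

noncomputable section

namespace Groth.Agent.Lib.EtQCoh.ZarSite

variable (X : Scheme.{u})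

theorem subsingleton_hom (U : X.Opens) (T : X.Etale) : Subsingleton (T ⟶ (EtZar.zarToEt X).obj U) :=
  ⟨fun a b => MorphismProperty.Over.Hom.ext
    ((cancel_mono U.ι).1 ((Over.w a.hom :).trans (Over.w b.hom :).symm))⟩

/-- The morphism to an open through which a scheme factors. -/
def toOpen (U : X.Opens) (T : X.Etale) (h : ∀ t, T.hom.base t ∈ U) :
    T ⟶ (EtZar.zarToEt X).obj U :=
  MorphismProperty.Over.homMk
    (show T.left ⟶ (U : Scheme.{u}) from IsOpenImmersion.lift U.ι (T.hom : T.left ⟶ X) (by
      rw [Scheme.Opens.range_ι]; rintro _ ⟨t, rfl⟩; exact h t))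
    (IsOpenImmersion.lift_fac (Y := T.left) U.ι _ _)

theorem mem_of_hom {U : X.Opens} {T : X.Etale} (f : T ⟶ (EtZar.zarToEt X).obj U) (t : T.left) :
    T.hom.base t ∈ U := by
  have h : f.left ≫ U.ι = T.hom := Over.w f.hom
  rw [← h]
  exact (f.left.base t).2

instance zarToEt_flat : RepresentablyFlat (EtZar.zarToEt X) where
  cofiltered W := by
    let top : StructuredArrow W (EtZar.zarToEt X) :=
      StructuredArrow.mk (Y := (⊤ : X.Opens)) (toOpen X ⊤ W fun _ => trivial)
    refine { nonempty := ⟨top⟩, cone_objs := ?_, cone_maps := ?_ }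
    · intro A B
      let D : StructuredArrow W (EtZar.zarToEt X) := StructuredArrow.mk (Y := A.right ⊓ B.right)
        (toOpen X _ W fun t => ⟨mem_of_hom X A.hom t, mem_of_hom X B.hom t⟩)
      exact ⟨D, StructuredArrow.homMk (homOfLE inf_le_left) ((subsingleton_hom X _ _).elim _ _),
        StructuredArrow.homMk (homOfLE inf_le_right) ((subsingleton_hom X _ _).elim _ _), trivial⟩
    · intro A B f g
      exact ⟨A, 𝟙 A, by rw [StructuredArrow.ext f g (Subsingleton.elim _ _)]⟩

theorem coverPreserving_zarToEt :
    CoverPreserving (Opens.grothendieckTopology X) X.smallEtaleTopology (EtZar.zarToEt X) := by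
  constructor
  intro (U : X.Opens) S hS
  rw [EtSite.Basic.mem_topology_iff]
  intro x
  obtain ⟨(V : X.Opens), f, hf, hx⟩ := hS (U.ι.base x) (show U.ι.base x ∈ U from x.2)
  refine ⟨(EtZar.zarToEt X).obj V, (EtZar.zarToEt X).map f, Sieve.image_mem_functorPushforward _ _ hf,
    ⟨U.ι.base x, hx⟩, ?_⟩
  apply U.ι.isOpenEmbedding.injective
  show (X.homOfLE f.le ≫ U.ι).base _ = U.ι.base x
  rw [X.homOfLE_ι]
  rfl

instance zarCont : EtZar.ZarCont X :=
  Functor.isContinuous_of_coverPreserving (compatiblePreservingOfFlat _ _) (coverPreserving_zarToEt X)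

instance lan_zarToEt_preservesFiniteLimits :
    PreservesFiniteLimits ((EtZar.zarToEt X).op.lan : (_ ⥤ AddCommGrpCat.{u + 1}) ⥤ _) := by
  have : ∀ W, HasExactColimitsOfShape (CostructuredArrow (EtZar.zarToEt X).op W)
      AddCommGrpCat.{u + 1} := fun W => by
    have : IsFiltered (CostructuredArrow (EtZar.zarToEt X).op W) :=
      IsFiltered.of_equivalence (structuredArrowOpEquivalence (EtZar.zarToEt X) W.unop)
    have : AB5OfSize.{u, u} AddCommGrpCat.{u + 1} := AB5OfSize_of_univLE AddCommGrpCat.{u + 1}
    exact AB5OfSize.ofShape _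
  exact EtJ.ExtZero.lan_preservesFiniteLimits_of_exact _

variable [EtZar.ZarCont X]

/-- The inverse image from the Zariski site. -/
abbrev pullZar : EtZar.Ab X ⥤ EtCoh.Ab X :=
  (EtZar.zarToEt X).sheafPullback AddCommGrpCat.{u + 1} (Opens.grothendieckTopology X) X.smallEtaleTopology

/-- The adjunction. -/
abbrev zarAdj : pullZar X ⊣ EtZar.resZar X :=
  (EtZar.zarToEt X).sheafAdjunctionContinuous AddCommGrpCat.{u + 1} (Opens.grothendieckTopology X) X.smallEtaleTopology

instance pullZar_preservesFiniteLimits : PreservesFiniteLimits (pullZar X) :=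
  BigEt.Basic.sheafPullback_preservesFiniteLimits (EtZar.zarToEt X) _ _

instance resZar_preservesInjectiveObjects : (EtZar.resZar X).PreservesInjectiveObjects :=
  BigEt.Basic.preservesInjective_of_pullback (EtZar.zarToEt X) (Opens.grothendieckTopology X)
    X.smallEtaleTopology

instance resZar_preservesFiniteLimits : PreservesFiniteLimits (EtZar.resZar X) :=
  have : PreservesLimitsOfSize.{0, 0} (EtZar.resZar X) := (zarAdj X).rightAdjoint_preservesLimits
  PreservesLimitsOfSize.preservesFiniteLimits _

instance resZar_additive : (EtZar.resZar X).Additive where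

instance opens_wEqualsLocallyBijective :
    (Opens.grothendieckTopology X).WEqualsLocallyBijective AddCommGrpCat.{u + 1} :=
  haveI : EssentiallySmall.{u + 1} (Opens X) := EtZar.essSmallOpens X
  GrothendieckTopology.WEqualsLocallyBijective.ofEssentiallySmall (A := AddCommGrpCat.{u + 1}) (Opens.grothendieckTopology X)

/-- `⊤` is final. -/
def isTerminalTop : IsTerminal ((EtZar.zarToEt X).obj ⊤) :=
  IsTerminal.ofUniqueHom (fun T => toOpen X ⊤ T fun _ => trivial)
    fun _ _ => (subsingleton_hom X _ _).elim _ _

end Groth.Agent.Lib.EtQCoh.ZarSite
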