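import Groth.Agent.Lib.EtQCoh.Zar
import Groth.Agent.Lib.TensorMod.QCohInv
import Groth.Agent.Lib.EtJ.PullSec
import Groth.Prelude.Def_EtGm
import Groth.Prelude.Def_PicLoc

/-!
# The additive group as the sheaf associated to the structure module
-/

set_option autoImplicit false
set_option backward.isDefEq.respectTransparency false
set_option backward.isDefEq.respectTransparency.types false

universe u

open CategoryTheory CategoryTheory.Limits AlgebraicGeometry Opposite TopologicalSpace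
open ZarCoh.FlatBC.PullbackSections Groth.Agent.Lib.DescAlg

noncomputable section

namespace Groth.Agent.Lib.EtQCoh.GaAssoc

variable {X : Scheme.{u}}

/-- The pullback of the unit section. -/
def one {Y : Scheme.{u}} (a : Y ⟶ X) :
    Γ((Scheme.Modules.pullback a).obj (Coh.structureModule X), ⊤) :=
  pbRes a (Coh.structureModule X) (U := ⊤) (V := ⊤) le_top ((1 : Γ(X, ⊤)) : Γ(Coh.structureModule X, ⊤))

theorem hom_one {Y : Scheme.{u}} (a : Y ⟶ X) :
    (PicLoc.pullbackStructureIso a).hom.app ⊤ (one a) = ((1 : Γ(Y, ⊤)) : Γ(Coh.structureModule Y, ⊤)) := by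
  let ψ : (Scheme.Modules.pullback a).obj (Coh.structureModule X) ⟶ Coh.structureModule Y :=
    (PicLoc.pullbackStructureIso a).hom
  have h : (Scheme.Modules.pullbackPushforwardAdjunction a).unit.app (Coh.structureModule X) ≫
      (Scheme.Modules.pushforward a).map ψ = SheafOfModules.unitToPushforwardObjUnit a.toRingCatSheafHom := by
    have := SheafOfModules.pullbackPushforwardAdjunction_homEquiv_pullbackObjUnitToUnit a.toRingCatSheafHom
    exact (Adjunction.homEquiv_unit _ _ _ _).symm.trans this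
  have h1 : ψ.app (a ⁻¹ᵁ ⊤) (((Scheme.Modules.pullbackPushforwardAdjunction a).unit.app (Coh.structureModule X)).app ⊤
      ((1 : Γ(X, ⊤)) : Γ(Coh.structureModule X, ⊤))) = a.app ⊤ (1 : Γ(X, ⊤)) :=
    congrArg (fun m : Coh.structureModule X ⟶ (Scheme.Modules.pushforward a).obj (Coh.structureModule Y) =>
      m.app ⊤ ((1 : Γ(X, ⊤)) : Γ(Coh.structureModule X, ⊤))) h
  refine (ConcreteCategory.congr_hom (ψ.mapPresheaf.naturality (homOfLE (le_top : (⊤ : Y.Opens) ≤ a ⁻¹ᵁ ⊤)).op) _).trans ?_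
  refine (congrArg ((Coh.structureModule Y).presheaf.map (homOfLE (le_top : (⊤ : Y.Opens) ≤ a ⁻¹ᵁ ⊤)).op) h1).trans ?_
  exact (congrArg (Y.presheaf.map (homOfLE (le_top : (⊤ : Y.Opens) ≤ a ⁻¹ᵁ ⊤)).op) (map_one (a.app ⊤).hom)).trans
    (map_one (Y.presheaf.map (homOfLE (le_top : (⊤ : Y.Opens) ≤ a ⁻¹ᵁ ⊤)).op).hom)

/-- Functions times the unit section. -/
def phi {Y : Scheme.{u}} (a : Y ⟶ X) :
    Γ(Y, ⊤) →+ Γ((Scheme.Modules.pullback a).obj (Coh.structureModule X), ⊤) where
  toFun r := r • one a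
  map_zero' := zero_smul _ _
  map_add' r s := add_smul r s _

theorem phi_bijective {Y : Scheme.{u}} (a : Y ⟶ X) : Function.Bijective (phi a) := by
  let ψ := (PicLoc.pullbackStructureIso a).hom
  have hb : Function.Bijective (ψ.app ⊤) :=
    ConcreteCategory.bijective_of_isIso (((Scheme.Modules.toPresheaf Y).mapIso (PicLoc.pullbackStructureIso a)).app (op ⊤)).hom
  have hψ : ∀ r, ψ.app ⊤ (phi a r) = r := fun r => by
    refine (Scheme.Modules.Hom.app_smul ψ r (one a)).trans ((congrArg (r • ·) (hom_one a)).trans ?_)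
    exact mul_one (r : Γ(Y, ⊤))
  refine ⟨fun r s h => ?_, fun x => ⟨ψ.app ⊤ x, hb.1 ?_⟩⟩
  · rw [← hψ r, h, hψ s]
  · exact hψ _

theorem isAssoc : EtAssoc.IsAssoc (Coh.structureModule X) (EtCoh.Ga X) := by
  refine ⟨fun U => (AddEquiv.ulift.trans (AddEquiv.ofBijective (phi U.hom) (phi_bijective U.hom))).trans
    AddEquiv.ulift.symm, fun U U' g s => ?_⟩
  have h := PbSec.R_smul g.left (Over.w g.hom) (Coh.structureModule X) (W := ⊤) (W' := ⊤) le_top s.down (one U.hom)
  have h2 : PbSec.R g.left (Over.w g.hom) (Coh.structureModule X) (W := ⊤) (W' := ⊤) le_top (one U.hom) = one U'.hom :=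
    PbSec.R_pbRes g.left (Over.w g.hom) (Coh.structureModule X) _ _ _
  have h3 : phi U'.hom (g.left.appLE ⊤ ⊤ le_top s.down) = PbSec.R g.left (Over.w g.hom) (Coh.structureModule X)
      (W := ⊤) (W' := ⊤) le_top (phi U.hom s.down) := by
    refine Eq.trans ?_ h.symm
    rw [h2]
    rfl
  have h4 : PbSec.R g.left (Over.w g.hom) (Coh.structureModule X) (W := ⊤) (W' := ⊤) le_top (phi U.hom s.down) =
      EtAssoc.resMap (Coh.structureModule X) g (phi U.hom s.down) := by
    rw [PbSec.R_eq]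
    simp only [EtAssoc.resMap, EtAssoc.step1, EtAssoc.step2, EtAssoc.step2a, DescAlg.PbSec.tr,
      Scheme.Modules.pullbackCongr, Iso.trans_hom, Iso.app_hom, eqToIso.hom, eqToHom_app]
    rfl
  refine Eq.trans ?_ (h3.trans h4)
  refine congrArg (phi U'.hom) ?_
  change g.left.appTop s.down = g.left.appLE ⊤ ⊤ le_top s.down
  rw [Scheme.Hom.appLE, Scheme.Hom.appTop]
  exact (ConcreteCategory.congr_hom ((congrArg _ (U'.left.presheaf.map_id _)).trans (Category.comp_id _)) _).symm

theorem cechAff_Ga : AffGood.CechAff (EtCoh.Ga X) :=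
  have := TensorMod.QCohInv.isQCoh_structureModule X
  AffGood.cechAff_of_isAssoc (Coh.structureModule X) isAssoc

open Groth.Agent.Lib.SpecSeq in
theorem subsingleton_H_Ga [IsAffine X] (p : ℕ) (hp : 1 ≤ p) :
    Subsingleton (EtCoh.H X (EtCoh.Ga X) p) := by
  obtain ⟨k, rfl⟩ := Nat.exists_eq_succ_of_ne_zero (Nat.one_le_iff_ne_zero.1 hp)
  let R := injectiveResolution (EtCoh.Ga X)
  refine AddCommGrpCat.isZero_iff_subsingleton.1
    (IsZero.of_iso ?_ (HomExt.homologyIso R (k + 1)).symm)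
  rw [← HomologicalComplex.exactAt_iff_isZero_homology,
    HomologicalComplex.exactAt_iff' _ k (k + 1) (k + 2) (by simp) (by simp)]
  rw [ShortComplex.ab_exact_iff]
  intro f hf
  let e : ∀ A : EtCoh.Ab X, (EtCoh.const X ℤ ⟶ A) ≃+ EtCoh.sect A (EtCoh.top X) :=
    fun A => Groth.Agent.Lib.EtJ.PullSec.elem X A
  have : IsAffine (EtCoh.top X).left := inferInstanceAs (IsAffine X)
  have hx : (R.cocomplex.d (k + 1) (k + 2)).hom.app (op (EtCoh.top X)) (e _ f) = 0 := by
    rw [← Groth.Agent.Lib.EtJ.PullSec.elem_comp]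
    exact (congrArg (e _) hf).trans (map_zero _)
  obtain ⟨y, hy⟩ := AffGood.exists_of_d_eq_zero AffGood.affGood_cechAff cechAff_Ga R k _ this _ hx
  refine ⟨(e _).symm y, (e _).injective ?_⟩
  refine (Groth.Agent.Lib.EtJ.PullSec.elem_comp X _ (R.cocomplex.d k (k + 1))).trans ?_
  rw [AddEquiv.apply_symm_apply]
  exact hy

end Groth.Agent.Lib.EtQCoh.GaAssoc
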