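import Mathlib.Algebra.Homology.DerivedCategory.Ext.ExactSequences
import Mathlib.Algebra.Homology.DerivedCategory.Ext.EnoughInjectives
import Mathlib.GroupTheory.QuotientGroup.Basic

/-!
# Comparison of `Ext` groups commuting with endomorphisms

If a functor `U` identifies `Hom(A, -)` with `Hom(B, U -)` and objects in a class `P` have embeddings
into injectives which are acyclic for both and stay exact under `U`, then `Ext^n(A, G) ≃ Ext^n(B, U G)`
compatibly with all endomorphisms of `G`.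
-/

set_option autoImplicit false

universe w w' v v' u u'

open CategoryTheory CategoryTheory.Limits CategoryTheory.Abelian

noncomputable section

namespace Groth.Agent.Lib.EtQCoh.CompareEnd

variable {C : Type u} [Category.{v} C] [Abelian C] [HasExt.{w} C]

/-- An endomorphism of the kernel of a short exact sequence with injective middle term extends. -/
theorem exists_extend {S : ShortComplex C} (hS : S.ShortExact) [Injective S.X₂] (a : S.X₁ ⟶ S.X₁) :
    ∃ f : S ⟶ S, f.τ₁ = a := by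
  have := hS.mono_f
  have := hS.epi_g
  let b := Injective.factorThru (a ≫ S.f) S.f
  have hb : S.f ≫ b = a ≫ S.f := Injective.comp_factorThru _ _
  obtain ⟨c, hc⟩ := hS.exact.desc' (b ≫ S.g) (by rw [← Category.assoc, hb, Category.assoc, S.zero, comp_zero])
  exact ⟨⟨a, b, c, hb.symm, hc.symm⟩, rfl⟩

/-- The connecting map. -/
def δ (A : C) {S : ShortComplex C} (hS : S.ShortExact) (n : ℕ) : Ext.{w} A S.X₃ n →+ Ext.{w} A S.X₁ (n + 1) :=
  hS.extClass.postcomp A rfl

theorem δ_apply (A : C) {S : ShortComplex C} (hS : S.ShortExact) (n : ℕ) (x : Ext.{w} A S.X₃ n) :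
    δ A hS n x = x.comp hS.extClass rfl := rfl

theorem δ_comp (A : C) {S : ShortComplex C} (hS : S.ShortExact) (n : ℕ) (x : Ext.{w} A S.X₃ n)
    {a : S.X₁ ⟶ S.X₁} {c : S.X₃ ⟶ S.X₃}
    (h : hS.extClass.comp (Ext.mk₀ a) (add_zero 1) = (Ext.mk₀ c).comp hS.extClass (zero_add 1)) :
    (δ A hS n x).comp (Ext.mk₀ a) (add_zero (n + 1)) = δ A hS n (x.comp (Ext.mk₀ c) (add_zero n)) := by
  rw [δ_apply, δ_apply, Ext.comp_assoc_of_third_deg_zero, h, Ext.comp_assoc_of_second_deg_zero]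

theorem δ_surjective (A : C) {S : ShortComplex C} (hS : S.ShortExact) (n : ℕ)
    (h : Subsingleton (Ext.{w} A S.X₂ (n + 1))) : Function.Surjective (δ A hS n) := fun ξ => by
  obtain ⟨y, hy⟩ := Ext.covariant_sequence_exact₁ _ hS ξ (h.elim _ _) rfl
  exact ⟨y, hy⟩

theorem δ_injective (A : C) {S : ShortComplex C} (hS : S.ShortExact) (n : ℕ)
    (h : Subsingleton (Ext.{w} A S.X₂ n)) : Function.Injective (δ A hS n) :=
  (injective_iff_map_eq_zero _).2 fun x hx => by
    obtain ⟨y, rfl⟩ := Ext.covariant_sequence_exact₃ _ hS x rfl hx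
    rw [h.elim y 0, Ext.zero_comp]

/-- The connecting map on morphisms. -/
def δ₀ (A : C) {S : ShortComplex C} (hS : S.ShortExact) : (A ⟶ S.X₃) →+ Ext.{w} A S.X₁ 1 :=
  (δ A hS 0).comp Ext.addEquiv₀.symm.toAddMonoidHom

theorem δ₀_apply (A : C) {S : ShortComplex C} (hS : S.ShortExact) (y : A ⟶ S.X₃) :
    δ₀ A hS y = δ A hS 0 (Ext.mk₀ y) := rfl

theorem δ₀_surjective (A : C) {S : ShortComplex C} (hS : S.ShortExact)
    (h : Subsingleton (Ext.{w} A S.X₂ 1)) : Function.Surjective (δ₀ A hS) := fun ξ => by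
  obtain ⟨y, hy⟩ := δ_surjective A hS 0 h ξ
  obtain ⟨y, rfl⟩ := (Ext.mk₀_bijective _ _).2 y
  exact ⟨y, hy⟩

theorem δ₀_eq_zero_iff (A : C) {S : ShortComplex C} (hS : S.ShortExact) (y : A ⟶ S.X₃) :
    δ₀ A hS y = 0 ↔ ∃ x : A ⟶ S.X₂, x ≫ S.g = y := by
  constructor
  · intro hy
    obtain ⟨x, hx⟩ := Ext.covariant_sequence_exact₃ _ hS (Ext.mk₀ y) rfl hy
    obtain ⟨x, rfl⟩ := (Ext.mk₀_bijective _ _).2 x
    rw [Ext.mk₀_comp_mk₀] at hx
    exact ⟨x, (Ext.mk₀_bijective _ _).1 hx⟩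
  · rintro ⟨x, rfl⟩
    rw [δ₀_apply, δ_apply, ← Ext.mk₀_comp_mk₀, Ext.comp_assoc_of_second_deg_zero, hS.comp_extClass,
      Ext.comp_zero]

variable {D : Type u'} [Category.{v'} D] [Abelian D] [HasExt.{w'} D]

theorem exists_equiv (U : C ⥤ D) [U.PreservesZeroMorphisms] (A : C) (B : D)
    (h0 : ∀ G, (A ⟶ G) ≃+ (B ⟶ U.obj G))
    (h0nat : ∀ {G G' : C} (f : A ⟶ G) (a : G ⟶ G'), h0 G' (f ≫ a) = h0 G f ≫ U.map a)
    (P : C → Prop)
    (hstep : ∀ G, P G → ∃ S : ShortComplex C, S.X₁ = G ∧ S.ShortExact ∧ Injective S.X₂ ∧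
      (S.map U).ShortExact ∧ (∀ k, Subsingleton (Ext.{w'} B (U.obj S.X₂) (k + 1))) ∧ P S.X₃)
    (n : ℕ) : ∀ G, P G → ∃ e : Ext.{w} A G n ≃+ Ext.{w'} B (U.obj G) n, ∀ (a : G ⟶ G) x,
      e (x.comp (Ext.mk₀ a) (add_zero n)) = (e x).comp (Ext.mk₀ (U.map a)) (add_zero n) := by
  induction n with
  | zero =>
    intro G _
    refine ⟨(Ext.addEquiv₀.trans (h0 G)).trans Ext.addEquiv₀.symm, fun a x => ?_⟩
    obtain ⟨x, rfl⟩ := (Ext.mk₀_bijective _ _).2 x
    rw [Ext.mk₀_comp_mk₀]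
    have e : ∀ {K : C} (y : A ⟶ K), Ext.addEquiv₀ (Ext.mk₀.{w} y) = y := fun y =>
      Ext.addEquiv₀.apply_symm_apply y
    simp only [AddEquiv.trans_apply, e, Ext.addEquiv₀_symm_apply]
    rw [Ext.mk₀_comp_mk₀, h0nat]
  | succ n ih =>
    intro G hG
    obtain ⟨S, rfl, hS, hI, hU, hB, hP⟩ := hstep G hG
    have hA : ∀ k, Subsingleton (Ext.{w} A S.X₂ (k + 1)) := fun k =>
      ⟨fun a b => (Ext.eq_zero_of_injective a).trans (Ext.eq_zero_of_injective b).symm⟩
    cases n with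
    | zero =>
      let d := δ₀ A hS
      let d' := δ₀ B hU
      have hd : Function.Surjective d := δ₀_surjective A hS (hA 0)
      have hd' : Function.Surjective d' := δ₀_surjective B hU (hB 0)
      have hker : AddSubgroup.map (h0 S.X₃).toAddMonoidHom d.ker = d'.ker := by
        ext y
        constructor
        · rintro ⟨x, hx, rfl⟩
          obtain ⟨z, hz⟩ := (δ₀_eq_zero_iff A hS x).1 hx
          exact (δ₀_eq_zero_iff B hU _).2 ⟨h0 S.X₂ z, (h0nat z S.g).symm.trans (congrArg (h0 S.X₃) hz)⟩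
        · intro hy
          obtain ⟨z, hz⟩ := (δ₀_eq_zero_iff B hU y).1 hy
          refine ⟨(h0 S.X₂).symm z ≫ S.g, (δ₀_eq_zero_iff A hS _).2 ⟨_, rfl⟩, ?_⟩
          exact (h0nat _ S.g).trans
            ((congrArg (· ≫ U.map S.g) (AddEquiv.apply_symm_apply _ z)).trans hz)
      let e : Ext.{w} A S.X₁ 1 ≃+ Ext.{w'} B (U.obj S.X₁) 1 :=
        (QuotientAddGroup.quotientKerEquivOfSurjective d hd).symm.trans
          ((QuotientAddGroup.congr d.ker d'.ker (h0 S.X₃) hker).trans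
            (QuotientAddGroup.quotientKerEquivOfSurjective d' hd'))
      have he : ∀ y, e (d y) = d' (h0 S.X₃ y) := fun y => by
        have h1 : (QuotientAddGroup.quotientKerEquivOfSurjective d hd).symm (d y) = QuotientAddGroup.mk y :=
          (QuotientAddGroup.quotientKerEquivOfSurjective d hd).injective
            ((AddEquiv.apply_symm_apply _ _).trans rfl)
        simp only [e, AddEquiv.trans_apply, h1]
        rfl
      refine ⟨e, fun a x => ?_⟩
      obtain ⟨f, rfl⟩ := exists_extend hS a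
      let c := f.τ₃
      have hn := hS.extClass_naturality hS f
      have hn' := hU.extClass_naturality hU (U.mapShortComplex.map f)
      obtain ⟨y, rfl⟩ := hd x
      have h2 : (d y).comp (Ext.mk₀ f.τ₁) (add_zero 1) = d (y ≫ f.τ₃) := by
        rw [δ₀_apply, δ₀_apply, ← Ext.mk₀_comp_mk₀]
        exact δ_comp A hS 0 _ hn
      have h3 : (d' (h0 S.X₃ y)).comp (Ext.mk₀ (U.map f.τ₁)) (add_zero 1) = d' (h0 S.X₃ y ≫ U.map f.τ₃) := by
        rw [δ₀_apply, δ₀_apply, ← Ext.mk₀_comp_mk₀]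
        exact δ_comp B hU 0 _ hn'
      rw [h2, he, he, h0nat]
      exact h3.symm
    | succ m =>
      obtain ⟨e, he⟩ := ih S.X₃ hP
      let dA := AddEquiv.ofBijective (δ A hS (m + 1))
        ⟨δ_injective A hS _ (hA m), δ_surjective A hS _ (hA (m + 1))⟩
      let dB := AddEquiv.ofBijective (δ B hU (m + 1))
        ⟨δ_injective B hU _ (hB m), δ_surjective B hU _ (hB (m + 1))⟩
      refine ⟨(dA.symm.trans e).trans dB, fun a x => ?_⟩
      obtain ⟨f, rfl⟩ := exists_extend hS a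
      let c := f.τ₃
      have hn := hS.extClass_naturality hS f
      have hn' := hU.extClass_naturality hU (U.mapShortComplex.map f)
      obtain ⟨y, rfl⟩ := dA.surjective x
      have h2 : (dA y).comp (Ext.mk₀ f.τ₁) (add_zero (m + 2)) = dA (y.comp (Ext.mk₀ f.τ₃) (add_zero (m + 1))) :=
        δ_comp A hS (m + 1) y hn
      rw [h2]
      simp only [AddEquiv.trans_apply, AddEquiv.symm_apply_apply, he]
      exact (δ_comp B hU (m + 1) (e y) hn').symm

end Groth.Agent.Lib.EtQCoh.CompareEnd
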