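import Groth.Agent.Lib.EtQCoh.GaZar
import Groth.Agent.Lib.EtQCoh.CompareEnd
import Groth.Agent.Lib.Snapper.Twist
import Groth.Agent.S0002

/-!
# The action of global functions on the étale cohomology of `G_a`
-/

set_option autoImplicit false
set_option backward.isDefEq.respectTransparency false
set_option backward.isDefEq.respectTransparency.types false

universe u

open CategoryTheory CategoryTheory.Limits CategoryTheory.Abelian AlgebraicGeometry Opposite TopologicalSpace

noncomputable section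

namespace Groth.Agent.Lib.EtQCoh.GaEnd

variable {X : Scheme.{u}}

/-- Global functions on an object of the site. -/
abbrev glob (U : X.Etale) : Γ(X, ⊤) →+* Γ(U.left, ⊤) := (show U.left ⟶ X from U.hom).appTop.hom

/-- Multiplication by a global function on `G_a`. -/
def mulC (r : Γ(X, ⊤)) : EtCoh.Ga X ⟶ EtCoh.Ga X :=
  ⟨{ app := fun U => AddCommGrpCat.ofHom (AddEquiv.ulift.symm.toAddMonoidHom.comp
      ((AddMonoidHom.mulLeft (glob U.unop r)).comp
        AddEquiv.ulift.toAddMonoidHom))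
     naturality := fun U V g => by
      refine ConcreteCategory.hom_ext _ _ fun x => ?_
      refine ULift.ext _ _ ?_
      let y : Γ(U.unop.left, ⊤) := x.down
      change glob V.unop r * g.unop.left.appTop.hom y = g.unop.left.appTop.hom (glob U.unop r * y)
      rw [map_mul]
      refine congrArg (· * _) ?_
      rw [← CommRingCat.comp_apply, ← Scheme.Hom.comp_appTop]
      exact congrArg (fun m : V.unop.left ⟶ X => m.appTop.hom r) (Over.w g.unop.hom :).symm }⟩

theorem mulC_apply (r : Γ(X, ⊤)) (U : X.Etale) (x : Γ(U.left, ⊤)) :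
    ((mulC r).hom.app (op U) (ULift.up x) : EtCoh.sect (EtCoh.Ga X) U) =
      ULift.up (glob U r * x) := rfl

theorem mulC_one : mulC (1 : Γ(X, ⊤)) = 𝟙 (EtCoh.Ga X) := by
  apply Sheaf.hom_ext
  ext U x
  refine ULift.ext _ _ ?_
  let y : Γ(U.unop.left, ⊤) := x.down
  change glob U.unop 1 * y = y
  rw [map_one, one_mul]

theorem mulC_mul (r s : Γ(X, ⊤)) : mulC (r * s) = mulC s ≫ mulC r := by
  apply Sheaf.hom_ext
  ext U x
  refine ULift.ext _ _ ?_
  let y : Γ(U.unop.left, ⊤) := x.down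
  change glob U.unop (r * s) * y = glob U.unop r * (glob U.unop s * y)
  rw [map_mul, mul_assoc]

theorem mulC_add (r s : Γ(X, ⊤)) : mulC (r + s) = mulC r + mulC s := by
  apply Sheaf.hom_ext
  ext U x
  refine ULift.ext _ _ ?_
  let y : Γ(U.unop.left, ⊤) := x.down
  change glob U.unop (r + s) * y = glob U.unop r * y + glob U.unop s * y
  rw [map_add, add_mul]

theorem res_mulC (r : Γ(X, ⊤)) :
    (EtZar.resZar X).map (mulC r) ≫ (GaZar.resIso (X := X)).hom =
      (GaZar.resIso (X := X)).hom ≫ (UliftCoh.up X).map (Coh.smulAb (Coh.structureModule X) r) := by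
  apply Sheaf.hom_ext
  ext U x
  refine ULift.ext _ _ ?_
  let V : X.Opens := U.unop
  let y : Γ((V : Scheme.{u}), ⊤) := x.down
  change (Scheme.Opens.topIso V).hom.hom ((V.ι.appTop.hom r : Γ((V : Scheme.{u}), ⊤)) * y) =
    X.presheaf.map (homOfLE (le_top : V ≤ ⊤)).op r * (Scheme.Opens.topIso V).hom.hom y
  rw [map_mul]
  refine congrArg (· * _) ?_
  rw [← CommRingCat.comp_apply]
  refine congrArg (fun m : Γ(X, ⊤) ⟶ Γ(X, V) => m.hom r) ?_
  simp [Scheme.Hom.appTop, Scheme.Opens.topIso, ← Functor.map_comp]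

/-- Embeddings into injectives stay exact on the Zariski site. -/
theorem zar_shortExact {P : EtCoh.Ab X → Prop} (hP : AffGood.AffGood P) {S : ShortComplex (EtCoh.Ab X)}
    (hS : S.ShortExact) (h₁ : P S.X₁) : (S.map (EtZar.resZar X)).ShortExact := by
  have := hS.mono_f
  refine
    { exact := hS.exact.map_of_mono_of_preservesKernel (EtZar.resZar X) inferInstance inferInstance
      mono_f := (EtZar.resZar X).map_mono S.f
      epi_g := (Sheaf.isLocallySurjective_iff_epi' _ _).1 ⟨fun {W} y => ?_⟩ }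
  intro x hx
  obtain ⟨_, ⟨V, hV, rfl⟩, hxV, hVW⟩ := X.isBasis_affineOpens.exists_subset_of_mem_open hx W.2
  let g : V ⟶ W := homOfLE hVW
  obtain ⟨z, hz⟩ := hP.surj hS h₁ ((EtZar.zarToEt X).obj V) (show IsAffine (V : Scheme.{u}) from hV)
    (((EtZar.resZar X).obj S.X₃).obj.map g.op y)
  exact ⟨V, g, ⟨z, hz⟩, hxV⟩

/-- Global sections on the two sites. -/
def zarHom (G : EtCoh.Ab X) :
    (EtCoh.const X ℤ ⟶ G) ≃+ (UliftCoh.cst X ⟶ (EtZar.resZar X).obj G) :=
  haveI : (ZarSite.pullZar X).Additive := (ZarSite.zarAdj X).left_adjoint_additive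
  AddEquiv.mk' ((Zar.pullConst (X := X) (AddCommGrpCat.of (ULift.{u + 1} ℤ))).homFromEquiv.symm.trans
      ((ZarSite.zarAdj X).homEquiv (UliftCoh.cst X) G))
    fun f g => by
      change (ZarSite.zarAdj X).homEquiv _ _ (_ ≫ (f + g)) =
        (ZarSite.zarAdj X).homEquiv _ _ (_ ≫ f) + (ZarSite.zarAdj X).homEquiv _ _ (_ ≫ g)
      rw [Preadditive.comp_add]
      exact (ZarSite.zarAdj X).homAddEquiv_add _ _ _ _

theorem zarHom_comp {G G' : EtCoh.Ab X} (f : EtCoh.const X ℤ ⟶ G) (a : G ⟶ G') :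
    zarHom G' (f ≫ a) = zarHom G f ≫ (EtZar.resZar X).map a := by
  change (ZarSite.zarAdj X).homEquiv _ _ (_ ≫ f ≫ a) = (ZarSite.zarAdj X).homEquiv _ _ (_ ≫ f) ≫ _
  rw [← Adjunction.homEquiv_naturality_right, Category.assoc]

theorem zar_step (G : EtCoh.Ab X) (hG : AffGood.CechAff G) : ∃ S : ShortComplex (EtCoh.Ab X),
    S.X₁ = G ∧ S.ShortExact ∧ Injective S.X₂ ∧ (S.map (EtZar.resZar X)).ShortExact ∧
      (∀ k, Subsingleton (Ext.{u + 1} (UliftCoh.cst X) ((EtZar.resZar X).obj S.X₂) (k + 1))) ∧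
      AffGood.CechAff S.X₃ := by
  let S : ShortComplex (EtCoh.Ab X) := ShortComplex.mk (Injective.ι G) (cokernel.π _) (cokernel.condition _)
  have hS : S.ShortExact := { exact := ShortComplex.exact_cokernel (Injective.ι G) }
  have hI : Injective S.X₂ := inferInstanceAs (Injective (Injective.under G))
  have : Injective ((EtZar.resZar X).obj S.X₂) := (EtZar.resZar X).injective_obj_of_injective hI
  exact ⟨S, rfl, hS, hI, zar_shortExact AffGood.affGood_cechAff hS hG,
    fun k => ⟨fun a b => (Ext.eq_zero_of_injective a).trans (Ext.eq_zero_of_injective b).symm⟩,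
    AffGood.affGood_cechAff.quot hS hI hG⟩

theorem up_step (F : CohTop.Ab X.toTopCat) : ∃ S : ShortComplex (CohTop.Ab X.toTopCat),
    S.X₁ = F ∧ S.ShortExact ∧ Injective S.X₂ ∧ (S.map (UliftCoh.up X)).ShortExact ∧
      (∀ k, Subsingleton (Ext.{u + 1} (UliftCoh.cst X) ((UliftCoh.up X).obj S.X₂) (k + 1))) ∧ True := by
  have hS := Groth.Agent.Lib.ZarCoh.Basic.injSES_shortExact (X := X.toTopCat) F
  exact ⟨_, rfl, hS, Groth.Agent.Lib.ZarCoh.Basic.injSES_injective F, UliftCoh.up_shortExact hS,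
    fun k => UliftCoh.subsingleton_ext_of_isFlq k _ (UliftCoh.isFlq_up _), trivial⟩

/-- **Comparison compatible with the action of global functions.** -/
theorem exists_equiv (n : ℕ) : ∃ e : EtCoh.H X (EtCoh.Ga X) n ≃+ Coh.HH X (Coh.structureModule X) n,
    ∀ (r : Γ(X, ⊤)) x, e (x.comp (Ext.mk₀ (mulC r)) (add_zero n)) =
      (e x).comp (Ext.mk₀ (Coh.smulAb (Coh.structureModule X) r)) (add_zero n) := by
  obtain ⟨e₁, h₁⟩ := CompareEnd.exists_equiv.{u + 1, u + 1} (EtZar.resZar X) (EtCoh.const X ℤ)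
    (UliftCoh.cst X) zarHom zarHom_comp AffGood.CechAff zar_step n (EtCoh.Ga X) GaAssoc.cechAff_Ga
  obtain ⟨e₃, h₃⟩ := CompareEnd.exists_equiv.{u, u + 1} (UliftCoh.up X) (UliftCoh.cst₀ X)
    (UliftCoh.cst X) UliftCoh.homUp UliftCoh.homUp_comp (fun _ => True) (fun F _ => up_step F) n
    (Coh.toAb (Coh.structureModule X)) trivial
  let i : (EtZar.resZar X).obj (EtCoh.Ga X) ≅ (UliftCoh.up X).obj (Coh.toAb (Coh.structureModule X)) :=
    GaZar.resIso
  let e₂ : Ext.{u + 1} (UliftCoh.cst X) ((EtZar.resZar X).obj (EtCoh.Ga X)) n ≃+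
      Ext.{u + 1} (UliftCoh.cst X) ((UliftCoh.up X).obj (Coh.toAb (Coh.structureModule X))) n :=
    AddEquiv.mk'
      { toFun := fun x => x.comp (Ext.mk₀ i.hom) (add_zero n)
        invFun := fun x => x.comp (Ext.mk₀ i.inv) (add_zero n)
        left_inv := fun x => by simp
        right_inv := fun x => by simp }
      fun x y => Ext.add_comp _ _ (Ext.mk₀ i.hom) (add_zero n)
  refine ⟨(e₁.trans e₂).trans e₃.symm, fun r x => ?_⟩
  simp only [AddEquiv.trans_apply, h₁]
  apply e₃.injective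
  refine (e₃.apply_symm_apply _).trans (Eq.trans ?_ (h₃ _ _).symm)
  refine Eq.trans ?_ (congrArg (fun y : Ext.{u + 1} (UliftCoh.cst X)
    ((UliftCoh.up X).obj (Coh.toAb (Coh.structureModule X))) n =>
      y.comp (Ext.mk₀ ((UliftCoh.up X).map (Coh.smulAb (Coh.structureModule X) r))) (add_zero n))
    (e₃.apply_symm_apply _)).symm
  change ((e₁ x).comp (Ext.mk₀ ((EtZar.resZar X).map (mulC r))) (add_zero n)).comp (Ext.mk₀ i.hom) (add_zero n) =
    ((e₁ x).comp (Ext.mk₀ i.hom) (add_zero n)).comp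
      (Ext.mk₀ ((UliftCoh.up X).map (Coh.smulAb (Coh.structureModule X) r))) (add_zero n)
  rw [Ext.comp_assoc_of_third_deg_zero, Ext.comp_assoc_of_third_deg_zero, Ext.mk₀_comp_mk₀,
    Ext.mk₀_comp_mk₀, res_mulC]

/-- `H^n(X, G_a)` is a module over the global functions. -/
@[reducible]
def moduleGa {A : Type u} [CommRing A] (φ : A →+* Γ(X, ⊤)) (n : ℕ) :
    Module A (EtCoh.H X (EtCoh.Ga X) n) where
  smul c x := x.comp (Ext.mk₀ (mulC (φ c))) (add_zero n)
  one_smul x := by
    change x.comp (Ext.mk₀ (mulC (φ 1))) _ = x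
    rw [map_one, mulC_one, Ext.comp_mk₀_id]
  mul_smul a b x := by
    change x.comp (Ext.mk₀ (mulC (φ (a * b)))) _ =
      (x.comp (Ext.mk₀ (mulC (φ b))) (add_zero n)).comp (Ext.mk₀ (mulC (φ a))) _
    rw [map_mul, mulC_mul, Ext.comp_assoc_of_third_deg_zero, Ext.mk₀_comp_mk₀]
  smul_zero a := by
    change Ext.comp 0 _ _ = 0
    rw [Ext.zero_comp]
  smul_add a x y := Ext.add_comp x y (Ext.mk₀ (mulC (φ a))) (add_zero n)
  add_smul a b x := by
    change x.comp (Ext.mk₀ (mulC (φ (a + b)))) _ = x.comp _ _ + x.comp _ _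
    rw [map_add, mulC_add, Ext.mk₀_add, Ext.comp_add]
  zero_smul x := by
    change x.comp (Ext.mk₀ (mulC (φ 0))) _ = 0
    have h : mulC (0 : Γ(X, ⊤)) = 0 := by
      have := mulC_add (X := X) 0 0
      rwa [add_zero, left_eq_add] at this
    rw [map_zero, h, Ext.mk₀_zero, Ext.comp_zero]

theorem finite_moduleGa {A : Type u} [CommRing A] [IsNoetherianRing A]
    (f : X ⟶ Spec (CommRingCat.of A)) [IsProper f] (n : ℕ) :
    @Module.Finite A (EtCoh.H X (EtCoh.Ga X) n) _ _ (moduleGa (Coh.toGlobal f) n) := by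
  letI : X.Over (Spec (CommRingCat.of A)) := ⟨f⟩
  haveI : IsProper (X ↘ Spec (CommRingCat.of A)) := ‹IsProper f›
  have : LocallyOfFiniteType f := inferInstance
  have h := Groth.Agent.S0002.result A X (Coh.structureModule X)
    (Snapper.Twist.isCoh_structureModule X) n
  obtain ⟨e, he⟩ := exists_equiv (X := X) n
  letI := moduleGa (Coh.toGlobal f) n
  let L : EtCoh.H X (EtCoh.Ga X) n ≃ₗ[A] Coh.HH X (Coh.structureModule X) n :=
    { e with map_smul' := fun c x => he (Coh.toGlobal f c) x }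
  exact Module.Finite.equiv L.symm

end Groth.Agent.Lib.EtQCoh.GaEnd
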