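import Groth.Agent.Lib.EtQCoh.Amitsur
import Groth.Agent.Lib.CechPsh.LongExact
import Groth.Agent.Lib.CechPsh.Surj
import Groth.Agent.Lib.EtJ.Coh
import Groth.Agent.Lib.EtJ.RightAcyclic
import Groth.Agent.Lib.EtSite.DisjointCover
import Mathlib.AlgebraicGeometry.Limits

/-!
# Resolutions of étale sheaves that are exact on affine objects

A class of sheaves `P` is `AffGood` if epimorphisms with kernel in `P` are surjective on affine objects
and if `P` is stable under cokernels of embeddings in injectives. An injective resolution of a sheaf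
in such a class is exact on affine objects. Sheaves which are Cech acyclic for faithfully flat
étale morphisms of affines form such a class.
-/

set_option autoImplicit false
set_option backward.isDefEq.respectTransparency false
set_option backward.isDefEq.respectTransparency.types false
set_option linter.style.haveILetI false
set_option linter.dupNamespace false
set_option linter.unusedVariables false

universe u

open CategoryTheory CategoryTheory.Limits AlgebraicGeometry Opposite TopologicalSpace
open Groth.Agent.Lib.EtQCoh.Amitsur Groth.Agent.Lib.EtSite.DisjointCover Groth.Agent.Lib.EtJ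

noncomputable section

namespace Groth.Agent.Lib.EtQCoh.AffGood

variable {X : Scheme.{u}}

/-- A class of sheaves whose resolutions are exact on affine objects. -/
structure AffGood (P : EtCoh.Ab X → Prop) : Prop where
  surj : ∀ {S : ShortComplex (EtCoh.Ab X)}, S.ShortExact → P S.X₁ →
    ∀ U : X.Etale, IsAffine U.left → Function.Surjective (S.g.hom.app (op U))
  quot : ∀ {S : ShortComplex (EtCoh.Ab X)}, S.ShortExact → Injective S.X₂ → P S.X₁ → P S.X₃
  iso : ∀ {A B : EtCoh.Ab X}, (A ≅ B) → P A → P B

/-- Sections of the kernel. -/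
theorem exists_section_of_exact {S : ShortComplex (EtCoh.Ab X)} (hS : S.Exact) [Mono S.f] (U : X.Etale)
    (x : EtCoh.sect S.X₂ U) (hx : S.g.hom.app (op U) x = 0) :
    ∃ y : EtCoh.sect S.X₁ U, S.f.hom.app (op U) y = x :=
  (ShortComplex.ab_exact_iff _).1 (hS.map_of_mono_of_preservesKernel
    ((sheafSections X.smallEtaleTopology AddCommGrpCat.{u + 1}).obj (op U)) inferInstance inferInstance) x hx

theorem app_injective {A B : EtCoh.Ab X} (f : A ⟶ B) [Mono f] (U : X.Etale) :
    Function.Injective (f.hom.app (op U)) := by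
  have : Mono (((sheafSections X.smallEtaleTopology AddCommGrpCat.{u + 1}).obj (op U)).map f) :=
    ((sheafSections X.smallEtaleTopology AddCommGrpCat.{u + 1}).obj (op U)).map_mono f
  exact (AddCommGrpCat.mono_iff_injective _).1 this

theorem app_comp_zero {S : ShortComplex (EtCoh.Ab X)} (U : X.Etaleᵒᵖ) (x : S.X₁.obj.obj U) :
    S.g.hom.app U (S.f.hom.app U x) = 0 :=
  ConcreteCategory.congr_hom (congrArg (fun m => m.hom.app U) S.zero) x

variable {P : EtCoh.Ab X → Prop} (hP : AffGood P) {G : EtCoh.Ab X} (hG : P G)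
  (R : InjectiveResolution G)

include hP hG in
theorem cyc_mem : ∀ k, P (RightAcyclic.cyc R k)
  | 0 => hP.iso (RightAcyclic.isoCyc₀ R) hG
  | k + 1 => hP.quot (RightAcyclic.seq_shortExact R k) (R.injective k) (cyc_mem k)

include hP hG in
theorem seq_surjective (k : ℕ) (U : X.Etale) (hU : IsAffine U.left) :
    Function.Surjective ((RightAcyclic.seq R k).g.hom.app (op U)) :=
  hP.surj (RightAcyclic.seq_shortExact R k) (cyc_mem hP hG R k) U hU

include hP hG in
/-- **The resolution is exact on affine objects.** -/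
theorem exists_of_d_eq_zero (k : ℕ) (U : X.Etale) (hU : IsAffine U.left)
    (x : EtCoh.sect (R.cocomplex.X (k + 1)) U)
    (hx : (R.cocomplex.d (k + 1) (k + 2)).hom.app (op U) x = 0) :
    ∃ y : EtCoh.sect (R.cocomplex.X k) U, (R.cocomplex.d k (k + 1)).hom.app (op U) y = x := by
  let d := R.cocomplex.d (k + 1) (k + 2)
  obtain ⟨z, hz⟩ := exists_section_of_exact (S := ShortComplex.mk (kernel.ι d) d (kernel.condition d))
    (ShortComplex.exact_of_f_is_kernel _ (kernelIsKernel d)) U x hx
  obtain ⟨y, hy⟩ := seq_surjective hP hG R k U hU z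
  refine ⟨y, ?_⟩
  rw [← hz, ← hy]
  exact (ConcreteCategory.congr_hom (congrArg (fun m => m.hom.app (op U))
    (kernel.lift_ι d (R.cocomplex.d k (k + 1)) (R.cocomplex.d_comp_d _ _ _))) y).symm

section Cech

/-- Cech acyclicity along faithfully flat étale morphisms of affines. -/
def CechAff (G : EtCoh.Ab X) : Prop :=
  ∀ ⦃U V : X.Etale⦄ (v : V ⟶ U), IsAffine U.left → IsAffine V.left → Flat v.left → Surjective v.left →
    ∀ p : ℕ, IsZero (EtCech.cechH (Fam v) G.obj (p + 1))

theorem CechAff.of_iso {A B : EtCoh.Ab X} (e : A ≅ B) (h : CechAff A) : CechAff B :=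
  fun _ _ v hU hV hf hs p => (h v hU hV hf hs p).of_iso
    ((EtCech.cechHFunctor (Fam v) (p + 1)).mapIso
      ((sheafToPresheaf X.smallEtaleTopology AddCommGrpCat.{u + 1}).mapIso e.symm))

/-- A covering sieve of an affine object contains the pieces of a finite family of affines which
is jointly surjective. -/
theorem exists_affine_refinement (U : X.Etale) [IsAffine U.left] (T : Sieve U)
    (hT : T ∈ X.smallEtaleTopology U) :
    ∃ (σ : Type u) (_ : Finite σ) (W : σ → X.Etale) (w : ∀ i, W i ⟶ U),
      (∀ i, IsAffine (W i).left) ∧ (∀ i, T (w i)) ∧ ∀ u : U.left, ∃ (i : σ) (a : (W i).left), (w i).left.base a = u := by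
  have h := (EtSite.Basic.mem_topology_iff T).1 hT
  choose Vx fx hfx vx hvx using h
  have hex : ∀ u, ∃ O : (Vx u).left.Opens, IsAffineOpen O ∧ vx u ∈ O := fun u => by
    obtain ⟨_, ⟨O, hO, rfl⟩, hmem, -⟩ := (Vx u).left.isBasis_affineOpens.exists_subset_of_mem_open
      (show vx u ∈ (⊤ : (Vx u).left.Opens) from trivial) isOpen_univ
    exact ⟨O, hO, hmem⟩
  choose O hO hvO using hex
  let W : U.left → X.Etale := fun u =>
    MorphismProperty.Over.mk _ ((O u).ι ≫ (Vx u).hom)
      (show Etale ((O u).ι ≫ (Vx u).hom) from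
        haveI : Etale (Vx u).hom := (Vx u).prop
        inferInstance)
  let w : ∀ u, W u ⟶ U := fun u =>
    (MorphismProperty.Over.homMk (O u).ι rfl : W u ⟶ Vx u) ≫ fx u
  have hopen : ∀ u, IsOpen (Set.range (w u).left.base) := fun u => by
    haveI : Etale ((w u).left ≫ U.hom) := by
      rw [show (w u).left ≫ U.hom = (W u).hom from Over.w (w u).hom]
      exact (W u).prop
    haveI : Etale U.hom := U.prop
    haveI : Etale (w u).left := Etale.of_comp (w u).left U.hom
    exact (w u).left.isOpenMap.isOpen_range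
  have hcov : (Set.univ : Set U.left) ⊆ ⋃ u, Set.range (w u).left.base := fun u _ => by
    refine Set.mem_iUnion.2 ⟨u, ⟨vx u, hvO u⟩, ?_⟩
    exact hvx u
  obtain ⟨t, ht⟩ := (isCompact_univ (X := U.left)).elim_finite_subcover _ hopen hcov
  refine ⟨{u // u ∈ t}, inferInstance, fun i => W i.1, fun i => w i.1, fun i => hO i.1,
    fun i => T.downward_closed (hfx i.1) _, fun u => ?_⟩
  obtain ⟨i, hi, a, ha⟩ := Set.mem_iUnion₂.1 (ht (Set.mem_univ u))
  exact ⟨⟨i, hi⟩, a, ha⟩

/-- Sections lift to a single faithfully flat étale affine object. -/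
theorem exists_affine_lift {A B : EtCoh.Ab X} (g : A ⟶ B) [Epi g] (U : X.Etale) [IsAffine U.left]
    (s : EtCoh.sect B U) :
    ∃ (V : X.Etale) (v : V ⟶ U), IsAffine V.left ∧ Flat v.left ∧ Surjective v.left ∧
      ∃ t : EtCoh.sect A V, g.hom.app (op V) t = B.obj.map v.op s := by
  have : Sheaf.IsLocallySurjective g := (Sheaf.isLocallySurjective_iff_epi' _ g).2 inferInstance
  obtain ⟨σ, _, W, w, hW, hwT, hws⟩ := exists_affine_refinement U _
    (Presheaf.imageSieve_mem X.smallEtaleTopology g.hom s)
  have hWe : ∀ i, Etale (W i).hom := fun i => (W i).prop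
  let V : X.Etale := MorphismProperty.Over.mk _ (Sigma.desc fun i => (W i).hom)
    (IsZariskiLocalAtSource.sigmaDesc (P := @Etale) hWe)
  let o : ∀ i, W i ⟶ V := fun i => MorphismProperty.Over.homMk (Sigma.ι (fun i => (W i).left) i)
    (Sigma.ι_desc (fun i => (W i).hom) i)
  let v : V ⟶ U := MorphismProperty.Over.homMk (Sigma.desc fun i => (w i).left)
    (Sigma.hom_ext _ _ fun i => by
      show Sigma.ι (fun i => (W i).left) i ≫ Sigma.desc (fun i => (w i).left) ≫ U.hom =
        Sigma.ι (fun i => (W i).left) i ≫ Sigma.desc (fun i => (W i).hom)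
      rw [Sigma.ι_desc_assoc, Sigma.ι_desc]
      exact Over.w (w i).hom)
  have hov : ∀ i, o i ≫ v = w i := fun i =>
    MorphismProperty.Over.Hom.ext (Sigma.ι_desc (fun i => (w i).left) i)
  have hD : IsDisjointCover W o :=
    { isOpenImmersion := fun i => inferInstanceAs (IsOpenImmersion (Sigma.ι (fun i => (W i).left) i))
      exists_eq := fun x => by
        obtain ⟨⟨i, d⟩, hd⟩ := (sigmaMk (fun i => (W i).left)).surjective x
        exact ⟨i, d, Eq.trans (sigmaMk_mk (fun i => (W i).left) i d).symm hd⟩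
      disjoint := fun i j x y h => by
        by_contra hij
        let q := (Sigma.ι (fun i => (W i).left) i).base x
        have := disjoint_iff.1 (disjoint_opensRange_sigmaι (fun i => (W i).left) i j hij)
        have hq : q ∈ (Sigma.ι (fun i => (W i).left) i).opensRange ⊓ (Sigma.ι (fun i => (W i).left) j).opensRange :=
          ⟨⟨x, rfl⟩, ⟨y, h.symm⟩⟩
        rw [this] at hq
        exact hq }
  haveI : IsAffine V.left := inferInstanceAs (IsAffine (∐ fun i => (W i).left))
  haveI : Etale (v.left ≫ U.hom) := by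
    rw [show v.left ≫ U.hom = V.hom from Over.w v.hom]
    exact V.prop
  haveI : Etale U.hom := U.prop
  haveI : Etale v.left := Etale.of_comp v.left U.hom
  refine ⟨V, v, inferInstance, inferInstance, ⟨fun u => ?_⟩, ?_⟩
  · obtain ⟨i, a, ha⟩ := hws u
    exact ⟨(o i).left.base a, by rw [← ha, ← hov i]; rfl⟩
  · choose t ht using hwT
    obtain ⟨t', ht'⟩ := hD.exists_glue A t
    refine ⟨t', Groth.Agent.Lib.EtSite.Stalk.sections_ext B _ _ fun x => ?_⟩
    obtain ⟨i, d, hd⟩ := hD.exists_eq x
    refine ⟨W i, o i, ?_, d, hd⟩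
    rw [← NatTrans.naturality_apply g.hom (o i).op t', ht', ht i, ← ConcreteCategory.comp_apply,
      ← B.obj.map_comp, ← op_comp, hov i]

theorem cech_surj {S : ShortComplex (EtCoh.Ab X)} (hS : S.ShortExact) (h : CechAff S.X₁) (U : X.Etale)
    (hU : IsAffine U.left) : Function.Surjective (S.g.hom.app (op U)) := by
  intro s
  have := hS.epi_g
  have := hS.mono_f
  obtain ⟨V, v, hV, hf, hs, t, ht⟩ := exists_affine_lift S.g U s
  refine CechPsh.Surj.exists_lift (Fam v) X.smallEtaleTopology S.f.hom S.g.hom S.X₂.2 S.X₃.2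
    (fun W => app_injective S.f W.unop) (fun W x => app_comp_zero W x)
    (fun W x hx => exists_section_of_exact hS.exact W.unop x hx) ?_ (h v hU hV hf hs 0) s
    fun _ => ⟨t, ht⟩
  exact EtSite.Basic.ofArrows_mem _ _ fun u => by
    obtain ⟨a, ha⟩ := hs.surj u
    exact ⟨PUnit.unit, a, ha⟩

theorem cech_quot {S : ShortComplex (EtCoh.Ab X)} (hS : S.ShortExact) (hI : Injective S.X₂)
    (h : CechAff S.X₁) : CechAff S.X₃ := by
  intro U V v hU hV hf hs p
  have := hS.mono_f
  haveI : Injective S.X₂.obj := Injective.injective_of_adjoint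
    (sheafificationAdjunction X.smallEtaleTopology AddCommGrpCat.{u + 1}) S.X₂
  refine CechPsh.LongExact.isZero_cechH_right (Fam v) S.f.hom S.g.hom
    (fun W x => app_comp_zero W x) (fun W => app_injective S.f W.unop)
    (fun W x hx => exists_section_of_exact hS.exact W.unop x hx) (fun n i => ?_) (p + 1)
    (CechPsh.Vanish.isZero_cechH (Fam v) S.X₂.obj p) (h v hU hV hf hs (p + 1))
  obtain rfl : i = ci n := Subsingleton.elim _ _
  haveI := isAffine_Pr v n
  exact cech_surj hS h _ (isAffine_Pr v n)

/-- Cech acyclic sheaves form an affine-good class. -/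
theorem affGood_cechAff : AffGood (X := X) CechAff :=
  ⟨cech_surj, cech_quot, CechAff.of_iso⟩

end Cech

section Assoc

variable (F : X.Modules) [F.IsQuasicoherent]

/-- The sheaf of sections of a quasi-coherent module. -/
abbrev qSh : EtCoh.Ab X := ⟨DescAlg.PbSec.etPresheaf F, DescAlg.PbSec.isSheaf_etPresheaf F⟩

theorem cechAff_qSh : CechAff (qSh F) := fun _ _ v hU hV hf hs p =>
  Amitsur.isZero_cechH v F p

/-- A sheaf associated to a quasi-coherent module is its sheaf of sections. -/
theorem nonempty_iso_qSh {G : EtCoh.Ab X} (hG : EtAssoc.IsAssoc F G) : Nonempty (G ≅ qSh F) := by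
  obtain ⟨e, he⟩ := hG
  refine ⟨(fullyFaithfulSheafToPresheaf _ _).preimageIso (NatIso.ofComponents
    (fun U => AddEquiv.toAddCommGrpIso (e U.unop)) fun {U U'} g => ?_)⟩
  ext s
  refine ULift.ext _ _ ?_
  refine (he U.unop U'.unop g.unop s).trans ?_
  show _ = DescAlg.PbSec.R g.unop.left (Over.w g.unop.hom) F (W := ⊤) (W' := ⊤) le_top (e U.unop s).down
  rw [DescAlg.PbSec.R_eq]
  simp only [EtAssoc.resMap, EtAssoc.step1, EtAssoc.step2, EtAssoc.step2a, DescAlg.PbSec.tr,
    Scheme.Modules.pullbackCongr, Iso.trans_hom, Iso.app_hom, eqToIso.hom, eqToHom_app]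
  rfl

theorem cechAff_of_isAssoc {G : EtCoh.Ab X} (hG : EtAssoc.IsAssoc F G) : CechAff G := by
  obtain ⟨e⟩ := nonempty_iso_qSh F hG
  exact (cechAff_qSh F).of_iso e.symm

end Assoc

end Groth.Agent.Lib.EtQCoh.AffGood
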