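import Groth.Agent.Lib.DescAlg.PbSecEtale
import Groth.Agent.Lib.DescAlg.PbSecAffine
import Groth.Agent.Lib.CechPsh.Vanish
import Mathlib.Algebra.Category.Ring.Constructions
import Mathlib.CategoryTheory.Limits.Constructions.LimitsOfProductsAndEqualizers
import Mathlib.CategoryTheory.Limits.Constructions.Over.Basic

/-!
# Cech acyclicity of quasi-coherent modules along faithfully flat étale maps of affines
-/

set_option autoImplicit false
set_option backward.isDefEq.respectTransparency false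
set_option backward.isDefEq.respectTransparency.types false
set_option linter.style.haveILetI false

universe u

open CategoryTheory CategoryTheory.Limits AlgebraicGeometry Opposite TopologicalSpace
open Groth.Agent.Lib.CechPsh.Vanish Groth.Agent.Lib.DescAlg.PbSec
open scoped TensorProduct

noncomputable section

namespace Groth.Agent.Lib.EtQCoh.Amitsur

variable {X : Scheme.{u}}

instance hasFiniteProducts_over (U : X.Etale) : HasFiniteProducts (Over U) := by
  have : HasFiniteLimits (Over U) := hasFiniteLimits_of_hasTerminal_and_pullbacks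
  infer_instance

variable {U V : X.Etale} (v : V ⟶ U)

/-- The one-member family. -/
abbrev Fam : PUnit.{u + 2} → Over U := fun _ => Over.mk v

/-- The constant index. -/
abbrev ci (n : ℕ) : Fin (n + 1) → PUnit.{u + 2} := fun _ => PUnit.unit

/-- The iterated fibre product of `v`. -/
abbrev Pr (n : ℕ) : Over U := prd (Fam v) (ci n)

/-- Projections. -/
abbrev pr {n : ℕ} (k : Fin (n + 1)) : Pr v n ⟶ Over.mk v := Pi.π (Fam v ∘ ci n) k

/-- Faces. -/
abbrev fc (n : ℕ) (a : Fin (n + 2)) : Pr v (n + 1) ⟶ Pr v n := face (Fam v) (ci (n + 1)) a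

theorem fc_pr (n : ℕ) (a : Fin (n + 2)) (k : Fin (n + 1)) :
    fc v n a ≫ pr v k = pr v (a.succAbove k) :=
  Pi.lift_π _ k

theorem fc_fc (n : ℕ) (a : Fin (n + 2)) :
    fc v (n + 1) 0 ≫ fc v n a = fc v (n + 1) a.succ ≫ fc v n 0 := by
  refine Pi.hom_ext _ _ fun k => ?_
  show (fc v (n + 1) 0 ≫ fc v n a) ≫ pr v k = (fc v (n + 1) a.succ ≫ fc v n 0) ≫ pr v k
  rw [Category.assoc, Category.assoc, fc_pr, fc_pr, fc_pr, fc_pr, Fin.succAbove_zero, Fin.succAbove_zero,
    Fin.succ_succAbove_succ]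

theorem fc_succ_pr_zero (n : ℕ) (a : Fin (n + 2)) :
    fc v (n + 1) a.succ ≫ pr v 0 = pr v (0 : Fin (n + 3)) := by
  rw [fc_pr, Fin.succ_succAbove_zero]

theorem isPullback_succ (n : ℕ) :
    IsPullback (pr v (0 : Fin (n + 2))).left (fc v n 0).left v (Pr v n).hom := by
  have hc : (pr v (0 : Fin (n + 2))).left ≫ v = (fc v n 0).left ≫ (Pr v n).hom :=
    (Over.w (pr v (0 : Fin (n + 2)))).trans (Over.w (fc v n 0)).symm
  refine IsPullback.of_isLimit' ⟨hc⟩ (PullbackCone.IsLimit.mk _
    (fun s => (Pi.lift (f := Fam v ∘ ci (n + 1)) (P := Over.mk (s.fst ≫ v))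
      (Fin.cases (motive := fun _ => Over.mk (s.fst ≫ v) ⟶ Over.mk v) (Over.homMk s.fst)
        fun j => (Over.homMk s.snd s.condition.symm : Over.mk (s.fst ≫ v) ⟶ Pr v n) ≫ pr v j)).left)
    (fun s => ?_) (fun s => ?_) (fun s m h₁ h₂ => ?_))
  · exact (Over.comp_left _ _ _ _ _).symm.trans (congrArg Over.Hom.left (Pi.lift_π _ (0 : Fin (n + 2))))
  · refine (Over.comp_left _ _ _ _ _).symm.trans (congrArg Over.Hom.left ?_ :
      _ = (Over.homMk s.snd s.condition.symm : Over.mk (s.fst ≫ v) ⟶ Pr v n).left)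
    refine Pi.hom_ext _ _ fun j => ?_
    show (_ ≫ fc v n 0) ≫ pr v j = _
    rw [Category.assoc, fc_pr, Fin.succAbove_zero]
    exact Pi.lift_π _ j.succ
  · let m' : Over.mk (s.fst ≫ v) ⟶ Pr v (n + 1) := Over.homMk m (by
      show m ≫ (Pr v (n + 1)).hom = s.fst ≫ v
      rw [← Over.w (pr v (0 : Fin (n + 2))), ← Category.assoc, h₁]
      rfl)
    refine congrArg Over.Hom.left (?_ : m' = _)
    refine Pi.hom_ext _ _ fun k => ?_
    refine Eq.trans ?_ (Pi.lift_π _ k).symm
    refine Fin.cases ?_ (fun j => ?_) k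
    · exact Over.OverMorphism.ext h₁
    · rw [Fin.cases_succ]
      show m' ≫ pr v j.succ = _
      rw [← Fin.succAbove_zero, ← fc_pr, ← Category.assoc]
      exact congrArg (· ≫ pr v j) (Over.OverMorphism.ext h₂)

theorem isPullback_succ_scheme (n : ℕ) :
    IsPullback (pr v (0 : Fin (n + 2))).left.left (fc v n 0).left.left v.left (Pr v n).hom.left :=
  (isPullback_succ v n).map (Scheme.Etale.forget X ⋙ Over.forget X)

theorem isIso_pr_zero : IsIso (pr v (0 : Fin 1)) := by
  refine ⟨Pi.lift fun _ => 𝟙 _, Pi.hom_ext _ _ fun k => ?_, ?_⟩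
  · obtain rfl : k = 0 := Subsingleton.elim (α := Fin 1) _ _
    rw [Category.assoc, Pi.lift_π, Category.comp_id, Category.id_comp]
  · exact Pi.lift_π _ (0 : Fin 1)

variable [IsAffine U.left] [IsAffine V.left]

theorem isAffine_Pr (n : ℕ) : IsAffine (Pr v n).left.left := by
  induction n with
  | zero =>
    haveI : IsAffine (Over.mk v).left.left := inferInstanceAs (IsAffine V.left)
    have := isIso_pr_zero v
    have : IsIso (pr v (0 : Fin 1)).left.left :=
      inferInstanceAs (IsIso ((Over.forget U ⋙ Scheme.Etale.forget X ⋙ Over.forget X).map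
        (pr v (0 : Fin 1))))
    exact IsAffine.of_isIso (pr v (0 : Fin 1)).left.left
  | succ n ih =>
    haveI : IsAffine (Over.mk v).left.left := inferInstanceAs (IsAffine V.left)
    haveI : IsAffine (((Functor.fromPUnit U).obj (Over.mk v).right).left) := inferInstanceAs (IsAffine U.left)
    haveI := ih
    exact .of_isPullback (isPullback_succ_scheme v n)

/-- `g` on global functions. -/
abbrev aL {Y Z : Scheme.{u}} (g : Z ⟶ Y) : Γ(Y, ⊤) →+* Γ(Z, ⊤) := (g.appLE ⊤ ⊤ le_top).hom

omit [IsAffine U.left] [IsAffine V.left] in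
theorem aL_comp {Y Z W : Scheme.{u}} {f : W ⟶ Z} {g : Z ⟶ Y} {h : W ⟶ Y} (e : f ≫ g = h) (r : Γ(Y, ⊤)) :
    aL f (aL g r) = aL h r :=
  (congr($(Scheme.Hom.appLE_comp_appLE f g ⊤ ⊤ ⊤ le_top le_top).hom r)).trans
    (appLE_congr_hom e le_top le_top r)

/-- The functions on `V`, as an algebra over those on `U` through `v`. -/
def Bv (_v : V ⟶ U) : Type u := Γ(V.left, ⊤)

instance : CommRing (Bv v) := inferInstanceAs (CommRing Γ(V.left, ⊤))

instance algV : Algebra Γ(U.left, ⊤) (Bv v) := (aL v.left).toAlgebra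

/-- A projection, on underlying schemes. -/
abbrev pl {n : ℕ} (k : Fin (n + 1)) : (Pr v n).left.left ⟶ V.left := (pr v k).left.left

/-- A projection on functions. -/
abbrev plB {n : ℕ} (k : Fin (n + 1)) : Bv v →+* Γ((Pr v n).left.left, ⊤) := aL (pl v k)

omit [IsAffine U.left] [IsAffine V.left] in
theorem w_left {A B : Over U} (g : A ⟶ B) : g.left.left ≫ B.hom.left = A.hom.left :=
  congrArg (fun m => m.left) (Over.w g)

variable (F : X.Modules)

/-- Sections over the iterated fibre products. -/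
abbrev Sec (n : ℕ) : Type u := Γ((Scheme.Modules.pullback (Pr v n).left.hom).obj F, ⊤)

/-- The face maps on sections. -/
abbrev res {Y Y' : X.Etale} (g : Y' ⟶ Y) :
    Γ((Scheme.Modules.pullback Y.hom).obj F, ⊤) →+ Γ((Scheme.Modules.pullback Y'.hom).obj F, ⊤) :=
  R g.left (Over.w g.hom) F (W := ⊤) (W' := ⊤) le_top

omit [IsAffine U.left] [IsAffine V.left] in
theorem res_comp {Y Y' Y'' : X.Etale} (g : Y' ⟶ Y) (g' : Y'' ⟶ Y')
    (x : Γ((Scheme.Modules.pullback Y.hom).obj F, ⊤)) : res F g' (res F g x) = res F (g' ≫ g) x :=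
  R_comp g.left g'.left _ (Over.w g.hom) (Over.w g'.hom) rfl F (W := ⊤) (W' := ⊤) (W'' := ⊤)
    le_top le_top x

omit [IsAffine U.left] [IsAffine V.left] in
theorem res_smul {Y Y' : X.Etale} (g : Y' ⟶ Y) (r : Γ(Y.left, ⊤))
    (x : Γ((Scheme.Modules.pullback Y.hom).obj F, ⊤)) : res F g (r • x) = aL g.left r • res F g x :=
  R_smul g.left (Over.w g.hom) F (W := ⊤) (W' := ⊤) le_top r x

instance modSec (n : ℕ) : Module Γ(U.left, ⊤) (Sec v F n) :=
  Module.compHom _ (aL (Pr v n).hom.left)

omit [IsAffine U.left] [IsAffine V.left] in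
theorem smul_def {n : ℕ} (r : Γ(U.left, ⊤)) (x : Sec v F n) :
    r • x = aL (Pr v n).hom.left r • x := rfl

/-- A face as a linear map. -/
def δ (n : ℕ) (a : Fin (n + 2)) : Sec v F n →ₗ[Γ(U.left, ⊤)] Sec v F (n + 1) :=
  { res F (fc v n a).left with
    map_smul' := fun r x => by
      show res F (fc v n a).left (aL (Pr v n).hom.left r • x) = aL (Pr v (n + 1)).hom.left r • _
      rw [res_smul, aL_comp (w_left (fc v n a))]
      rfl }

omit [IsAffine U.left] [IsAffine V.left] in
theorem δ_apply (n : ℕ) (a : Fin (n + 2)) (x : Sec v F n) : δ v F n a x = res F (fc v n a).left x := rfl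

/-- The differential. -/
def D (n : ℕ) : Sec v F n →ₗ[Γ(U.left, ⊤)] Sec v F (n + 1) :=
  ∑ a : Fin (n + 2), (-1 : ℤ) ^ (a : ℕ) • δ v F n a

/-- `b ⊗ x ↦ b|₀ • δ₀ x`. -/
def θ (n : ℕ) : (Bv v) ⊗[Γ(U.left, ⊤)] Sec v F n →ₗ[Γ(U.left, ⊤)] Sec v F (n + 1) :=
  TensorProduct.lift (LinearMap.mk₂ Γ(U.left, ⊤)
    (fun b x => plB v (0 : Fin (n + 2)) b • δ v F n 0 x)
    (fun b b' x => by rw [map_add, add_smul])
    (fun r b x => by
      rw [Algebra.smul_def, map_mul, mul_smul]
      show aL (pl v (0 : Fin (n + 2))) (aL v.left r) • _ = _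
      exact congrArg (· • (plB v (0 : Fin (n + 2)) b • δ v F n 0 x))
        (aL_comp (w_left (pr v (0 : Fin (n + 2)))) r))
    (fun b x x' => by rw [map_add, smul_add])
    (fun r b x => by
      rw [LinearMap.map_smul]
      exact ((congrArg (plB v (0 : Fin (n + 2)) b • ·) (smul_def v F r (δ v F n 0 x))).trans
        (smul_comm _ _ _)).trans (smul_def v F r _).symm))

omit [IsAffine U.left] [IsAffine V.left] in
theorem θ_tmul (n : ℕ) (b : Bv v) (x : Sec v F n) :
    θ v F n (b ⊗ₜ x) = plB v (0 : Fin (n + 2)) b • res F (fc v n 0).left x :=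
  TensorProduct.lift.tmul _ _

variable [F.IsQuasicoherent]

set_option maxHeartbeats 800000 in
theorem θ_bijective (n : ℕ) : Function.Bijective (θ v F n) := by
  let A := Γ(U.left, ⊤)
  let B := Bv v
  let C := Γ((Pr v n).left.left, ⊤)
  let C' := Γ((Pr v (n + 1)).left.left, ⊤)
  let g : (Pr v (n + 1)).left.left ⟶ (Pr v n).left.left := (fc v n 0).left.left
  letI : Algebra A C := (aL (Pr v n).hom.left).toAlgebra
  letI : Algebra A C' := (aL (Pr v (n + 1)).hom.left).toAlgebra
  letI : Algebra B C' := (plB v (0 : Fin (n + 2))).toAlgebra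
  letI : Algebra C C' := (g.appLE ⊤ ⊤ le_top).hom.toAlgebra
  haveI : IsScalarTower A C C' := IsScalarTower.of_algebraMap_eq fun r =>
    (aL_comp (w_left (fc v n 0)) r).symm
  haveI : IsScalarTower A B C' := IsScalarTower.of_algebraMap_eq fun r =>
    (aL_comp (w_left (pr v (0 : Fin (n + 2)))) r).symm
  haveI := isAffine_Pr v n
  haveI : IsAffine (Over.mk v).left.left := inferInstanceAs (IsAffine V.left)
  haveI : IsAffine (((Functor.fromPUnit U).obj (Over.mk v).right).left) := inferInstanceAs (IsAffine U.left)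
  haveI := isAffine_Pr v (n + 1)
  haveI : IsScalarTower A C (Sec v F n) := ⟨fun a c x => mul_smul (aL (Pr v n).hom.left a) c x⟩
  haveI : Algebra.IsPushout A B C C' := by
    have h1 := isPushout_appTop_of_isPullback (isPullback_succ_scheme v n)
    have eL : ∀ {Y Z : Scheme.{u}} (p : Z ⟶ Y), p.appTop = CommRingCat.ofHom (aL p) := fun p => by
      rw [Scheme.Hom.appTop, Scheme.Hom.app_eq_appLE]
      rfl
    rw [eL, eL, eL, eL] at h1
    exact (CommRingCat.isPushout_iff_isPushout (R := A) (S := C) (R' := B) (S' := C')).1 h1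
  let e := Algebra.IsPushout.cancelBaseChange A B C C' (Sec v F n)
  have hb := RTensor_bijective g (Over.w (fc v n 0).left.hom) F (W := ⊤) (W' := ⊤)
    (isAffineOpen_top _) (isAffineOpen_top _) le_top
  have key : ∀ t, θ v F n t = RTensor g (Over.w (fc v n 0).left.hom) F le_top (e.symm t) := fun t => by
    induction t using TensorProduct.induction_on with
    | zero => simp only [map_zero]
    | add a b ha hb => simp only [map_add, ha, hb]
    | tmul b x =>
      rw [θ_tmul, Algebra.IsPushout.cancelBaseChange_symm_tmul, RTensor_tmul]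
      rfl
  have : (θ v F n : _ → _) = RTensor g (Over.w (fc v n 0).left.hom) F le_top ∘ e.symm := funext key
  rw [this]
  exact hb.comp e.symm.bijective

variable [Flat v.left] [Surjective v.left]

set_option maxHeartbeats 1600000 in
theorem exists_of_D_eq_zero (n : ℕ) (x : Sec v F (n + 1)) (hx : D v F (n + 1) x = 0) :
    ∃ y, D v F n y = x := by
  have hff : Module.FaithfullyFlat Γ(U.left, ⊤) (Bv v) := by
    have := (Flat.flat_and_surjective_iff_faithfullyFlat_of_isAffine v.left).mp ⟨‹_›, ‹_›⟩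
    rw [Scheme.Hom.appTop, Scheme.Hom.app_eq_appLE] at this
    exact this
  suffices x ∈ LinearMap.range (D v F n) from this
  rw [← Submodule.Quotient.mk_eq_zero]
  refine (Module.FaithfullyFlat.one_tmul_eq_zero_iff Γ(U.left, ⊤) _ (A := Bv v) _).1 ?_
  obtain ⟨t, ht⟩ := (θ_bijective v F n).2 x
  suffices h : LinearMap.lTensor (Bv v) (D v F n) t = (1 : Bv v) ⊗ₜ[Γ(U.left, ⊤)] x by
    have h' := congrArg (LinearMap.lTensor (Bv v) (LinearMap.range (D v F n)).mkQ) h
    rw [← LinearMap.lTensor_comp_apply, LinearMap.range_mkQ_comp, LinearMap.lTensor_zero,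
      LinearMap.zero_apply, LinearMap.lTensor_tmul] at h'
    exact h'.symm
  apply (θ_bijective v F (n + 1)).1
  have key : ∀ t, θ v F (n + 1) (LinearMap.lTensor (Bv v) (D v F n) t) =
      ∑ a : Fin (n + 2), (-1 : ℤ) ^ (a : ℕ) • δ v F (n + 1) a.succ (θ v F n t) := by
    intro t
    induction t using TensorProduct.induction_on with
    | zero => simp
    | add a b ha hb => simp [ha, hb, Finset.sum_add_distrib]
    | tmul b y =>
      simp only [LinearMap.lTensor_tmul, D, LinearMap.sum_apply, TensorProduct.tmul_sum, map_sum]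
      refine Finset.sum_congr rfl fun a _ => ?_
      rw [LinearMap.smul_apply, TensorProduct.tmul_smul, map_zsmul, θ_tmul, θ_tmul, δ_apply, δ_apply,
        res_smul, res_comp, res_comp, ← Over.comp_left, ← Over.comp_left, fc_fc]
      congr 2
      exact (aL_comp (congrArg (fun m => m.left.left) (fc_succ_pr_zero v n a)) b).symm
  rw [key, ht, θ_tmul, map_one, one_smul]
  have hneg : ∀ (a : Fin (n + 2)) (y : Sec v F (n + 1)),
      (-1 : ℤ) ^ ((a.succ : Fin (n + 3)) : ℕ) • y = -((-1 : ℤ) ^ (a : ℕ) • y) := fun a y => by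
    rw [Fin.val_succ, pow_succ, mul_neg_one, neg_smul]
  rw [D, LinearMap.sum_apply, Fin.sum_univ_succ] at hx
  simp only [LinearMap.smul_apply, Fin.val_zero, pow_zero, one_smul] at hx
  refine Eq.symm ?_
  refine (eq_neg_of_add_eq_zero_left hx).trans ?_
  rw [← Finset.sum_neg_distrib]
  refine Finset.sum_congr rfl fun a _ => ?_
  show -((-1 : ℤ) ^ ((a.succ : Fin (n + 3)) : ℕ) • δ v F (n + 1) a.succ x) = _
  simp only [Fin.val_succ, pow_succ, mul_neg, mul_one, neg_smul]
  exact neg_neg _

/-- **Cech acyclicity along a faithfully flat étale morphism of affines.** -/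
theorem isZero_cechH (p : ℕ) :
    IsZero (EtCech.cechH (Fam v) (etPresheaf F) (p + 1)) := by
  refine (HomologicalComplex.exactAt_iff_isZero_homology _ _).1 ?_
  rw [HomologicalComplex.exactAt_iff' _ p (p + 1) (p + 2) (by simp) (by simp),
    ShortComplex.ab_exact_iff]
  intro x hx
  let c : ∀ n, (EtCech.cechComplex (Fam v) (etPresheaf F)).X n → Sec v F n :=
    fun n z => (proj (Fam v) (etPresheaf F) n (ci n) z).down
  have hd : ∀ n z, c (n + 1) ((EtCech.cechComplex (Fam v) (etPresheaf F)).d n (n + 1) z) =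
      D v F n (c n z) := fun n z => by
    refine (congrArg ULift.down (proj_d_apply (Fam v) (etPresheaf F) n (ci (n + 1)) z)).trans ?_
    rw [D, LinearMap.sum_apply]
    refine (map_sum (AddEquiv.ulift (α := Sec v F (n + 1))).toAddMonoidHom _ _).trans ?_
    refine Finset.sum_congr rfl fun a _ => ?_
    rw [map_zsmul]
    rfl
  have hx' : D v F (p + 1) (c (p + 1) x) = 0 := by
    rw [← hd]
    refine Eq.trans (congrArg (c (p + 2)) hx) ?_
    exact congrArg ULift.down (map_zero (proj (Fam v) (etPresheaf F) (p + 2) (ci (p + 2))).hom)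
  obtain ⟨y, hy⟩ := exists_of_D_eq_zero v F p _ hx'
  obtain ⟨z, hz⟩ := exists_cochain (Fam v) (etPresheaf F) p fun i =>
    (ULift.up y : ULift.{u + 1} (Sec v F p))
  refine ⟨z, cochain_ext _ _ (p + 1) fun i => ULift.ext _ _ ?_⟩
  show c (p + 1) _ = c (p + 1) x
  refine (hd p z).trans ?_
  rw [show c p z = y from congrArg ULift.down (hz _)]
  exact hy

end Groth.Agent.Lib.EtQCoh.Amitsur
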