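import Groth.Agent.Lib.EtQCoh.EPre

/-!
# The base change map from the sections of `v^* f_* M` to those of `f'^*`
-/

set_option autoImplicit false
set_option backward.isDefEq.respectTransparency false
set_option backward.isDefEq.respectTransparency.types false
set_option linter.style.haveILetI false

universe u

open CategoryTheory CategoryTheory.Limits AlgebraicGeometry Opposite TopologicalSpace
open ZarCoh.FlatBC.PullbackSections Groth.Agent.Lib.DescAlg.PbSec Groth.Agent.Lib.EtQCoh.LocHomology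

noncomputable section

namespace Groth.Agent.Lib.EtQCoh.BaseChange

section Map

variable {T S : Scheme.{u}} {f : T ⟶ S} {V V' : Scheme.{u}} {v : V ⟶ S} {g : V' ⟶ T} {f' : V' ⟶ V}
  (w : f' ≫ v = g ≫ f) (M : T.Modules)

/-- `f_* M ⟶ v_* f'_* g^* M`. -/
def adjB : (Coh.push f).obj M ⟶
    (Scheme.Modules.pushforward v).obj ((Scheme.Modules.pushforward f').obj ((Scheme.Modules.pullback g).obj M)) :=
  (Scheme.Modules.pushforward f).map ((Scheme.Modules.pullbackPushforwardAdjunction g).unit.app M) ≫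
    (Scheme.Modules.pushforwardComp g f).hom.app _ ≫
      (Scheme.Modules.pushforwardCongr w.symm).hom.app _ ≫ (Scheme.Modules.pushforwardComp f' v).inv.app _

/-- The base change map. -/
def b : (Scheme.Modules.pullback v).obj ((Coh.push f).obj M) ⟶
    (Scheme.Modules.pushforward f').obj ((Scheme.Modules.pullback g).obj M) :=
  ((Scheme.Modules.pullbackPushforwardAdjunction v).homEquiv _ _).symm (adjB w M)

include w in
theorem le_pre {U : S.Opens} {W : V.Opens} (e : W ≤ v ⁻¹ᵁ U) : f' ⁻¹ᵁ W ≤ g ⁻¹ᵁ (f ⁻¹ᵁ U) := by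
  refine le_trans (f'.preimage_mono e) (le_of_eq ?_)
  rw [← Scheme.Hom.comp_preimage, w, Scheme.Hom.comp_preimage]

theorem b_pbRes {U : S.Opens} {W : V.Opens} (e : W ≤ v ⁻¹ᵁ U) (m : Γ((Coh.push f).obj M, U)) :
    (b w M).app W (pbRes v ((Coh.push f).obj M) e m) = pbRes g M (U := f ⁻¹ᵁ U) (le_pre w e) m := by
  let N := (Scheme.Modules.pullback g).obj M
  have h1 : (b w M).app (v ⁻¹ᵁ U) (((Scheme.Modules.pullbackPushforwardAdjunction v).unit.app _).app U m) =
      (adjB w M).app U m := by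
    have := ((Scheme.Modules.pullbackPushforwardAdjunction v).homEquiv _ _).apply_symm_apply (adjB w M)
    rw [Adjunction.homEquiv_unit] at this
    exact congr((($this).app U) m)
  refine (ConcreteCategory.congr_hom ((b w M).mapPresheaf.naturality (homOfLE e).op) _).trans ?_
  refine (congrArg (((Scheme.Modules.pushforward f').obj N).presheaf.map (homOfLE e).op) h1).trans ?_
  simp only [adjB, Scheme.Modules.Hom.comp_app, Scheme.Modules.pushforwardComp_hom_app_app,
    Scheme.Modules.pushforwardComp_inv_app_app, Scheme.Modules.pushforwardCongr_hom_app_app]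
  show N.presheaf.map (homOfLE (f'.preimage_mono e)).op (N.presheaf.map _
      (((Scheme.Modules.pullbackPushforwardAdjunction g).unit.app M).app (f ⁻¹ᵁ U) m)) =
    N.presheaf.map (homOfLE (le_pre w e)).op
      (((Scheme.Modules.pullbackPushforwardAdjunction g).unit.app M).app (f ⁻¹ᵁ U) m)
  rw [← ConcreteCategory.comp_apply, ← N.presheaf.map_comp]
  rfl

end Map

variable {T S : Scheme.{u}} (f : T ⟶ S)

theorem bc_w (V : S.Etale) :
    (pullback.fst V.hom f : ((EtCoh.bc f).obj V).left ⟶ V.left) ≫ V.hom = ((EtCoh.bc f).obj V).hom ≫ f :=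
  pullback.condition

theorem bc_map_fst {V V' : S.Etale} (g : V' ⟶ V) :
    ((EtCoh.bc f).map g).left ≫ (pullback.fst V.hom f : ((EtCoh.bc f).obj V).left ⟶ V.left) =
      (pullback.fst V'.hom f : ((EtCoh.bc f).obj V').left ⟶ V'.left) ≫ g.left :=
  (EtCoh.isPullback_bc_map f g).w

variable (M : T.Modules)

/-- The component of the base change map. -/
def γapp (V : S.Etale) : Γ((Scheme.Modules.pullback V.hom).obj ((Coh.push f).obj M), ⊤) →+
    Γ((Scheme.Modules.pullback ((EtCoh.bc f).obj V).hom).obj M, ⊤) :=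
  ((b (bc_w f V) M).app ⊤).hom

set_option maxHeartbeats 1000000 in
theorem γapp_natural {V V' : S.Etale} (g : V' ⟶ V) (x : Γ((Scheme.Modules.pullback V.hom).obj ((Coh.push f).obj M), ⊤)) :
    γapp f M V' (R g.left (Over.w g.hom) ((Coh.push f).obj M) (W := ⊤) (W' := ⊤) le_top x) =
      R ((EtCoh.bc f).map g).left (Over.w ((EtCoh.bc f).map g).hom) M (W := ⊤) (W' := ⊤) le_top (γapp f M V x) := by
  let p := (pullback.fst V.hom f : ((EtCoh.bc f).obj V).left ⟶ V.left)
  let p' := (pullback.fst V'.hom f : ((EtCoh.bc f).obj V').left ⟶ V'.left)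
  let G := ((EtCoh.bc f).map g).left
  let hG := Over.w ((EtCoh.bc f).map g).hom
  -- both sides are morphisms `v^* f_* M ⟶ g_* p'_* u'^* M`
  let A := (Rhom g.left (Over.w g.hom) ((Coh.push f).obj M)) ≫
    (Scheme.Modules.pushforward g.left).map (b (bc_w f V') M)
  let B := (b (bc_w f V) M) ≫ (Scheme.Modules.pushforward p).map (Rhom G hG M) ≫
    (Scheme.Modules.pushforwardComp G p).hom.app _ ≫
      (Scheme.Modules.pushforwardCongr (bc_map_fst f g)).hom.app _ ≫ (Scheme.Modules.pushforwardComp p' g.left).inv.app _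
  have key : A = B := by
    refine hom_ext V.hom fun U m => ?_
    have eR : ∀ {Z Y Q : Scheme.{u}} (q : Z ⟶ Y) {a : Y ⟶ Q} {c : Z ⟶ Q} (h : q ≫ a = c) (N : Q.Modules) (W : Y.Opens)
        (z : Γ((Scheme.Modules.pullback a).obj N, W)),
        R q h N (le_refl (q ⁻¹ᵁ W)) z = (Rhom q h N).app W z := by
      intro Z Y Q q a c h N W z
      show ((Scheme.Modules.pullback c).obj N).presheaf.map (homOfLE _).op _ = _
      rw [show (homOfLE (le_refl (q ⁻¹ᵁ W))).op = 𝟙 (op (q ⁻¹ᵁ W)) from rfl, CategoryTheory.Functor.map_id]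
      rfl
    have e₁ := R_pbRes g.left (Over.w g.hom) ((Coh.push f).obj M) (le_refl (V.hom ⁻¹ᵁ U))
      (le_refl (g.left ⁻¹ᵁ (V.hom ⁻¹ᵁ U))) m
    rw [eR] at e₁
    have hle : g.left ⁻¹ᵁ (V.hom ⁻¹ᵁ U) ≤ V'.hom ⁻¹ᵁ U := by
      rw [← Scheme.Hom.comp_preimage]
      exact le_of_eq (by rw [show g.left ≫ V.hom = V'.hom from Over.w g.hom])
    have lhs : A.app (V.hom ⁻¹ᵁ U) (pbRes V.hom ((Coh.push f).obj M) le_rfl m) =
        pbRes ((EtCoh.bc f).obj V').hom M (U := f ⁻¹ᵁ U) (le_pre (bc_w f V') hle) m :=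
      (congrArg ((b (bc_w f V') M).app (g.left ⁻¹ᵁ (V.hom ⁻¹ᵁ U))) e₁).trans (b_pbRes (bc_w f V') M hle m)
    refine lhs.trans ?_
    have e₂ := b_pbRes (bc_w f V) M (le_refl (V.hom ⁻¹ᵁ U)) m
    have e₃ := R_pbRes G hG M (U := f ⁻¹ᵁ U) (W := p ⁻¹ᵁ (V.hom ⁻¹ᵁ U)) (W' := G ⁻¹ᵁ (p ⁻¹ᵁ (V.hom ⁻¹ᵁ U)))
      (le_pre (bc_w f V) (le_refl (V.hom ⁻¹ᵁ U))) le_rfl m
    rw [eR] at e₃
    refine Eq.symm ?_
    show ((Scheme.Modules.pushforwardComp p' g.left).inv.app _).app _
      (((Scheme.Modules.pushforwardCongr (bc_map_fst f g)).hom.app _).app _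
        (((Scheme.Modules.pushforwardComp G p).hom.app _).app _
          ((Rhom G hG M).app (p ⁻¹ᵁ (V.hom ⁻¹ᵁ U)) ((b (bc_w f V) M).app (V.hom ⁻¹ᵁ U)
            (pbRes V.hom ((Coh.push f).obj M) le_rfl m))))) = _
    rw [e₂, e₃, Scheme.Modules.pushforwardComp_hom_app_app, Scheme.Modules.pushforwardComp_inv_app_app,
      Scheme.Modules.pushforwardCongr_hom_app_app]
    have hW : G ⁻¹ᵁ (p ⁻¹ᵁ (V.hom ⁻¹ᵁ U)) ≤ ((EtCoh.bc f).obj V').hom ⁻¹ᵁ (f ⁻¹ᵁ U) := by
      refine le_trans (G.preimage_mono (le_pre (bc_w f V) (le_refl (V.hom ⁻¹ᵁ U)))) (le_of_eq ?_)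
      rw [← Scheme.Hom.comp_preimage, show G ≫ ((EtCoh.bc f).obj V).hom = ((EtCoh.bc f).obj V').hom from hG]
    have hW' : p' ⁻¹ᵁ (g.left ⁻¹ᵁ (V.hom ⁻¹ᵁ U)) ≤ G ⁻¹ᵁ (p ⁻¹ᵁ (V.hom ⁻¹ᵁ U)) := by
      refine le_of_eq ?_
      rw [← Scheme.Hom.comp_preimage G p, ← Scheme.Hom.comp_preimage p' g.left, bc_map_fst f g]
    exact map_pbRes ((EtCoh.bc f).obj V').hom M hW hW' m
  have h := congr((($key).app ⊤) x)
  refine Eq.trans ?_ (h.trans ?_)
  · show (b (bc_w f V') M).app ⊤ (((Scheme.Modules.pullback V'.hom).obj _).presheaf.map (homOfLE le_top).op _) = _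
    rw [show (homOfLE (le_top : (⊤ : V'.left.Opens) ≤ g.left ⁻¹ᵁ ⊤)).op = 𝟙 (op (⊤ : V'.left.Opens)) from rfl,
      CategoryTheory.Functor.map_id]
    rfl
  · show ((Scheme.Modules.pushforwardComp p' g.left).inv.app _).app _
      (((Scheme.Modules.pushforwardCongr (bc_map_fst f g)).hom.app _).app _
        (((Scheme.Modules.pushforwardComp G p).hom.app _).app _
          ((Rhom G hG M).app (p ⁻¹ᵁ ⊤) (γapp f M V x)))) = _
    rw [Scheme.Modules.pushforwardComp_hom_app_app, Scheme.Modules.pushforwardComp_inv_app_app,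
      Scheme.Modules.pushforwardCongr_hom_app_app]
    show ((Scheme.Modules.pullback ((EtCoh.bc f).obj V').hom).obj M).presheaf.map _
      ((Rhom G hG M).app (p ⁻¹ᵁ ⊤) (γapp f M V x)) = _
    rfl

/-- **The base change map of presheaves on the étale site.** -/
def γ : (EPre.pre S).obj ((Coh.push f).obj M) ⟶ (EtCoh.bc f).op ⋙ (EPre.pre T).obj M where
  app V := AddCommGrpCat.ofHom
    ((AddEquiv.ulift.symm.toAddMonoidHom.comp (γapp f M V.unop)).comp AddEquiv.ulift.toAddMonoidHom)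
  naturality V V' g := by
    ext ⟨x⟩
    exact ULift.ext _ _ (γapp_natural f M g.unop x)

/-- It is natural in the module. -/
theorem γ_natural {M N : T.Modules} (φ : M ⟶ N) :
    (EPre.pre S).map ((Coh.push f).map φ) ≫ γ f N = γ f M ≫ Functor.whiskerLeft (EtCoh.bc f).op ((EPre.pre T).map φ) := by
  ext V ⟨x⟩
  refine ULift.ext _ _ ?_
  show γapp f N V.unop (((Scheme.Modules.pullback V.unop.hom).map ((Coh.push f).map φ)).app ⊤ x) =
    ((Scheme.Modules.pullback ((EtCoh.bc f).obj V.unop).hom).map φ).app ⊤ (γapp f M V.unop x)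
  have key : (Scheme.Modules.pullback V.unop.hom).map ((Coh.push f).map φ) ≫ b (bc_w f V.unop) N =
      b (bc_w f V.unop) M ≫ (Scheme.Modules.pushforward _).map
        ((Scheme.Modules.pullback ((EtCoh.bc f).obj V.unop).hom).map φ) := by
    refine hom_ext V.unop.hom fun U m => ?_
    show (b (bc_w f V.unop) N).app _ (((Scheme.Modules.pullback V.unop.hom).map ((Coh.push f).map φ)).app _
        (pbRes V.unop.hom _ le_rfl m)) =
      ((Scheme.Modules.pullback ((EtCoh.bc f).obj V.unop).hom).map φ).app _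
        ((b (bc_w f V.unop) M).app _ (pbRes V.unop.hom _ le_rfl m))
    rw [pbRes_natural, b_pbRes, b_pbRes, pbRes_natural]
    rfl
  exact congr((($key).app ⊤) x)

end Groth.Agent.Lib.EtQCoh.BaseChange
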