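import Groth.Prelude.Def_EtBase
import Groth.Agent.Lib.EtSite.Basic
import Mathlib.CategoryTheory.Sites.EpiMono
import Mathlib.CategoryTheory.Sites.LeftExact
import Mathlib.Algebra.Category.Grp.EpiMono
import Mathlib.CategoryTheory.ConcreteCategory.EpiMono
import Mathlib.Algebra.Homology.ShortComplex.Ab
import Mathlib.Algebra.Homology.ShortComplex.PreservesHomology
import Mathlib.Algebra.Homology.ShortComplex.Abelian
import Mathlib.Algebra.Homology.ShortComplex.HomologicalComplex
import Mathlib.CategoryTheory.Abelian.FunctorCategory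

/-!
# Homology after sheafification from local conditions on presheaves
-/

set_option autoImplicit false
set_option backward.isDefEq.respectTransparency false
set_option backward.isDefEq.respectTransparency.types false
set_option linter.style.haveILetI false

universe u

open CategoryTheory CategoryTheory.Limits Opposite AlgebraicGeometry

noncomputable section

namespace Groth.Agent.Lib.EtQCoh.LocHomology

variable {X : Scheme.{u}}

/-- Abelian presheaves on the small étale site. -/
abbrev Psh (X : Scheme.{u}) : Type (u + 2) := X.Etaleᵒᵖ ⥤ AddCommGrpCat.{u + 1}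

/-- Sheafification. -/
abbrev shf (X : Scheme.{u}) : Psh X ⥤ EtCoh.Ab X :=
  presheafToSheaf X.smallEtaleTopology AddCommGrpCat.{u + 1}

variable (S : ShortComplex (Psh X))

/-- A section in the kernel comes from cycles. -/
theorem exists_cycle (W : X.Etaleᵒᵖ) (x : S.X₂.obj W) (hx : S.g.app W x = 0) :
    ∃ c : S.cycles.obj W, S.iCycles.app W c = x := by
  let Φ : Psh X ⥤ AddCommGrpCat.{u + 1} := (evaluation _ _).obj W
  have hex : (ShortComplex.mk S.iCycles S.g S.iCycles_g).Exact :=
    ShortComplex.exact_of_f_is_kernel _ S.cyclesIsKernel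
  haveI : Φ.PreservesHomology := inferInstance
  exact (ShortComplex.ab_exact_iff _).1 (hex.map Φ) x hx

theorem homologyπ_surjective (W : X.Etaleᵒᵖ) : Function.Surjective (S.homologyπ.app W) :=
  (AddCommGrpCat.epi_iff_surjective _).1 (inferInstance : Epi (S.homologyπ.app W))

theorem iCycles_injective (W : X.Etaleᵒᵖ) : Function.Injective (S.iCycles.app W) :=
  (AddCommGrpCat.mono_iff_injective _).1 (inferInstance : Mono (S.iCycles.app W))

theorem g_iCycles (W : X.Etaleᵒᵖ) (c : S.cycles.obj W) : S.g.app W (S.iCycles.app W c) = 0 :=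
  ConcreteCategory.congr_hom (congrArg (fun m : _ ⟶ S.X₃ => m.app W) S.iCycles_g) c

theorem toCycles_iCycles (W : X.Etaleᵒᵖ) (w : S.X₁.obj W) :
    S.iCycles.app W (S.toCycles.app W w) = S.f.app W w :=
  ConcreteCategory.congr_hom (congrArg (fun m : _ ⟶ S.X₂ => m.app W) S.toCycles_i) w

/-- A cycle vanishes in homology iff it is a boundary. -/
theorem homologyπ_eq_zero_iff (W : X.Etaleᵒᵖ) (c : S.cycles.obj W) :
    S.homologyπ.app W c = 0 ↔ ∃ w : S.X₁.obj W, S.f.app W w = S.iCycles.app W c := by
  constructor
  · intro h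
    let Φ : Psh X ⥤ AddCommGrpCat.{u + 1} := (evaluation _ _).obj W
    have hex : (ShortComplex.mk S.toCycles S.homologyπ S.toCycles_comp_homologyπ).Exact :=
      ShortComplex.exact_of_g_is_cokernel _ S.homologyIsCokernel
    haveI : Φ.PreservesHomology := inferInstance
    obtain ⟨w, hw⟩ := (ShortComplex.ab_exact_iff _).1 (hex.map Φ) c h
    exact ⟨w, (toCycles_iCycles S W w).symm.trans (congrArg (S.iCycles.app W) hw)⟩
  · rintro ⟨w, hw⟩
    rw [← iCycles_injective S W ((toCycles_iCycles S W w).trans hw)]
    exact ConcreteCategory.congr_hom (congrArg (fun m : _ ⟶ S.homology => m.app W) S.toCycles_comp_homologyπ) w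

instance shf_preservesHomology : (shf X).PreservesHomology := by
  haveI : PreservesFiniteLimits (shf X) := inferInstance
  haveI : PreservesColimitsOfSize.{0, 0} (shf X) :=
    (sheafificationAdjunction X.smallEtaleTopology AddCommGrpCat.{u + 1}).leftAdjoint_preservesColimits
  haveI : PreservesFiniteColimits (shf X) := PreservesColimitsOfSize.preservesFiniteColimits _
  infer_instance

/-- The presheaf homology map is locally bijective under local conditions on cycles. -/
theorem isIso_map_homologyMap {A B : ShortComplex (Psh X)} (α : A ⟶ B)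
    (hsurj : ∀ (V : X.Etale) (y : B.X₂.obj (op V)), B.g.app (op V) y = 0 → ∀ v : V.left,
      ∃ (V' : X.Etale) (g : V' ⟶ V), (∃ v' : V'.left, g.left.base v' = v) ∧
        ∃ (x : A.X₂.obj (op V')) (w : B.X₁.obj (op V')), A.g.app (op V') x = 0 ∧
          α.τ₂.app (op V') x + B.f.app (op V') w = B.X₂.map g.op y)
    (hinj : ∀ (V : X.Etale) (x : A.X₂.obj (op V)), A.g.app (op V) x = 0 →
      (∃ w : B.X₁.obj (op V), B.f.app (op V) w = α.τ₂.app (op V) x) → ∀ v : V.left,
      ∃ (V' : X.Etale) (g : V' ⟶ V), (∃ v' : V'.left, g.left.base v' = v) ∧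
        ∃ w : A.X₁.obj (op V'), A.f.app (op V') w = A.X₂.map g.op x) :
    IsIso ((shf X).map (ShortComplex.homologyMap α)) := by
  have hc : ∀ (W : X.Etaleᵒᵖ) (c : A.cycles.obj W),
      B.iCycles.app W ((ShortComplex.cyclesMap α).app W c) = α.τ₂.app W (A.iCycles.app W c) := fun W c =>
    ConcreteCategory.congr_hom (congrArg (fun m : _ ⟶ B.X₂ => m.app W) (ShortComplex.cyclesMap_i α)) c
  have hπ : ∀ (W : X.Etaleᵒᵖ) (c : A.cycles.obj W),
      (ShortComplex.homologyMap α).app W (A.homologyπ.app W c) = B.homologyπ.app W ((ShortComplex.cyclesMap α).app W c) :=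
    fun W c => ConcreteCategory.congr_hom
      (congrArg (fun m : _ ⟶ B.homology => m.app W) (ShortComplex.homologyπ_naturality α)) c
  haveI : Presheaf.IsLocallySurjective X.smallEtaleTopology (ShortComplex.homologyMap α) := ⟨fun {V} η => by
    refine (EtSite.Basic.mem_topology_iff _).2 fun v => ?_
    obtain ⟨c, rfl⟩ := homologyπ_surjective B (op V) η
    obtain ⟨V', g, hg, x, w, hx, hxy⟩ := hsurj V (B.iCycles.app _ c) (g_iCycles B _ c) v
    obtain ⟨a, rfl⟩ := exists_cycle A (op V') x hx
    refine ⟨V', g, ⟨A.homologyπ.app _ a, ?_⟩, hg⟩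
    rw [hπ]
    show _ = B.homology.map g.op _
    rw [← NatTrans.naturality_apply B.homologyπ g.op c, ← sub_eq_zero, ← map_sub, homologyπ_eq_zero_iff]
    refine ⟨-w, ?_⟩
    rw [map_neg, map_sub, hc, NatTrans.naturality_apply B.iCycles g.op c, ← hxy]
    abel⟩
  haveI : Presheaf.IsLocallyInjective X.smallEtaleTopology (ShortComplex.homologyMap α) := ⟨fun {W} η₁ η₂ h => by
    refine (EtSite.Basic.mem_topology_iff _).2 fun v => ?_
    obtain ⟨c₁, rfl⟩ := homologyπ_surjective A W η₁
    obtain ⟨c₂, rfl⟩ := homologyπ_surjective A W η₂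
    have h0 : B.homologyπ.app W ((ShortComplex.cyclesMap α).app W (c₁ - c₂)) = 0 := by
      rw [← hπ, map_sub, map_sub, h, sub_self]
    obtain ⟨w, hw⟩ := (homologyπ_eq_zero_iff B W _).1 h0
    obtain ⟨V', g, hg, w', hw'⟩ := hinj W.unop (A.iCycles.app W (c₁ - c₂)) (g_iCycles A W _)
      ⟨w, hw.trans (hc W _)⟩ v
    refine ⟨V', g, ?_, hg⟩
    show A.homology.map g.op _ = A.homology.map g.op _
    rw [← sub_eq_zero, ← map_sub, ← map_sub, ← NatTrans.naturality_apply A.homologyπ g.op,
      homologyπ_eq_zero_iff]
    exact ⟨w', hw'.trans (NatTrans.naturality_apply A.iCycles g.op _).symm⟩⟩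
  have := GrothendieckTopology.W_of_isLocallyBijective (J := X.smallEtaleTopology) (ShortComplex.homologyMap α)
  rwa [GrothendieckTopology.W_iff] at this

/-- **Locally bijective on homology ⇒ isomorphism after sheafification.** -/
theorem isIso_homologyMap_shf {A B : ShortComplex (Psh X)} (α : A ⟶ B)
    [IsIso ((shf X).map (ShortComplex.homologyMap α))] :
    IsIso (ShortComplex.homologyMap ((shf X).mapShortComplex.map α)) := by
  have : ShortComplex.homologyMap ((shf X).mapShortComplex.map α) =
      (A.mapHomologyIso (shf X)).hom ≫ (shf X).map (ShortComplex.homologyMap α) ≫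
        (B.mapHomologyIso (shf X)).inv := by
    rw [← Category.assoc, ← ShortComplex.mapHomologyIso_hom_naturality, Category.assoc, Iso.hom_inv_id,
      Category.comp_id]
  rw [this]
  infer_instance

/-- A short complex of presheaves that is locally exact is exact after sheafification. -/
theorem exact_shf (h : ∀ (V : X.Etale) (x : S.X₂.obj (op V)), S.g.app (op V) x = 0 → ∀ v : V.left,
      ∃ (V' : X.Etale) (g : V' ⟶ V), (∃ v' : V'.left, g.left.base v' = v) ∧
        ∃ w : S.X₁.obj (op V'), S.f.app (op V') w = S.X₂.map g.op x) :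
    (S.map (shf X)).Exact := by
  rw [ShortComplex.exact_iff_isZero_homology]
  refine IsZero.of_iso ?_ (S.mapHomologyIso (shf X))
  have hz : IsIso ((shf X).map (0 : S.homology ⟶ S.homology)) := by
    have hW : X.smallEtaleTopology.W (0 : S.homology ⟶ S.homology) := by
      haveI : Presheaf.IsLocallySurjective X.smallEtaleTopology (0 : S.homology ⟶ S.homology) := ⟨fun {V} η => by
        refine (EtSite.Basic.mem_topology_iff _).2 fun v => ?_
        obtain ⟨c, rfl⟩ := homologyπ_surjective S (op V) η
        obtain ⟨V', g, hg, w, hw⟩ := h V (S.iCycles.app _ c) (g_iCycles S _ c) v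
        refine ⟨V', g, ⟨0, ?_⟩, hg⟩
        show (0 : S.homology.obj _) = S.homology.map g.op _
        rw [← NatTrans.naturality_apply S.homologyπ g.op c, eq_comm, homologyπ_eq_zero_iff]
        exact ⟨w, hw.trans (NatTrans.naturality_apply S.iCycles g.op c).symm⟩⟩
      haveI : Presheaf.IsLocallyInjective X.smallEtaleTopology (0 : S.homology ⟶ S.homology) := ⟨fun {W} η₁ η₂ _ => by
        refine (EtSite.Basic.mem_topology_iff _).2 fun v => ?_
        obtain ⟨c₁, rfl⟩ := homologyπ_surjective S W η₁
        obtain ⟨c₂, rfl⟩ := homologyπ_surjective S W η₂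
        obtain ⟨V', g, hg, w, hw⟩ := h W.unop (S.iCycles.app W (c₁ - c₂)) (g_iCycles S W _) v
        refine ⟨V', g, ?_, hg⟩
        show S.homology.map g.op _ = S.homology.map g.op _
        rw [← sub_eq_zero, ← map_sub, ← map_sub, ← NatTrans.naturality_apply S.homologyπ g.op,
          homologyπ_eq_zero_iff]
        exact ⟨w, hw.trans (NatTrans.naturality_apply S.iCycles g.op _).symm⟩⟩
      exact GrothendieckTopology.W_of_isLocallyBijective (J := X.smallEtaleTopology) (f := (0 : S.homology ⟶ S.homology))
    rwa [GrothendieckTopology.W_iff] at hW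
  rw [Functor.map_zero] at hz
  exact (IsZero.iff_id_eq_zero _).2 (by
    have := IsIso.hom_inv_id (I := hz) ((0 : (shf X).obj S.homology ⟶ (shf X).obj S.homology))
    rw [zero_comp] at this
    exact this.symm)

end Groth.Agent.Lib.EtQCoh.LocHomology
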