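import Groth.Agent.Lib.EtQCoh.AffGood
import Groth.Agent.Lib.EtQCoh.LocHomology
import Groth.Agent.Lib.DescAlg.PbSecHom
import Groth.Agent.Lib.Cyc.FP.Stalk
import Mathlib.CategoryTheory.Abelian.Exact
import Groth.Agent.Lib.Modules.ToSheaf
import Groth.Agent.Lib.Modules.Stalk
import Mathlib.Topology.Sheaves.AddCommGrpCat
import Mathlib.Algebra.Homology.ShortComplex.ExactFunctor
import Groth.Prelude.Def_Coh

/-!
# The étale sheaf of a module, for arbitrary modules, and its exactness
-/

set_option autoImplicit false
set_option backward.isDefEq.respectTransparency false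
set_option backward.isDefEq.respectTransparency.types false
set_option linter.style.haveILetI false

universe u

open CategoryTheory CategoryTheory.Limits AlgebraicGeometry Opposite TopologicalSpace
open ZarCoh.FlatBC.PullbackSections Groth.Agent.Lib.DescAlg.PbSec Groth.Agent.Lib.EtQCoh.LocHomology

noncomputable section

namespace Groth.Agent.Lib.EtQCoh.EPre

variable {X : Scheme.{u}}

theorem R_natural {Y Z : Scheme.{u}} (g : Z ⟶ Y) {u : Y ⟶ X} {v : Z ⟶ X} (h : g ≫ u = v)
    {M N : X.Modules} (φ : M ⟶ N) {W : Y.Opens} {W' : Z.Opens} (e : W' ≤ g ⁻¹ᵁ W)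
    (x : Γ((Scheme.Modules.pullback u).obj M, W)) :
    R g h N e (((Scheme.Modules.pullback u).map φ).app W x) =
      ((Scheme.Modules.pullback v).map φ).app W' (R g h M e x) := by
  rw [R_eq, R_eq, ← pbRes_natural]
  have hn : (Scheme.Modules.pullback g).map ((Scheme.Modules.pullback u).map φ) ≫ (tr g h N).hom =
      (tr g h M).hom ≫ (Scheme.Modules.pullback v).map φ := by
    simp only [tr, Iso.trans_hom, Iso.app_hom, ← Category.assoc]
    rw [show (Scheme.Modules.pullback g).map ((Scheme.Modules.pullback u).map φ) ≫
      (Scheme.Modules.pullbackComp g u).hom.app N = (Scheme.Modules.pullbackComp g u).hom.app M ≫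
        (Scheme.Modules.pullback (g ≫ u)).map φ from (Scheme.Modules.pullbackComp g u).hom.naturality φ,
      Category.assoc, (Scheme.Modules.pullbackCongr h).hom.naturality φ, ← Category.assoc]
  exact congr((($hn).app W') (pbRes g ((Scheme.Modules.pullback u).obj M) e x))

/-- The presheaf of sections of a module, functorially. -/
def pre (X : Scheme.{u}) : X.Modules ⥤ Psh X where
  obj M := etPresheaf M
  map {M N} φ :=
    { app := fun U => AddCommGrpCat.ofHom
        ((AddEquiv.ulift.symm.toAddMonoidHom.comp (((Scheme.Modules.pullback U.unop.hom).map φ).app ⊤).hom).comp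
          AddEquiv.ulift.toAddMonoidHom)
      naturality := fun U V g => by
        ext ⟨x⟩
        exact ULift.ext _ _ (R_natural g.unop.left (Over.w g.unop.hom) φ (W := ⊤) (W' := ⊤) le_top x).symm }
  map_id M := by
    ext U ⟨x⟩
    refine ULift.ext _ _ ?_
    show ((Scheme.Modules.pullback U.unop.hom).map (𝟙 M)).app ⊤ x = x
    rw [CategoryTheory.Functor.map_id]
    rfl
  map_comp {M N P} φ ψ := by
    ext U ⟨x⟩
    refine ULift.ext _ _ ?_
    show ((Scheme.Modules.pullback U.unop.hom).map (φ ≫ ψ)).app ⊤ x = _
    rw [CategoryTheory.Functor.map_comp]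
    rfl

theorem pre_map_apply {M N : X.Modules} (φ : M ⟶ N) (U : X.Etale) (x : ((pre X).obj M).obj (op U)) :
    (((pre X).map φ).app (op U) x).down = ((Scheme.Modules.pullback U.hom).map φ).app ⊤ x.down := rfl

instance pre_additive : (pre X).Additive where
  map_add {M N φ ψ} := by
    ext U ⟨x⟩
    refine ULift.ext _ _ ?_
    haveI : (Scheme.Modules.pullback U.unop.hom).Additive :=
      (Scheme.Modules.pullbackPushforwardAdjunction U.unop.hom).left_adjoint_additive
    show ((Scheme.Modules.pullback U.unop.hom).map (φ + ψ)).app ⊤ x = _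
    rw [Functor.map_add]
    rfl

/-- The étale sheaf of a module. -/
abbrev E (X : Scheme.{u}) : X.Modules ⥤ EtCoh.Ab X := pre X ⋙ shf X

/-- An open of an étale object, as an étale object. -/
def sub (V : X.Etale) (O : V.left.Opens) : X.Etale :=
  MorphismProperty.Over.mk _ (O.ι ≫ V.hom)
    (show Etale (O.ι ≫ V.hom) from haveI : Etale V.hom := V.prop; inferInstance)

/-- Its inclusion. -/
def subι (V : X.Etale) (O : V.left.Opens) : sub V O ⟶ V := MorphismProperty.Over.homMk O.ι rfl

theorem ι_preimage (V : X.Etale) (O : V.left.Opens) : (⊤ : (sub V O).left.Opens) ≤ O.ι ⁻¹ᵁ O := fun x _ => x.2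

/-- Restriction to an open subobject is bijective. -/
theorem R_sub_bijective (M : X.Modules) (V : X.Etale) (O : V.left.Opens) :
    Function.Bijective (R (subι V O).left (Over.w (subι V O).hom) M (W := O) (W' := ⊤) (ι_preimage V O)) := by
  have h := R_eq (subι V O).left (Over.w (subι V O).hom) M (W := O) (W' := ⊤) (ι_preimage V O)
  have : (R (subι V O).left (Over.w (subι V O).hom) M (W := O) (W' := ⊤) (ι_preimage V O) : _ → _) =
      ((tr (subι V O).left (Over.w (subι V O).hom) M).hom.app ⊤ : _ → _) ∘
        pbRes (subι V O).left ((Scheme.Modules.pullback V.hom).obj M) (ι_preimage V O) := funext h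
  rw [this]
  exact (ConcreteCategory.bijective_of_isIso ((tr (subι V O).left (Over.w (subι V O).hom) M).hom.app ⊤)).comp
    (pbRes_bijective ((Scheme.Modules.pullback V.hom).obj M) O.ι (le_of_eq O.opensRange_ι.symm) (ι_preimage V O))

theorem pre_subι (M : X.Modules) (V : X.Etale) (O : V.left.Opens) (x : ((pre X).obj M).obj (op V)) :
    (((pre X).obj M).map (subι V O).op x).down =
      R (subι V O).left (Over.w (subι V O).hom) M (W := O) (W' := ⊤) (ι_preimage V O)
        (((Scheme.Modules.pullback V.hom).obj M).presheaf.map (homOfLE le_top).op x.down) := by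
  rw [R_map]
  rfl

/-- Pullback along a flat morphism is left exact. -/
theorem preservesFiniteLimits_pullback {Y : Scheme.{u}} (v : Y ⟶ X) [Flat v] :
    PreservesFiniteLimits (Scheme.Modules.pullback v) := by
  haveI : PreservesColimitsOfSize.{u, u} (Scheme.Modules.pullback v) :=
    (Scheme.Modules.pullbackPushforwardAdjunction v).leftAdjoint_preservesColimits
  haveI : PreservesFiniteColimits (Scheme.Modules.pullback v) :=
    PreservesColimitsOfSize.preservesFiniteColimits _
  haveI : (Scheme.Modules.pullback v).Additive :=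
    (Scheme.Modules.pullbackPushforwardAdjunction v).left_adjoint_additive
  haveI : (Scheme.Modules.pullback v).PreservesMonomorphisms :=
    ⟨fun g _ => Cyc.FP.Stalk.mono_pullback v g⟩
  haveI : (Scheme.Modules.pullback v).PreservesHomology :=
    Functor.preservesHomology_of_preservesMonos_and_cokernels _
  exact Functor.preservesFiniteLimits_of_preservesHomology _

/-- Exact complexes of modules give locally exact presheaves. -/
theorem pre_locally_exact {T : ShortComplex X.Modules} (hT : T.Exact) (V : X.Etale)
    (x : ((pre X).obj T.X₂).obj (op V)) (hx : ((pre X).map T.g).app (op V) x = 0) (v : V.left) :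
    ∃ (V' : X.Etale) (g : V' ⟶ V), (∃ v' : V'.left, g.left.base v' = v) ∧
      ∃ w : ((pre X).obj T.X₁).obj (op V'), ((pre X).map T.f).app (op V') w = ((pre X).obj T.X₂).map g.op x := by
  haveI : Etale V.hom := V.prop
  haveI : Flat V.hom := inferInstance
  let P := Scheme.Modules.pullback V.hom
  haveI := preservesFiniteLimits_pullback V.hom
  haveI : P.Additive := (Scheme.Modules.pullbackPushforwardAdjunction V.hom).left_adjoint_additive
  haveI : PreservesColimitsOfSize.{0, 0} P :=
    (Scheme.Modules.pullbackPushforwardAdjunction V.hom).leftAdjoint_preservesColimits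
  haveI : PreservesFiniteColimits P := PreservesColimitsOfSize.preservesFiniteColimits _
  have h1 : (T.map P).Exact := hT.map P
  let F := Groth.Agent.Lib.Modules.Stalk.toAbSheaf ((𝟭 Scheme.{u}).obj V.left)
  have h2 : ((T.map P).map F).Exact := h1.map F
  let l := kernel.lift ((T.map P).map F).g ((T.map P).map F).f ((T.map P).map F).zero
  have hepi : Epi l := (ShortComplex.exact_iff_epi_kernel_lift _).1 h2
  have : Presheaf.IsLocallySurjective (Opens.grothendieckTopology V.left) l.hom :=
    (Sheaf.isLocallySurjective_iff_epi' _ l).2 hepi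
  let K := kernel ((T.map P).map F).g
  obtain ⟨c, hc⟩ : ∃ c : K.obj.obj (op ⊤), (kernel.ι ((T.map P).map F).g).hom.app (op ⊤) c = x.down := by
    have hex : (ShortComplex.mk _ _ (kernel.condition ((T.map P).map F).g)).Exact :=
      ShortComplex.exact_of_f_is_kernel _ (kernelIsKernel _)
    exact TopCat.Sheaf.sections_exact_of_left_exact hex inferInstance _ (congrArg ULift.down hx)
  obtain ⟨O, g, ⟨w, hw⟩, hvO⟩ := Presheaf.imageSieve_mem (Opens.grothendieckTopology V.left) l.hom
    (U := op ⊤) c v trivial
  refine ⟨sub V O, subι V O, ⟨⟨v, hvO⟩, rfl⟩,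
    ⟨R (subι V O).left (Over.w (subι V O).hom) T.X₁ (W := O) (W' := ⊤) (ι_preimage V O) w⟩, ULift.ext _ _ ?_⟩
  rw [pre_map_apply, pre_subι]
  refine (R_natural (subι V O).left (Over.w (subι V O).hom) T.f (ι_preimage V O) w).symm.trans ?_
  refine congrArg (R (subι V O).left (Over.w (subι V O).hom) T.X₂ (W := O) (W' := ⊤) (ι_preimage V O)) ?_
  refine Eq.trans ?_ ((NatTrans.naturality_apply (kernel.ι ((T.map P).map F).g).hom g.op c).trans
    (congrArg (((T.map P).map F).X₂.obj.map g.op) hc))
  refine Eq.trans ?_ (congrArg ((kernel.ι ((T.map P).map F).g).hom.app (op O)) hw)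
  exact (ConcreteCategory.congr_hom (congrArg (fun a => a.hom.app (op O))
    (kernel.lift_ι ((T.map P).map F).g ((T.map P).map F).f ((T.map P).map F).zero)) w).symm

/-- **`E` is exact.** -/
theorem exact_E {T : ShortComplex X.Modules} (hT : T.Exact) : (T.map (E X)).Exact :=
  exact_shf (T.map (pre X)) fun V x hx v => pre_locally_exact hT V x hx v

instance E_preservesHomology : (E X).PreservesHomology :=
  Functor.preservesHomology_of_map_exact _ fun _ h => exact_E h

/-- On quasi-coherent modules `E` is the sheaf of sections. -/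
def qShIso (M : X.Modules) [M.IsQuasicoherent] : AffGood.qSh M ≅ (E X).obj M :=
  (sheafificationIso (AffGood.qSh M))

end Groth.Agent.Lib.EtQCoh.EPre
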