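import Groth.Agent.Lib.EtQCoh.ZarSite
import Groth.Agent.Lib.ZarCoh.Basic
import Groth.Prelude.Def_Coh
import Mathlib.Algebra.Category.Grp.Ulift
import Mathlib.Order.Zorn
import Mathlib.CategoryTheory.Sites.LocallySurjective

/-!
# Zariski cohomology in the next universe

Flasque sheaves of abelian groups one universe up are acyclic, and universe lifting of
abelian sheaves on a scheme does not change cohomology.
-/

set_option autoImplicit false
set_option backward.isDefEq.respectTransparency false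
set_option backward.isDefEq.respectTransparency.types false
set_option linter.style.haveILetI false

universe u w

open CategoryTheory CategoryTheory.Limits CategoryTheory.Abelian AlgebraicGeometry Opposite TopologicalSpace

noncomputable section

namespace Groth.Agent.Lib.EtQCoh.UliftCoh

variable {X : Scheme.{u}}

/-- Restriction of sections. -/
abbrev res (F : EtZar.Ab X) {U V : X.Opens} (h : V ≤ U) (s : F.obj.obj (op U)) : F.obj.obj (op V) :=
  F.obj.map (homOfLE h).op s

theorem res_res (F : EtZar.Ab X) {U V W : X.Opens} (h : V ≤ U) (h' : W ≤ V) (s : F.obj.obj (op U)) :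
    res F h' (res F h s) = res F (h'.trans h) s := by
  show F.obj.map _ (F.obj.map _ s) = F.obj.map _ s
  rw [← ConcreteCategory.comp_apply, ← F.obj.map_comp]
  rfl

theorem app_res {F G : EtZar.Ab X} (a : F ⟶ G) {U V : X.Opens} (h : V ≤ U) (s : F.obj.obj (op U)) :
    a.hom.app (op V) (res F h s) = res G h (a.hom.app (op U) s) :=
  NatTrans.naturality_apply a.hom (homOfLE h).op s

theorem exists_glue (F : EtZar.Ab X) {ι : Type u} (U : ι → X.Opens) (O : X.Opens) (hU : ∀ i, U i ≤ O)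
    (hO : O ≤ iSup U) (s : ∀ i, F.obj.obj (op (U i)))
    (hs : ∀ i j, res F inf_le_left (s i) = res F (inf_le_right : U i ⊓ U j ≤ U j) (s j)) :
    ∃! t : F.obj.obj (op O), ∀ i, res F (hU i) t = s i :=
  TopCat.Sheaf.existsUnique_gluing' (X := X.toTopCat) F U O (fun i => homOfLE (hU i)) hO s hs

/-- Flasque sheaves one universe up. -/
def IsFlq (F : EtZar.Ab X) : Prop :=
  ∀ ⦃U V : X.Opens⦄ (h : V ≤ U), Function.Surjective (res F h)

theorem exists_section_of_exact {S : ShortComplex (EtZar.Ab X)} (hS : S.Exact) [Mono S.f] (U : X.Opens)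
    (x : S.X₂.obj.obj (op U)) (hx : S.g.hom.app (op U) x = 0) :
    ∃ y : S.X₁.obj.obj (op U), S.f.hom.app (op U) y = x :=
  (ShortComplex.ab_exact_iff _).1 (hS.map_of_mono_of_preservesKernel
    (sheafToPresheaf (Opens.grothendieckTopology X) AddCommGrpCat.{u + 1} ⋙ (evaluation (X.Opens)ᵒᵖ AddCommGrpCat.{u + 1}).obj (op U)) inferInstance inferInstance) x hx

theorem exists_local_lift {F G : EtZar.Ab X} (g : F ⟶ G) [Epi g] (U : X.Opens) (s : G.obj.obj (op U))
    (x : X) (hx : x ∈ U) : ∃ (W : X.Opens) (h : W ≤ U) (t : F.obj.obj (op W)),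
      x ∈ W ∧ g.hom.app (op W) t = res G h s := by
  have : Sheaf.IsLocallySurjective g := (Sheaf.isLocallySurjective_iff_epi' _ g).2 inferInstance
  obtain ⟨W, i, ⟨t, ht⟩, hxW⟩ := Presheaf.imageSieve_mem (Opens.grothendieckTopology X) g.hom s x hx
  exact ⟨W, i.le, t, hxW, ht⟩

/-- A partial lift of a section. -/
structure PLift {S : ShortComplex (EtZar.Ab X)} (U : X.Opens) (s : S.X₃.obj.obj (op U)) where
  V : X.Opens
  le : V ≤ U
  t : S.X₂.obj.obj (op V)
  spec : S.g.hom.app (op V) t = res S.X₃ le s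

instance {S : ShortComplex (EtZar.Ab X)} (U : X.Opens) (s : S.X₃.obj.obj (op U)) : LE (PLift U s) :=
  ⟨fun p q => ∃ h : p.V ≤ q.V, res S.X₂ h q.t = p.t⟩

/-- Extensions of sections with flasque kernel. -/
theorem surjective_of_isFlq {S : ShortComplex (EtZar.Ab X)} (hS : S.ShortExact) (hF : IsFlq S.X₁)
    (U : X.Opens) : Function.Surjective (S.g.hom.app (op U)) := by
  intro s
  have := hS.mono_f
  have := hS.epi_g
  have htrans : ∀ {p q r : PLift U s}, p ≤ q → q ≤ r → p ≤ r := by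
    rintro p q r ⟨h, e⟩ ⟨h', e'⟩
    exact ⟨h.trans h', by rw [← res_res S.X₂ h' h, e', e]⟩
  obtain ⟨m, hm⟩ : ∃ m : PLift U s, ∀ a, m ≤ a → a ≤ m := by
    refine exists_maximal_of_chains_bounded (r := (· ≤ ·)) (fun c hc => ?_) (fun h h' => htrans h h')
    let O : X.Opens := ⨆ p : c, p.1.V
    have hle : O ≤ U := iSup_le fun p => p.1.le
    let ι : Type u := {x : X // x ∈ O}
    have hex : ∀ x : ι, ∃ p : c, x.1 ∈ p.1.V := fun x => Opens.mem_iSup.1 x.2
    choose P hP using hex
    have hcomp : ∀ (p q : c), res S.X₂ inf_le_left p.1.t =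
        res S.X₂ (inf_le_right : p.1.V ⊓ q.1.V ≤ q.1.V) q.1.t := by
      intro p q
      by_cases hpq : p.1 = q.1
      · obtain rfl : p = q := Subtype.ext hpq
        rfl
      · rcases hc p.2 q.2 hpq with ⟨h, e⟩ | ⟨h, e⟩
        · rw [← e, res_res]
        · rw [← e, res_res]
    obtain ⟨t, ht, -⟩ := exists_glue S.X₂ (fun x : ι => (P x).1.V) O
      (fun x => le_iSup (fun p : c => p.1.V) (P x))
      (fun x hx => Opens.mem_iSup.2 ⟨⟨x, hx⟩, hP ⟨x, hx⟩⟩) (fun x => (P x).1.t) (fun x y => hcomp _ _)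
    have hspec : S.g.hom.app (op O) t = res S.X₃ hle s := by
      obtain ⟨_, -, huniq⟩ := exists_glue S.X₃ (fun x : ι => (P x).1.V) O
        (fun x => le_iSup (fun p : c => p.1.V) (P x))
        (fun x hx => Opens.mem_iSup.2 ⟨⟨x, hx⟩, hP ⟨x, hx⟩⟩)
        (fun x => res S.X₃ (P x).1.le s) (fun x y => by rw [res_res, res_res])
      refine (huniq _ fun x => ?_).trans (huniq _ fun x => by rw [res_res]).symm
      rw [← app_res, ht x, (P x).1.spec]
    refine ⟨⟨O, hle, t, hspec⟩, fun p hp => ⟨le_iSup (fun p : c => p.1.V) ⟨p, hp⟩, ?_⟩⟩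
    obtain ⟨_, -, huniq⟩ := exists_glue S.X₂ (fun x : {x : X // x ∈ p.V} => p.V ⊓ (P ⟨x.1, Opens.mem_iSup.2 ⟨⟨p, hp⟩, x.2⟩⟩).1.V)
      p.V (fun x => inf_le_left) (fun x hx => Opens.mem_iSup.2 ⟨⟨x, hx⟩, hx, hP _⟩)
      (fun x => res S.X₂ inf_le_left p.t) (fun x y => by rw [res_res, res_res])
    refine (huniq _ fun x => ?_).trans (huniq _ fun x => rfl).symm
    rw [res_res, ← res_res S.X₂ (le_iSup (fun p : c => p.1.V) (P _)) inf_le_right, ht]
    exact (hcomp ⟨p, hp⟩ (P _)).symm
  suffices h : U ≤ m.V by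
    refine ⟨res S.X₂ h m.t, ?_⟩
    rw [app_res, m.spec, res_res]
    exact ConcreteCategory.congr_hom (S.X₃.obj.map_id (op U)) s
  intro x hx
  obtain ⟨W, hW, t₁, hxW, ht₁⟩ := exists_local_lift S.g U s x hx
  have h0 : S.g.hom.app (op (m.V ⊓ W)) (res S.X₂ inf_le_left m.t - res S.X₂ inf_le_right t₁) = 0 := by
    rw [map_sub, app_res, app_res, m.spec, ht₁, res_res, res_res, sub_self]
  obtain ⟨t₃, ht₃⟩ := exists_section_of_exact hS.exact _ _ h0
  obtain ⟨t₄, ht₄⟩ := hF (inf_le_right : m.V ⊓ W ≤ W) t₃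
  let t₂ := t₁ + S.f.hom.app (op W) t₄
  have ht₂ : S.g.hom.app (op W) t₂ = res S.X₃ hW s := by
    rw [map_add, ht₁]
    have hz : S.g.hom.app (op W) (S.f.hom.app (op W) t₄) = 0 :=
      ConcreteCategory.congr_hom (congrArg (fun a => a.hom.app (op W)) S.zero) t₄
    rw [hz, add_zero]
  have hagree : res S.X₂ inf_le_left m.t = res S.X₂ (inf_le_right : m.V ⊓ W ≤ W) t₂ := by
    show _ = res S.X₂ inf_le_right (t₁ + S.f.hom.app (op W) t₄)
    rw [show res S.X₂ inf_le_right (t₁ + S.f.hom.app (op W) t₄) = res S.X₂ inf_le_right t₁ +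
      res S.X₂ inf_le_right (S.f.hom.app (op W) t₄) from map_add (S.X₂.obj.map _).hom _ _,
      ← app_res, ht₄, ht₃, add_sub_cancel]
  let Uf : ULift.{u} Bool → X.Opens := fun b => bif b.down then m.V else W
  let sf : ∀ b, S.X₂.obj.obj (op (Uf b)) := fun b => match b with
    | ⟨true⟩ => m.t
    | ⟨false⟩ => t₂
  have hUf : ∀ b, Uf b ≤ m.V ⊔ W := fun b => by rcases b with ⟨_ | _⟩ <;> simp [Uf]
  have hcov : m.V ⊔ W ≤ iSup Uf := sup_le (le_iSup Uf ⟨true⟩) (le_iSup Uf ⟨false⟩)
  obtain ⟨t, ht, -⟩ := exists_glue S.X₂ Uf (m.V ⊔ W) hUf hcov sf (by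
    rintro ⟨_ | _⟩ ⟨_ | _⟩
    · rfl
    · have e := congrArg (res S.X₂ (le_of_eq (inf_comm W m.V) : W ⊓ m.V ≤ m.V ⊓ W)) hagree.symm
      rw [res_res, res_res] at e
      exact e
    · exact hagree
    · rfl)
  have hle : m.V ⊔ W ≤ U := sup_le m.le hW
  have hspec : S.g.hom.app (op (m.V ⊔ W)) t = res S.X₃ hle s := by
    obtain ⟨_, -, huniq⟩ := exists_glue S.X₃ Uf (m.V ⊔ W) hUf hcov
      (fun b => res S.X₃ ((hUf b).trans hle) s) (fun x y => by rw [res_res, res_res])
    refine (huniq _ fun b => ?_).trans (huniq _ fun b => by rw [res_res]).symm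
    rw [← app_res, ht b]
    rcases b with ⟨_ | _⟩
    · exact ht₂
    · exact m.spec
  obtain ⟨h, -⟩ := hm ⟨m.V ⊔ W, hle, t, hspec⟩ ⟨le_sup_left, ht ⟨true⟩⟩
  exact h (Or.inr hxW : x ∈ m.V ⊔ W)

theorem isFlq_quot {S : ShortComplex (EtZar.Ab X)} (hS : S.ShortExact) (h₁ : IsFlq S.X₁) (h₂ : IsFlq S.X₂) :
    IsFlq S.X₃ := by
  intro U V h s
  obtain ⟨t, rfl⟩ := surjective_of_isFlq hS h₁ V s
  obtain ⟨r, rfl⟩ := h₂ h t
  exact ⟨S.g.hom.app (op U) r, (app_res S.g h r).symm⟩

theorem isFlq_of_injective (I : EtZar.Ab X) [Injective I] : IsFlq I := by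
  intro U V h s
  haveI : Injective I.obj :=
    Injective.injective_of_adjoint (sheafificationAdjunction (Opens.grothendieckTopology X) AddCommGrpCat.{u + 1}) I
  let Fr := (uliftYoneda.{u + 1} : X.Opens ⥤ _) ⋙
    (Functor.whiskeringRight (X.Opens)ᵒᵖ (Type (u + 1)) AddCommGrpCat.{u + 1}).obj AddCommGrpCat.free
  let adj := (AddCommGrpCat.adj.{u + 1}).whiskerRight (X.Opens)ᵒᵖ
  let e : ∀ W : X.Opens, (Fr.obj W ⟶ I.obj) ≃ I.obj.obj (op W) := fun W =>
    (adj.homEquiv _ _).trans uliftYonedaEquiv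
  haveI : Mono (Fr.map (homOfLE h)) := by
    haveI : ∀ W, Mono ((Fr.map (homOfLE h)).app W) := fun W => by
      haveI : Mono ((uliftYoneda.{u + 1}.map (homOfLE h)).app W) :=
        (CategoryTheory.mono_iff_injective _).2 fun a b _ => ULift.ext _ _ (Subsingleton.elim (α := (W.unop ⟶ V)) _ _)
      exact inferInstanceAs (Mono (AddCommGrpCat.free.map ((uliftYoneda.{u + 1}.map (homOfLE h)).app W)))
    exact NatTrans.mono_of_mono_app _
  let ψ := Injective.factorThru ((e V).symm s) (Fr.map (homOfLE h))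
  refine ⟨e U ψ, ?_⟩
  refine Eq.trans ?_ ((congrArg (e V) (Injective.comp_factorThru ((e V).symm s) (Fr.map (homOfLE h)))).trans
    ((e V).apply_symm_apply s))
  show I.obj.map (homOfLE h).op (uliftYonedaEquiv (adj.homEquiv _ _ ψ)) =
    uliftYonedaEquiv (adj.homEquiv _ _ (Fr.map (homOfLE h) ≫ ψ))
  exact (uliftYonedaEquiv_naturality _ (homOfLE h).op).trans (congrArg uliftYonedaEquiv
    (adj.homEquiv_naturality_left (uliftYoneda.{u + 1}.map (homOfLE h)) ψ).symm)

section Const

variable (X)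

/-- The constant sheaf with value the integers. -/
abbrev cst : EtZar.Ab X :=
  (constantSheaf (Opens.grothendieckTopology X) AddCommGrpCat.{u + 1}).obj (AddCommGrpCat.of (ULift.{u + 1} ℤ))

variable {X}

/-- Morphisms out of the constant sheaf are global sections. -/
def cstEquiv (F : EtZar.Ab X) : (cst X ⟶ F) ≃+ F.obj.obj (op ⊤) :=
  ((constantSheafAdj (Opens.grothendieckTopology X) AddCommGrpCat.{u + 1}
    (isTerminalTop (α := X.Opens))).homAddEquiv _ F).trans (AddCommGrpCat.uliftZMultiplesAddEquiv _)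

theorem cstEquiv_comp {F G : EtZar.Ab X} (g : cst X ⟶ F) (φ : F ⟶ G) :
    cstEquiv G (g ≫ φ) = φ.hom.app (op ⊤) (cstEquiv F g) := by
  simp only [cstEquiv, AddEquiv.trans_apply, Adjunction.homAddEquiv_apply, Adjunction.homEquiv_naturality_right]
  rfl

theorem subsingleton_ext_of_isFlq (n : ℕ) :
    ∀ F : EtZar.Ab X, IsFlq F → Subsingleton (Ext.{u + 1} (cst X) F (n + 1)) := by
  induction n with
  | zero =>
    intro F hF
    let T : ShortComplex (EtZar.Ab X) := ShortComplex.mk (Injective.ι F) (cokernel.π _) (cokernel.condition _)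
    have hT : T.ShortExact :=
      { exact := ShortComplex.exact_cokernel (Injective.ι F) }
    refine subsingleton_of_forall_eq 0 fun ξ => ?_
    obtain ⟨y, rfl⟩ := Ext.covariant_sequence_exact₁ _ hT ξ (Ext.eq_zero_of_injective _) (zero_add 1)
    obtain ⟨y, rfl⟩ := (Ext.mk₀_bijective _ _).2 y
    obtain ⟨x, hx⟩ := surjective_of_isFlq hT hF ⊤ (cstEquiv _ y)
    have : y = (cstEquiv _).symm x ≫ T.g := (cstEquiv _).injective (by
      rw [cstEquiv_comp, AddEquiv.apply_symm_apply, hx])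
    rw [this, ← Ext.mk₀_comp_mk₀, Ext.comp_assoc_of_second_deg_zero, hT.comp_extClass, Ext.comp_zero]
  | succ n ih =>
    intro F hF
    let T : ShortComplex (EtZar.Ab X) := ShortComplex.mk (Injective.ι F) (cokernel.π _) (cokernel.condition _)
    have hT : T.ShortExact :=
      { exact := ShortComplex.exact_cokernel (Injective.ι F) }
    haveI : Injective T.X₂ := inferInstanceAs (Injective (Injective.under F))
    have := ih T.X₃ (isFlq_quot hT hF (isFlq_of_injective _))
    refine subsingleton_of_forall_eq 0 fun ξ => ?_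
    obtain ⟨y, rfl⟩ := Ext.covariant_sequence_exact₁ _ hT ξ (Ext.eq_zero_of_injective _) rfl
    rw [Subsingleton.elim y 0, Ext.zero_comp]

end Const

/-- The connecting map as an additive map. -/
def delta {C : Type*} [Category C] [Abelian C] [HasExt.{w} C] (P : C) {S : ShortComplex C} (hS : S.ShortExact)
    (n : ℕ) : Ext.{w} P S.X₃ n →+ Ext.{w} P S.X₁ (n + 1) :=
  hS.extClass.postcomp P rfl

theorem delta_apply {C : Type*} [Category C] [Abelian C] [HasExt.{w} C] (P : C) {S : ShortComplex C} (hS : S.ShortExact)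
    (n : ℕ) (x : Ext.{w} P S.X₃ n) : delta P hS n x = x.comp hS.extClass rfl := rfl

theorem delta_surjective {C : Type*} [Category C] [Abelian C] [HasExt.{w} C] (P : C) {S : ShortComplex C}
    (hS : S.ShortExact) (n : ℕ) (h : Subsingleton (Ext.{w} P S.X₂ (n + 1))) :
    Function.Surjective (delta P hS n) := fun ξ => by
  obtain ⟨y, hy⟩ := Ext.covariant_sequence_exact₁ _ hS ξ (h.elim _ _) rfl
  exact ⟨y, hy⟩

theorem delta_injective {C : Type*} [Category C] [Abelian C] [HasExt.{w} C] (P : C) {S : ShortComplex C}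
    (hS : S.ShortExact) (n : ℕ) (h : Subsingleton (Ext.{w} P S.X₂ n)) :
    Function.Injective (delta P hS n) := (injective_iff_map_eq_zero _).2 fun x hx => by
  obtain ⟨y, rfl⟩ := Ext.covariant_sequence_exact₃ _ hS x rfl hx
  rw [h.elim y 0, Ext.zero_comp]

theorem delta_ker {C : Type*} [Category C] [Abelian C] [HasExt.{w} C] (P : C) {S : ShortComplex C}
    (hS : S.ShortExact) (y : P ⟶ S.X₃) :
    delta P hS 0 (Ext.mk₀ y) = 0 ↔ ∃ x : P ⟶ S.X₂, x ≫ S.g = y := by
  constructor
  · intro hy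
    obtain ⟨x, hx⟩ := Ext.covariant_sequence_exact₃ _ hS (Ext.mk₀ y) rfl hy
    obtain ⟨x, rfl⟩ := (Ext.mk₀_bijective _ _).2 x
    rw [Ext.mk₀_comp_mk₀] at hx
    exact ⟨x, (Ext.mk₀_bijective _ _).1 hx⟩
  · rintro ⟨x, rfl⟩
    rw [delta_apply, ← Ext.mk₀_comp_mk₀, Ext.comp_assoc_of_second_deg_zero, hS.comp_extClass, Ext.comp_zero]

/-- Lifting sheaves to the next universe. -/
abbrev up (X : Scheme.{u}) : CohTop.Ab X.toTopCat ⥤ EtZar.Ab X :=
  sheafCompose (Opens.grothendieckTopology X) AddCommGrpCat.uliftFunctor.{u + 1, u}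

instance up_preservesFiniteLimits : PreservesFiniteLimits (up X) := by
  haveI : ∀ (J : Type) [SmallCategory J] [FinCategory J], PreservesLimitsOfShape J (up X) := fun J _ _ => by
    haveI : PreservesLimitsOfShape J (up X ⋙ sheafToPresheaf _ _) :=
      inferInstanceAs (PreservesLimitsOfShape J (sheafToPresheaf _ _ ⋙
        (Functor.whiskeringRight _ _ _).obj AddCommGrpCat.uliftFunctor.{u + 1, u}))
    exact preservesLimitsOfShape_of_reflects_of_preserves (up X) (sheafToPresheaf _ _)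
  exact ⟨fun J _ _ => inferInstance⟩

instance up_additive : (up X).Additive where
  map_add {F G a b} := by
    apply Sheaf.hom_ext
    ext U x
    rfl

theorem up_epi {F G : CohTop.Ab X.toTopCat} (a : F ⟶ G) [Epi a] : Epi ((up X).map a) := by
  haveI : Sheaf.IsLocallySurjective a :=
    (Sheaf.isLocallySurjective_iff_epi' AddCommGrpCat.{u} (J := Opens.grothendieckTopology X.toTopCat) a).2 inferInstance
  haveI : Presheaf.IsLocallySurjective (Opens.grothendieckTopology X) a.hom := ‹Sheaf.IsLocallySurjective a›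
  refine (Sheaf.isLocallySurjective_iff_epi' AddCommGrpCat.{u + 1} ((up X).map a)).1 ⟨fun {U} s => ?_⟩
  refine GrothendieckTopology.superset_covering _ ?_ (Presheaf.imageSieve_mem (Opens.grothendieckTopology X) a.hom s.down)
  intro V i
  rintro ⟨t, ht⟩
  exact ⟨⟨t⟩, congrArg ULift.up ht⟩

theorem up_shortExact {S : ShortComplex (CohTop.Ab X.toTopCat)} (hS : S.ShortExact) : (S.map (up X)).ShortExact := by
  have := hS.mono_f
  have := hS.epi_g
  exact
    { exact := hS.exact.map_of_mono_of_preservesKernel (up X) inferInstance inferInstance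
      mono_f := (up X).map_mono S.f
      epi_g := up_epi S.g }

theorem isFlq_up (F : CohTop.Ab X.toTopCat) [Injective F] : IsFlq ((up X).obj F) := by
  intro U V h s
  haveI := Groth.Agent.Lib.ZarCoh.Basic.isFlasque_of_injective F
  obtain ⟨t, ht⟩ := Groth.Agent.Lib.ZarCoh.Basic.flasque_surjective F h s.down
  exact ⟨⟨t⟩, congrArg ULift.up ht⟩

/-- The constant sheaf in the small universe. -/
abbrev cst₀ (X : Scheme.{u}) : CohTop.Ab X.toTopCat :=
  (constantSheaf (Opens.grothendieckTopology X.toTopCat) AddCommGrpCat.{u}).obj (AddCommGrpCat.of (ULift.{u} ℤ))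

/-- Global sections before and after lifting. -/
def homUp (F : CohTop.Ab X.toTopCat) : (cst₀ X ⟶ F) ≃+ (cst X ⟶ (up X).obj F) :=
  (((constantSheafAdj (Opens.grothendieckTopology X.toTopCat) AddCommGrpCat.{u}
    (isTerminalTop (α := X.Opens))).homAddEquiv _ F).trans (AddCommGrpCat.uliftZMultiplesAddEquiv _)).trans
    (AddEquiv.ulift.symm.trans (cstEquiv ((up X).obj F)).symm)

theorem homUp_comp {F G : CohTop.Ab X.toTopCat} (x : cst₀ X ⟶ F) (a : F ⟶ G) :
    homUp G (x ≫ a) = homUp F x ≫ (up X).map a := by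
  apply (cstEquiv _).injective
  rw [cstEquiv_comp]
  simp only [homUp, AddEquiv.trans_apply, Adjunction.homAddEquiv_apply,
    Adjunction.homEquiv_naturality_right]
  refine ((cstEquiv _).apply_symm_apply _).trans ?_
  refine Eq.trans ?_ (congrArg (((up X).map a).hom.app (op ⊤)) ((cstEquiv _).apply_symm_apply _)).symm
  rfl

/-- Universe lifting does not change cohomology. -/
theorem nonempty_equiv (n : ℕ) : ∀ F : CohTop.Ab X.toTopCat,
    Nonempty (Ext.{u + 1} (cst X) ((up X).obj F) n ≃+ Ext.{u} (cst₀ X) F n) := by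
  induction n with
  | zero =>
    exact fun F => ⟨(Ext.addEquiv₀.trans (homUp F).symm).trans Ext.addEquiv₀.symm⟩
  | succ n ih =>
    intro F
    let S := Groth.Agent.Lib.ZarCoh.Basic.injSES F
    have hS : S.ShortExact := Groth.Agent.Lib.ZarCoh.Basic.injSES_shortExact F
    have hU := up_shortExact hS
    have h1 : ∀ k, Subsingleton (Ext.{u} (cst₀ X) S.X₂ (k + 1)) := fun k =>
      ⟨fun a b => (Ext.eq_zero_of_injective a).trans (Ext.eq_zero_of_injective b).symm⟩
    have h2 : ∀ k, Subsingleton (Ext.{u + 1} (cst X) (S.map (up X)).X₂ (k + 1)) := fun k =>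
      subsingleton_ext_of_isFlq k _ (isFlq_up S.X₂)
    let δ := delta (cst₀ X) hS n
    let δ' := delta (cst X) hU n
    cases n with
    | zero =>
      let e : (cst₀ X ⟶ S.X₃) ≃+ (cst X ⟶ (up X).obj S.X₃) := homUp S.X₃
      let d : (cst₀ X ⟶ S.X₃) →+ Ext.{u} (cst₀ X) F 1 := δ.comp Ext.addEquiv₀.symm.toAddMonoidHom
      let d' : (cst X ⟶ (up X).obj S.X₃) →+ Ext.{u + 1} (cst X) ((up X).obj F) 1 :=
        δ'.comp Ext.addEquiv₀.symm.toAddMonoidHom
      have hd : Function.Surjective d := fun ξ => by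
        obtain ⟨y, hy⟩ := delta_surjective _ hS 0 (h1 0) ξ
        exact ⟨Ext.addEquiv₀ y, (congrArg δ (Ext.addEquiv₀.symm_apply_apply y)).trans hy⟩
      have hd' : Function.Surjective d' := fun ξ => by
        obtain ⟨y, hy⟩ := delta_surjective _ hU 0 (h2 0) ξ
        exact ⟨Ext.addEquiv₀ y, (congrArg δ' (Ext.addEquiv₀.symm_apply_apply y)).trans hy⟩
      have hker : AddSubgroup.map e.toAddMonoidHom d.ker = d'.ker := by
        ext y
        constructor
        · rintro ⟨x, hx, rfl⟩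
          obtain ⟨z, hz⟩ := (delta_ker _ hS x).1 hx
          exact (delta_ker _ hU _).2 ⟨homUp S.X₂ z, (homUp_comp z S.g).symm.trans (congrArg e hz)⟩
        · intro hy
          obtain ⟨z, hz⟩ := (delta_ker _ hU y).1 hy
          refine ⟨(homUp S.X₂).symm z ≫ S.g, (delta_ker _ hS _).2 ⟨_, rfl⟩, ?_⟩
          exact (homUp_comp _ S.g).trans ((congrArg (· ≫ (up X).map S.g) (AddEquiv.apply_symm_apply _ z)).trans hz)
      exact ⟨(QuotientAddGroup.quotientKerEquivOfSurjective d' hd').symm.trans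
        ((QuotientAddGroup.congr d.ker d'.ker e hker).symm.trans
          (QuotientAddGroup.quotientKerEquivOfSurjective d hd))⟩
    | succ m =>
      obtain ⟨e⟩ := ih S.X₃
      exact ⟨((AddEquiv.ofBijective δ' ⟨delta_injective _ hU _ (h2 m), delta_surjective _ hU _ (h2 (m + 1))⟩).symm.trans
        e).trans (AddEquiv.ofBijective δ ⟨delta_injective _ hS _ (h1 m), delta_surjective _ hS _ (h1 (m + 1))⟩)⟩

end Groth.Agent.Lib.EtQCoh.UliftCoh
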