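import Groth.Agent.Lib.EtQCoh.GaAssoc
import Groth.Agent.Lib.EtQCoh.UliftCoh

/-!
# Étale and Zariski cohomology of the structure sheaf
-/

set_option autoImplicit false
set_option backward.isDefEq.respectTransparency false
set_option backward.isDefEq.respectTransparency.types false

universe u

open CategoryTheory CategoryTheory.Limits CategoryTheory.Abelian AlgebraicGeometry Opposite TopologicalSpace

noncomputable section

namespace Groth.Agent.Lib.EtQCoh.GaZar

variable {X : Scheme.{u}}

/-- Functions on an open. -/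
def secEquiv (U : X.Opens) :
    ((EtZar.resZar X).obj (EtCoh.Ga X)).obj.obj (op U) ≃+
      ((UliftCoh.up X).obj (Coh.toAb (Coh.structureModule X))).obj.obj (op U) :=
  AddEquiv.ulift.trans (((U.topIso).commRingCatIsoToRingEquiv.toAddEquiv).trans AddEquiv.ulift.symm)

/-- The restriction of `Ga` to opens is the structure sheaf. -/
def resIso : (EtZar.resZar X).obj (EtCoh.Ga X) ≅ (UliftCoh.up X).obj (Coh.toAb (Coh.structureModule X)) :=
  (fullyFaithfulSheafToPresheaf _ _).preimageIso (NatIso.ofComponents
    (fun U => AddEquiv.toAddCommGrpIso (secEquiv U.unop)) fun {U V} i => by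
      ext s
      refine ULift.ext _ _ ?_
      show (Scheme.Opens.topIso (X := X) V.unop).hom ((X.homOfLE i.unop.le).appTop s.down) =
        X.presheaf.map i ((Scheme.Opens.topIso (X := X) U.unop).hom s.down)
      rw [← ConcreteCategory.comp_apply, ← ConcreteCategory.comp_apply]
      congr 2
      simp [Scheme.Hom.appTop, Scheme.Opens.topIso, ← Functor.map_comp]
      congr 1)

theorem nonempty_HEquiv (p : ℕ) :
    Nonempty (EtCoh.H X (EtCoh.Ga X) p ≃+ Coh.HH X (Coh.structureModule X) p) := by
  obtain ⟨e₁⟩ := Zar.nonempty_hEquiv AffGood.affGood_cechAff (GaAssoc.cechAff_Ga (X := X)) p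
  obtain ⟨e₃⟩ := UliftCoh.nonempty_equiv p (Coh.toAb (Coh.structureModule X))
  let e₂ : EtZar.H ((EtZar.resZar X).obj (EtCoh.Ga X)) p ≃+
      Ext.{u + 1} (UliftCoh.cst X) ((UliftCoh.up X).obj (Coh.toAb (Coh.structureModule X))) p :=
    (((extFunctor.{u + 1} p).obj (op (UliftCoh.cst X))).mapIso resIso).addCommGroupIsoToAddEquiv
  exact ⟨(e₁.trans e₂).trans e₃⟩

end Groth.Agent.Lib.EtQCoh.GaZar
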