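import Groth.Agent.Lib.EtQCoh.Zar

/-!
# Global sections of resolutions of affine-good sheaves
-/

set_option autoImplicit false
set_option backward.isDefEq.respectTransparency false
set_option backward.isDefEq.respectTransparency.types false
set_option linter.style.haveILetI false

universe u

open CategoryTheory CategoryTheory.Limits AlgebraicGeometry Opposite TopologicalSpace
open Groth.Agent.Lib.SpecSeq

noncomputable section

namespace Groth.Agent.Lib.EtQCoh.Global

variable {X : Scheme.{u}}

/-- The constant sheaf `ℤ`. -/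
abbrev ZZ (X : Scheme.{u}) : EtCoh.Ab X :=
  (constantSheaf X.smallEtaleTopology AddCommGrpCat.{u + 1}).obj (AddCommGrpCat.of (ULift.{u + 1} ℤ))

/-- Morphisms out of `ℤ` are global sections. -/
def secEquiv (F : EtCoh.Ab X) : (ZZ X ⟶ F) ≃+ EtCoh.sect F (EtCoh.top X) :=
  ((EtCore.constAdj X).homAddEquiv _ F).trans (AddCommGrpCat.uliftZMultiplesAddEquiv _)

theorem secEquiv_comp {F G : EtCoh.Ab X} (g : ZZ X ⟶ F) (φ : F ⟶ G) :
    secEquiv G (g ≫ φ) = φ.hom.app (op (EtCoh.top X)) (secEquiv F g) := by
  simp only [secEquiv, AddEquiv.trans_apply, Adjunction.homAddEquiv_apply,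
    Adjunction.homEquiv_naturality_right]
  rfl

variable {G : EtCoh.Ab X} (R : InjectiveResolution G)
  {P : EtCoh.Ab X → Prop} (hP : AffGood.AffGood P) (hG : P G)

include hP hG in
/-- On an affine scheme the complex of global sections is exact in positive degrees. -/
theorem exactAt_homCx [IsAffine X] (k : ℕ) : (HomExt.homCx R (ZZ X)).ExactAt (k + 1) := by
  rw [HomologicalComplex.exactAt_iff' _ k (k + 1) (k + 2) (by simp) (by simp), ShortComplex.ab_exact_iff]
  intro (f : ZZ X ⟶ R.cocomplex.X (k + 1)) hf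
  have hf' : f ≫ R.cocomplex.d (k + 1) (k + 2) = 0 := hf
  obtain ⟨y, hy⟩ := AffGood.exists_of_d_eq_zero hP hG R k (EtCoh.top X) (show IsAffine X from inferInstance)
    (secEquiv _ f) (by rw [← secEquiv_comp, hf', map_zero])
  refine ⟨(secEquiv _).symm y, (secEquiv _).injective ?_⟩
  show secEquiv _ ((secEquiv _).symm y ≫ R.cocomplex.d k (k + 1)) = secEquiv _ f
  rw [secEquiv_comp, AddEquiv.apply_symm_apply, hy]

variable [EtZar.ZarCont X]

include hP hG in
/-- **Zariski cohomology of an affine-good sheaf vanishes on affines.** -/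
theorem subsingleton_zarH [IsAffine X] (k : ℕ) :
    Subsingleton (EtZar.H ((EtZar.resZar X).obj G) (k + 1)) := by
  let R₀ := injectiveResolution G
  have h0 : IsZero ((HomExt.homCx R₀ (ZZ X)).homology (k + 1)) :=
    (exactAt_homCx R₀ hP hG k).isZero_homology
  exact AddCommGrpCat.subsingleton_of_isZero (IsZero.of_iso h0
    ((HomExt.homologyIso (Zar.resolution R₀ (Zar.exactAt_resCx R₀ hP hG)) (k + 1)).symm ≪≫
      (HomologicalComplex.homologyFunctor _ _ (k + 1)).mapIso
        (Zar.cxIso R₀ (Zar.exactAt_resCx R₀ hP hG) _ (Zar.pullConst _)).symm))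

/-- Sheaves without higher cohomology on affine objects. -/
def Acyc (G : EtCoh.Ab X) : Prop :=
  ∀ (T : X.Etale), IsAffine T.left → ∀ i : ℕ, 1 ≤ i →
    Subsingleton (EtCoh.H T.left ((EtCoh.pull T.hom).obj G) i)

omit [EtZar.ZarCont X] in
/-- They form an affine-good class. -/
theorem affGood_acyc : AffGood.AffGood (Acyc (X := X)) where
  surj hS h T hT := EtJ.Coh.sections_surjective hS T (h T hT 1 le_rfl)
  quot hS hI h T hT i hi := EtJ.Coh.subsingleton_right hS T (h T hT (i + 1) (by omega))
    (EtJ.Coh.subsingleton_of_injective T _ i hi)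
  iso e h T hT i hi := by
    haveI : Subsingleton ((EtCoh.HF T.left i).obj ((EtCoh.pull T.hom).obj _)) := h T hT i hi
    exact ((EtCoh.HF T.left i).mapIso ((EtCoh.pull T.hom).mapIso e)).addCommGroupIsoToAddEquiv.toEquiv.symm.subsingleton

end Groth.Agent.Lib.EtQCoh.Global
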