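import Groth.Agent.Lib.EtQCoh.KeyR
import Groth.Agent.Lib.ZarCoh.FlatBC.Main
import Groth.Agent.Lib.ZarCoh.Induction

/-!
# The comparison over an affine étale scheme over an affine open of the base
-/

set_option autoImplicit false
set_option backward.isDefEq.respectTransparency false
set_option backward.isDefEq.respectTransparency.types false
set_option linter.style.haveILetI false

universe u

open CategoryTheory CategoryTheory.Limits AlgebraicGeometry Opposite TopologicalSpace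
open Groth.Agent.Lib.EtQCoh.EPre Groth.Agent.Lib.EtQCoh.KeyA Groth.Agent.Lib.EtQCoh.KeyR
open ZarCoh.FlatBC.PullbackSections Groth.Agent.Lib.DescAlg.PbSec
open scoped TensorProduct

noncomputable section

namespace Groth.Agent.Lib.EtQCoh.Key

theorem appLE_congr {X Y : Scheme.{u}} {g g' : X ⟶ Y} (h : g = g') {U : Y.Opens} {O : X.Opens}
    (e : O ≤ g ⁻¹ᵁ U) (e' : O ≤ g' ⁻¹ᵁ U) : g.appLE U O e = g'.appLE U O e' := by
  subst h; rfl

theorem pbRes_map {X Y : Scheme.{u}} (g : X ⟶ Y) (M : Y.Modules) {U U' : Y.Opens} {O : X.Opens}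
    (h : U' ≤ U) (e : O ≤ g ⁻¹ᵁ U') (m : Γ(M, U)) :
    pbRes g M e (M.presheaf.map (homOfLE h).op m) = pbRes g M (e.trans (g.preimage_mono h)) m := by
  let N := (Scheme.Modules.pullback g).obj M
  show N.presheaf.map (homOfLE e).op
      (((Scheme.Modules.pullbackPushforwardAdjunction g).unit.app M).app U' (M.presheaf.map (homOfLE h).op m)) = _
  refine (congrArg (N.presheaf.map (homOfLE e).op) (ConcreteCategory.congr_hom
    (((Scheme.Modules.pullbackPushforwardAdjunction g).unit.app M).mapPresheaf.naturality (homOfLE h).op) m)).trans ?_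
  show N.presheaf.map (homOfLE e).op (N.presheaf.map (homOfLE (g.preimage_mono h)).op
      (((Scheme.Modules.pullbackPushforwardAdjunction g).unit.app M).app U m)) =
    N.presheaf.map (homOfLE (e.trans (g.preimage_mono h))).op
      (((Scheme.Modules.pullbackPushforwardAdjunction g).unit.app M).app U m)
  rw [← ConcreteCategory.comp_apply, ← N.presheaf.map_comp]
  rfl

variable {T S : Scheme.{u}} (f : T ⟶ S) (W : S.Opens) (V : S.Etale)
  (hV : (⊤ : V.left.Opens) ≤ V.hom ⁻¹ᵁ W)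

/-- The base change. -/
abbrev UU : T.Etale := (EtCoh.bc f).obj V

/-- The functions on `V` as a module over those on `W`. -/
abbrev NB : ModuleCat.{u} Γ(S, W) :=
  (ModuleCat.restrictScalars (V.hom.appLE W ⊤ hV).hom).obj (ModuleCat.of Γ(V.left, ⊤) Γ(V.left, ⊤))

/-- The structure map. -/
abbrev φV : Γ(S, W) →+* Γ(V.left, ⊤) := (V.hom.appLE W ⊤ hV).hom

/-- The identification. -/
def toN : Γ(V.left, ⊤) ≃+ NB W V hV := AddEquiv.refl _

variable {f W}

/-- The open subscheme of the base change. -/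
abbrev SS (O : Idx f W) : Scheme.{u} := (𝟭 Scheme.{u}).obj (subO (UU f V) O).left

/-- The projection to `V`. -/
def q (O : Idx f W) : SS V O ⟶ V.left :=
  (subι (UU f V) ((UU f V).hom ⁻¹ᵁ O.1)).left ≫ pullback.fst V.hom f

theorem sq (O : Idx f W) : q V O ≫ V.hom = (subO (UU f V) O).hom ≫ f := by
  show (((UU f V).hom ⁻¹ᵁ O.1).ι ≫ pullback.fst V.hom f) ≫ V.hom = (((UU f V).hom ⁻¹ᵁ O.1).ι ≫ (UU f V).hom) ≫ f
  rw [Category.assoc, Category.assoc, BaseChange.bc_w f V]

theorem e_top (O : Idx f W) : (⊤ : (subO (UU f V) O).left.Opens) ≤ (subO (UU f V) O).hom ⁻¹ᵁ O.1 :=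
  fun x _ => x.2

/-- Functions of `V` on the open subobject. -/
def cB (O : Idx f W) : Γ(V.left, ⊤) →+* Γ(SS V O, ⊤) :=
  ((q V O).appLE ⊤ ⊤ le_top).hom

theorem cB_appLE (O : Idx f W) (a : Γ(S, W)) :
    cB V O (φV W V hV a) =
      (subO (UU f V) O).hom.appLE O.1 ⊤ (e_top V O) (f.appLE W O.1 O.2 a) := by
  show (V.hom.appLE W ⊤ hV ≫ (q V O).appLE ⊤ ⊤ le_top) a =
    (f.appLE W O.1 O.2 ≫ (subO (UU f V) O).hom.appLE O.1 ⊤ (e_top V O)) a
  rw [Scheme.Hom.appLE_comp_appLE, Scheme.Hom.appLE_comp_appLE]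
  exact ConcreteCategory.congr_hom (appLE_congr (sq V O) _ _) a

/-- Pullback of sections. -/
def pbz (M : T.Modules) (O : Idx f W) :
    Res M O →+ Γ((Scheme.Modules.pullback (subO (UU f V) O).hom).obj M, ⊤) :=
  (pbRes (subO (UU f V) O).hom M (e_top V O)).comp (toRes M O).symm.toAddMonoidHom

set_option maxHeartbeats 1000000 in
/-- The bilinear map `(b, z) ↦ b • (pullback of z)`. -/
def β00 (M : T.Modules) (O : Idx f W) :
    NB W V hV →+ Res M O →+ Γ((Scheme.Modules.pullback (subO (UU f V) O).hom).obj M, ⊤) :=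
  (((smulAddHom Γ(SS V O, ⊤) Γ((Scheme.Modules.pullback (subO (UU f V) O).hom).obj M, ⊤)).compl₂
    (pbz V M O))).comp ((cB V O).toAddMonoidHom.comp (toN W V hV).symm.toAddMonoidHom)

set_option maxHeartbeats 1000000 in
theorem β00_balanced (M : T.Modules) (O : Idx f W) (a : Γ(S, W)) (b : NB W V hV) (z : Res M O) :
    β00 V hV M O (a • b) z = β00 V hV M O b (a • z) := by
  obtain ⟨b, rfl⟩ := (toN W V hV).surjective b
  obtain ⟨z, rfl⟩ := (toRes M O).surjective z
  show cB V O (φV W V hV a * b) • pbRes (subO (UU f V) O).hom M (e_top V O) z =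
    cB V O b • pbRes (subO (UU f V) O).hom M (e_top V O) (f.appLE W O.1 O.2 a • z)
  rw [pbRes_smul, map_mul, mul_comm, mul_smul, cB_appLE V hV O a]

/-- The map `b ⊗ z ↦ b • (pullback of z)`. -/
def β0 (M : T.Modules) (O : Idx f W) :
    (NB W V hV ⊗[Γ(S, W)] Res M O) →+ Γ((Scheme.Modules.pullback (subO (UU f V) O).hom).obj M, ⊤) :=
  TensorProduct.liftAddHom (β00 V hV M O) (β00_balanced V hV M O)

theorem β0_tmul (M : T.Modules) (O : Idx f W) (b : Γ(V.left, ⊤)) (z : Γ(M, O.1)) :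
    β0 V hV M O (toN W V hV b ⊗ₜ toRes M O z) =
      cB V O b • pbRes (subO (UU f V) O).hom M (e_top V O) z := rfl

theorem β0_natural {M M' : T.Modules} (φ : M ⟶ M') (O : Idx f W) (x : NB W V hV ⊗[Γ(S, W)] Res M O) :
    β0 V hV M' O ((mapL φ O).lTensor _ x) =
      ((Scheme.Modules.pullback (subO (UU f V) O).hom).map φ).app ⊤ (β0 V hV M O x) := by
  induction x using TensorProduct.induction_on with
  | zero => simp only [map_zero]
  | tmul b z =>
    obtain ⟨b, rfl⟩ := (toN W V hV).surjective b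
    obtain ⟨z, rfl⟩ := (toRes M O).surjective z
    rw [LinearMap.lTensor_tmul, mapL_apply, β0_tmul, β0_tmul, Scheme.Modules.Hom.app_smul, pbRes_natural]
  | add x y hx hy => simp only [map_add, hx, hy]

theorem β0_res (M : T.Modules) {O O' : Idx f W} (h : O' ≤ O) (x : NB W V hV ⊗[Γ(S, W)] Res M O) :
    β0 V hV M O' ((resL M h).lTensor _ x) =
      R (subO_map (UU f V) h).left (Over.w (subO_map (UU f V) h).hom) M (W := ⊤) (W' := ⊤) le_top
        (β0 V hV M O x) := by
  induction x using TensorProduct.induction_on with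
  | zero => simp only [map_zero]
  | tmul b z =>
    obtain ⟨b, rfl⟩ := (toN W V hV).surjective b
    obtain ⟨z, rfl⟩ := (toRes M O).surjective z
    rw [LinearMap.lTensor_tmul, resL_apply, β0_tmul, β0_tmul, R_smul, R_pbRes]
    refine congrArg₂ (fun r x => r • x) ?_ (pbRes_map _ M h (e_top V O') z)
    show _ = ((q V O).appLE ⊤ ⊤ le_top ≫ (subO_map (UU f V) h).left.appLE ⊤ ⊤ le_top) b
    rw [Scheme.Hom.appLE_comp_appLE]
    refine ConcreteCategory.congr_hom (appLE_congr ?_ _ _) b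
    show _ = (subO_map (UU f V) h).left ≫ (subι (UU f V) _).left ≫ _
    rw [← Category.assoc]
    exact congrArg (· ≫ pullback.fst V.hom f)
      (congrArg (fun g : _ ⟶ UU f V => g.left) (subMap_subι (UU f V) ((UU f V).hom.preimage_mono h))).symm
  | add x y hx hy => simp only [map_add, hx, hy]

variable {F : T.Modules} (I : InjectiveResolution F) {G : EtCoh.Ab T} {Re : InjectiveResolution G}
  (c : Resolution.EI I ⟶ Re.cocomplex)

/-- The comparison map. -/
def β : MV.Hom (KeyA.cx f (NB W V hV) I) (KeyR.cx f W (UU f V) Re) where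
  f n O := ((Resolution.psh I c n).app (op (subO (UU f V) O))).hom.comp
    (AddEquiv.ulift.symm.toAddMonoidHom.comp (β0 V hV (I.cocomplex.X n) O))
  comm n O x := by
    have h := ConcreteCategory.congr_hom (congrArg (fun g => g.app (op (subO (UU f V) O)))
      (Resolution.psh_comm I c n (n + 1))) ⟨β0 V hV (I.cocomplex.X n) O x⟩
    refine Eq.trans ?_ h.symm
    exact congrArg (fun y => (Resolution.psh I c (n + 1)).app (op (subO (UU f V) O)) ⟨y⟩)
      (β0_natural V hV (I.cocomplex.d n (n + 1)) O x)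
  natural n {O O'} h x := by
    refine Eq.trans ?_ (NatTrans.naturality_apply (Resolution.psh I c n) (subO_map (UU f V) h).op
      ⟨β0 V hV (I.cocomplex.X n) O x⟩)
    exact congrArg (fun y => (Resolution.psh I c n).app (op (subO (UU f V) O')) ⟨y⟩)
      (β0_res V hV (I.cocomplex.X n) h x)

section Affine

variable (hW : IsAffineOpen W) [IsAffine V.left] {O : T.Opens} (hO : IsAffineOpen O) (hOW : O ≤ f ⁻¹ᵁ W)

theorem ι_appLE {X : Scheme.{u}} (W : X.Opens) (e : (⊤ : (W : Scheme.{u}).Opens) ≤ W.ι ⁻¹ᵁ W) :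
    W.ι.appLE W ⊤ e = W.topIso.inv := by
  rw [Scheme.Opens.ι_appLE]
  rfl

theorem appLE_lift {X Y : Scheme.{u}} {W : Y.Opens} (g : X ⟶ (W : Scheme.{u}))
    (e : (⊤ : X.Opens) ≤ (g ≫ W.ι) ⁻¹ᵁ W) :
    W.topIso.inv ≫ g.appTop = (g ≫ W.ι).appLE W ⊤ e := by
  rw [← ι_appLE W (fun x _ => x.2), show g.appTop = g.appLE ⊤ ⊤ le_top from g.appLE_eq_app.symm,
    Scheme.Hom.appLE_comp_appLE]

include hV in
theorem range_hom : Set.range V.hom.base ⊆ Set.range W.ι.base := by
  rintro _ ⟨x, rfl⟩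
  rw [Scheme.Opens.range_ι]
  exact hV (show x ∈ (⊤ : V.left.Opens) from trivial)

/-- `V ⟶ W`. -/
abbrev vW : V.left ⟶ (W : Scheme.{u}) := IsOpenImmersion.lift W.ι V.hom (range_hom V hV)

/-- `O ⟶ W`. -/
abbrev oW : (O : Scheme.{u}) ⟶ (W : Scheme.{u}) := f.resLE W O hOW

theorem isPullback : IsPullback (q V ⟨O, hOW⟩) ((UU f V).hom ∣_ O) (vW V hV) (oW hOW) := by
  have h1 := (isPullback_morphismRestrict (UU f V).hom O).flip.paste_horiz
    (IsPullback.of_hasPullback V.hom f)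
  have h2 : IsPullback (q V ⟨O, hOW⟩) ((UU f V).hom ∣_ O) (vW V hV ≫ W.ι) (oW hOW ≫ W.ι) := by
    rw [IsOpenImmersion.lift_fac, Scheme.Hom.resLE_comp_ι]
    exact h1
  have w : q V ⟨O, hOW⟩ ≫ vW V hV = ((UU f V).hom ∣_ O) ≫ oW hOW := (cancel_mono W.ι).1 (by
    rw [Category.assoc, Category.assoc]
    exact h2.w)
  refine ⟨⟨w⟩, ⟨PullbackCone.IsLimit.mk w
    (fun s => h2.lift s.fst s.snd (by rw [reassoc_of% s.condition]))
    (fun s => h2.lift_fst _ _ _) (fun s => h2.lift_snd _ _ _)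
    (fun s m h₁ h₂ => h2.hom_ext (by rw [h₁, h2.lift_fst]) (by rw [h₂, h2.lift_snd]))⟩⟩

include hV hW hO in
theorem isAffine_subO : IsAffine (subO (UU f V) (⟨O, hOW⟩ : Idx f W)).left := by
  haveI : IsAffine (W : Scheme.{u}) := hW
  haveI : IsAffine (O : Scheme.{u}) := hO
  haveI : IsAffine ((𝟭 Scheme).obj V.left) := ‹IsAffine V.left›
  haveI : IsAffineHom (oW (f := f) (O := O) hOW) := inferInstance
  exact @IsAffine.of_isPullback _ _ _ _ _ _ (vW V hV) (oW hOW) ‹IsAffine ((𝟭 Scheme).obj V.left)› ‹_› (isPullback V hV hOW)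

include hV hW hO in
theorem isPushout :
    IsPushout (V.hom.appLE W ⊤ hV) (f.appLE W O hOW) (CommRingCat.ofHom (cB V (⟨O, hOW⟩ : Idx f W)))
      ((subO (UU f V) (⟨O, hOW⟩ : Idx f W)).hom.appLE O ⊤ (e_top V ⟨O, hOW⟩)) := by
  haveI : IsAffine (W : Scheme.{u}) := hW
  haveI : IsAffine (O : Scheme.{u}) := hO
  haveI : IsAffine ((𝟭 Scheme).obj V.left) := ‹IsAffine V.left›
  refine (isPushout_appTop_of_isPullback (isPullback V hV hOW)).of_iso W.topIso (Iso.refl _) O.topIso
    (Iso.refl _) ?_ ?_ ?_ ?_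
  · rw [Iso.refl_hom, Category.comp_id, ← cancel_epi W.topIso.inv, Iso.inv_hom_id_assoc,
      appLE_lift _ (fun x _ => by rw [IsOpenImmersion.lift_fac]; exact hV trivial)]
    exact appLE_congr (IsOpenImmersion.lift_fac _ _ _) _ _
  · rw [← cancel_epi W.topIso.inv, Iso.inv_hom_id_assoc, ← Category.assoc,
      appLE_lift _ (fun x _ => by rw [Scheme.Hom.resLE_comp_ι]; exact hOW x.2),
      appLE_congr (Scheme.Hom.resLE_comp_ι f hOW) _ (fun x _ => hOW x.2),
      ← Scheme.Hom.appLE_comp_appLE O.ι f W O ⊤ hOW (fun x _ => x.2), ι_appLE, Category.assoc, Iso.inv_hom_id,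
      Category.comp_id]
  · rw [Iso.refl_hom, Category.comp_id, Iso.refl_hom, Category.id_comp]
    exact (q V (⟨O, hOW⟩ : Idx f W)).appLE_eq_app.symm
  · rw [Iso.refl_hom, Category.comp_id, ← cancel_epi O.topIso.inv, Iso.inv_hom_id_assoc,
      appLE_lift _ (fun x _ => by rw [morphismRestrict_ι]; exact x.2)]
    exact appLE_congr (morphismRestrict_ι _ _) _ _

include hV hW hO in
theorem β0_bijective (M : T.Modules) [M.IsQuasicoherent] :
    Function.Bijective (β0 V hV M (⟨O, hOW⟩ : Idx f W)) := by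
  haveI := isAffine_subO V hV hW hO hOW
  let OI : Idx f W := ⟨O, hOW⟩
  letI : Algebra Γ(S, W) Γ(V.left, ⊤) := (V.hom.appLE W ⊤ hV).hom.toAlgebra
  letI : Algebra Γ(S, W) Γ(T, O) := (f.appLE W O hOW).hom.toAlgebra
  letI : Algebra Γ(V.left, ⊤) Γ(SS V OI, ⊤) := (cB V OI).toAlgebra
  letI : Algebra Γ(T, O) Γ(SS V OI, ⊤) :=
    ((subO (UU f V) OI).hom.appLE O ⊤ (e_top V OI)).hom.toAlgebra
  letI : Algebra Γ(S, W) Γ(SS V OI, ⊤) :=
    ((cB V OI).comp (V.hom.appLE W ⊤ hV).hom).toAlgebra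
  haveI : IsScalarTower Γ(S, W) Γ(V.left, ⊤) Γ(SS V OI, ⊤) :=
    IsScalarTower.of_algebraMap_eq fun _ => rfl
  haveI : IsScalarTower Γ(S, W) Γ(T, O) Γ(SS V OI, ⊤) :=
    IsScalarTower.of_algebraMap_eq fun a => cB_appLE V hV OI a
  haveI : Algebra.IsPushout Γ(S, W) Γ(V.left, ⊤) Γ(T, O) Γ(SS V OI, ⊤) :=
    CommRingCat.isPushout_iff_isPushout.mp (isPushout V hV hW hO hOW)
  letI : Module Γ(S, W) Γ(M, O) := Module.compHom _ (f.appLE W O hOW).hom
  haveI : IsScalarTower Γ(S, W) Γ(T, O) Γ(M, O) := IsScalarTower.of_algebraMap_smul fun _ _ => rfl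
  haveI : IsAffine (SS V OI) := isAffine_subO V hV hW hO hOW
  refine ZarCoh.FlatBC.Main.bijective_of_isPushout (A := Γ(S, W)) (B := Γ(V.left, ⊤)) (R := Γ(T, O))
    (N := Γ(M, O)) (pbTensor (subO (UU f V) OI).hom M (e_top V OI))
    (bijective_pbTensor (subO (UU f V) OI).hom M hO (isAffineOpen_top _) (e_top V OI))
    (β0 V hV M OI) fun b z => ?_
  refine (β0_tmul V hV M OI b z).trans ?_
  exact congrArg (fun y => cB V OI b • y) (one_smul _ (pbRes (subO (UU f V) OI).hom M (e_top V OI) z)).symm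

variable [F.IsQuasicoherent] (e : G ≅ AffGood.qSh F) (hc : Resolution.aug I e ≫ c.f 0 = Re.ι.f 0)

include hc in
theorem pre_ι_psh (Y : T.Etale) (s : ((EPre.pre T).obj F).obj (op Y)) :
    (Resolution.psh I c 0).app (op Y) (((EPre.pre T).map (I.ι.f 0)).app (op Y) s) =
      (Re.ι.f 0).hom.app (op Y) (e.inv.hom.app (op Y) s) := by
  have h1 : e.inv ≫ Re.ι.f 0 = (EPre.qShIso F).hom ≫ (EPre.E T).map (I.ι.f 0) ≫ c.f 0 := by
    rw [← hc, Resolution.aug, Iso.trans_hom, Category.assoc, Category.assoc, Iso.inv_hom_id_assoc]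
  have h2 : (EPre.pre T).map (I.ι.f 0) ≫ Resolution.psh I c 0 = (e.inv ≫ Re.ι.f 0).hom := by
    rw [h1]
    show _ ≫ toSheafify _ _ ≫ _ = toSheafify T.smallEtaleTopology ((EPre.pre T).obj F) ≫
      sheafifyMap T.smallEtaleTopology ((EPre.pre T).map (I.ι.f 0)) ≫ (c.f 0).hom
    rw [← Category.assoc, ← Category.assoc, toSheafify_naturality]
  exact ConcreteCategory.congr_hom (congrArg (fun g => g.app (op Y)) h2) s

variable [Module.Flat Γ(S, W) (NB W V hV)]

include hW hO hc in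
/-- **Affine opens.** -/
theorem qis_affine (hG : AffGood.CechAff G) : MV.Qis (β V hV I c) (⟨O, hOW⟩ : Idx f W) := by
  let OI : Idx f W := ⟨O, hOW⟩
  haveI := isAffine_subO V hV hW hO hOW
  have hR := AffGood.exists_of_d_eq_zero AffGood.affGood_cechAff hG Re
  have hbij := β0_bijective V hV hW hO hOW F
  have hin : Function.Injective ((Re.ι.f 0).hom.app (op (subO (UU f V) OI))) := by
    haveI : Mono (Re.ι.f 0) := inferInstance
    exact AffGood.app_injective (Re.ι.f 0) _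
  have h0 : ∀ t : NB W V hV ⊗[Γ(S, W)] Res F OI,
      (β V hV I c).f 0 OI ((mapL (I.ι.f 0) OI).lTensor _ t) =
        (Re.ι.f 0).hom.app _ (e.inv.hom.app (op (subO (UU f V) OI)) ⟨β0 V hV F OI t⟩) := fun t => by
    refine Eq.trans ?_ (pre_ι_psh I c e hc _ ⟨β0 V hV F OI t⟩)
    exact congrArg (fun y => (Resolution.psh I c 0).app (op (subO (UU f V) OI)) ⟨y⟩)
      (β0_natural V hV (I.ι.f 0) OI t)
  intro n
  cases n with
  | zero =>
    constructor
    · intro y hy
      haveI : Mono (Re.ι.f 0) := inferInstance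
      obtain ⟨g, hg⟩ := AffGood.exists_section_of_exact (S := ShortComplex.mk _ _ Re.ι_f_zero_comp_complex_d)
        Re.exact₀ _ y hy
      obtain ⟨t, ht⟩ := hbij.2 (e.hom.hom.app (op (subO (UU f V) OI)) g).down
      refine ⟨(mapL (I.ι.f 0) OI).lTensor _ t, ?_, ?_⟩
      · show (mapL (I.cocomplex.d 0 (0 + 1)) OI).lTensor _ ((mapL (I.ι.f 0) OI).lTensor _ t) = 0
        rw [← LinearMap.comp_apply, ← LinearMap.lTensor_comp,
          show (mapL (I.cocomplex.d 0 (0 + 1)) OI) ∘ₗ mapL (I.ι.f 0) OI = 0 from LinearMap.ext fun z => by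
            obtain ⟨z, rfl⟩ := (toRes _ OI).surjective z
            show mapL _ _ (mapL _ _ (toRes _ _ z)) = 0
            rw [mapL_apply, mapL_apply, ← map_zero (toRes (I.cocomplex.X (0 + 1)) OI)]
            exact congrArg _ (congr($(I.ι_f_zero_comp_complex_d).app O z)),
          LinearMap.lTensor_zero]
        rfl
      · show y - _ = 0
        rw [sub_eq_zero, h0, ht, ← hg]
        refine congrArg _ ?_
        show g = (e.hom ≫ e.inv).hom.app _ g
        rw [e.hom_inv_id]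
        rfl
    · intro x hx hb
      obtain ⟨t, rfl⟩ := KeyA.exists_zero (f := f) (NB W V hV) I OI x hx
      have h1 := hin ((h0 t).symm.trans ((show (β V hV I c).f 0 OI _ = 0 from hb).trans (map_zero _).symm))
      have h2 : β0 V hV F OI t = 0 := by
        have := congrArg (fun z => (e.hom.hom.app (op (subO (UU f V) OI)) z).down) h1
        simp only [map_zero] at this
        refine Eq.trans ?_ this
        show _ = ((e.inv ≫ e.hom).hom.app _ (⟨β0 V hV F OI t⟩ : ULift _)).down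
        rw [e.inv_hom_id]
        rfl
      rw [hbij.1 (h2.trans (map_zero _).symm)]
      exact map_zero _
  | succ m =>
    refine ⟨fun y hy => ?_, fun x hx _ => KeyA.exact_affine (NB W V hV) I hO hOW m x hx⟩
    obtain ⟨r, hr⟩ := hR m (subO (UU f V) OI) inferInstance y hy
    refine ⟨0, map_zero _, r, ?_⟩
    rw [map_zero, sub_zero]
    exact hr

include hW hc in
omit [Module.Flat Γ(S, W) (NB W V hV)] in
/-- **The key comparison.** -/
theorem qis [Module.Flat Γ(S, W) (NB W V hV)] [QuasiCompact f] [QuasiSeparated f]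
    (hG : AffGood.CechAff G) (O : T.Opens) (hOW : O ≤ f ⁻¹ᵁ W) (hO : IsCompact (O : Set T)) :
    MV.Qis (β V hV I c) (⟨O, hOW⟩ : Idx f W) := by
  haveI : IsAffine (W : Scheme.{u}) := hW
  haveI : QuasiSeparated (f ∣_ W) := IsZariskiLocalAtTarget.restrict ‹_› W
  have hqs : IsQuasiSeparated ((f ⁻¹ᵁ W : T.Opens) : Set T) := by
    have : QuasiSeparatedSpace ((f ⁻¹ᵁ W : T.Opens) : Scheme.{u}) :=
      quasiSeparatedSpace_of_quasiSeparated (f ∣_ W)
    exact (isQuasiSeparated_iff_quasiSeparatedSpace _ (f ⁻¹ᵁ W).2).2 this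
  refine ZarCoh.Induction.induction (f ⁻¹ᵁ W) hqs
    (fun O => ∀ h : O ≤ f ⁻¹ᵁ W, MV.Qis (β V hV I c) (⟨O, h⟩ : Idx f W))
    (fun O _ hO hOW => qis_affine V hV I c hW hO hOW e hc hG)
    (fun P Q hP hQ _ _ ihP ihQ ih _ => ?_) O hOW hO hOW
  exact MV.qis_of_square (β V hV I c) (KeyA.square (f := f) (NB W V hV) I ⟨P, hP⟩ ⟨Q, hQ⟩)
    (KeyR.square f W (UU f V) Re ⟨P, hP⟩ ⟨Q, hQ⟩) (ihP hP) (ihQ hQ) (ih _)

end Affine

end Groth.Agent.Lib.EtQCoh.Key
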