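import Groth.Agent.Lib.EtQCoh.MV
import Groth.Agent.Lib.ZarCoh.FlatBC.PullbackSections
import Groth.Agent.Lib.CohDelta.Syzygy
import Groth.Agent.Lib.ZarCoh.Affine
import Mathlib.Algebra.Category.ModuleCat.ChangeOfRings
import Mathlib.RingTheory.Flat.Basic
import Mathlib.LinearAlgebra.TensorProduct.Prod

/-!
# Base change of the sections of a resolution by modules
-/

set_option autoImplicit false
set_option backward.isDefEq.respectTransparency false
set_option backward.isDefEq.respectTransparency.types false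
set_option linter.style.haveILetI false

universe u

open CategoryTheory CategoryTheory.Limits AlgebraicGeometry Opposite TopologicalSpace
open scoped TensorProduct

noncomputable section

namespace Groth.Agent.Lib.EtQCoh.KeyA

variable {T S : Scheme.{u}} (f : T ⟶ S) (W : S.Opens)

/-- Opens over `W`. -/
abbrev Idx : Type u := {O : T.Opens // O ≤ f ⁻¹ᵁ W}

variable {f W}

/-- Sections as a module over the functions on `W`. -/
def Res (M : T.Modules) (O : Idx f W) : ModuleCat.{u} Γ(S, W) :=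
  (ModuleCat.restrictScalars (f.appLE W O.1 O.2).hom).obj (ModuleCat.of Γ(T, O.1) Γ(M, O.1))

/-- The identification with sections. -/
def toRes (M : T.Modules) (O : Idx f W) : Γ(M, O.1) ≃+ Res M O := AddEquiv.refl _

theorem smul_toRes (M : T.Modules) (O : Idx f W) (a : Γ(S, W)) (m : Γ(M, O.1)) :
    a • toRes M O m = toRes M O (f.appLE W O.1 O.2 a • m) := rfl

/-- Restriction. -/
def resL (M : T.Modules) {U V : Idx f W} (h : V ≤ U) : Res M U →ₗ[Γ(S, W)] Res M V where
  toFun x := toRes M V (M.presheaf.map (homOfLE h).op ((toRes M U).symm x))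
  map_add' x y := by rw [map_add, map_add, map_add]
  map_smul' a x := by
    obtain ⟨x, rfl⟩ := (toRes M U).surjective x
    rw [smul_toRes, AddEquiv.symm_apply_apply, AddEquiv.symm_apply_apply, RingHom.id_apply, smul_toRes]
    refine congrArg (toRes M V) ((M.map_smul (homOfLE h) (f.appLE W U.1 U.2 a) x).trans ?_)
    congr 1
    exact ConcreteCategory.congr_hom (f.appLE_map U.2 (homOfLE h).op) a

/-- A morphism of modules on sections. -/
def mapL {M N : T.Modules} (φ : M ⟶ N) (O : Idx f W) : Res M O →ₗ[Γ(S, W)] Res N O where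
  toFun x := toRes N O (φ.app O.1 ((toRes M O).symm x))
  map_add' x y := by rw [map_add, map_add, map_add]
  map_smul' a x := by
    obtain ⟨x, rfl⟩ := (toRes M O).surjective x
    rw [smul_toRes, AddEquiv.symm_apply_apply, AddEquiv.symm_apply_apply, RingHom.id_apply, smul_toRes,
      Scheme.Modules.Hom.app_smul]

theorem resL_apply (M : T.Modules) {U V : Idx f W} (h : V ≤ U) (m : Γ(M, U.1)) :
    resL M h (toRes M U m) = toRes M V (M.presheaf.map (homOfLE h).op m) := rfl

theorem mapL_apply {M N : T.Modules} (φ : M ⟶ N) (O : Idx f W) (m : Γ(M, O.1)) :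
    mapL φ O (toRes M O m) = toRes N O (φ.app O.1 m) := rfl

theorem resL_mapL {M N : T.Modules} (φ : M ⟶ N) {U V : Idx f W} (h : V ≤ U) (x : Res M U) :
    resL N h (mapL φ U x) = mapL φ V (resL M h x) := by
  obtain ⟨x, rfl⟩ := (toRes M U).surjective x
  rw [mapL_apply, resL_apply, resL_apply, mapL_apply]
  exact congrArg (toRes N V)
    (ConcreteCategory.congr_hom (φ.mapPresheaf.naturality (homOfLE (show V.1 ≤ U.1 from h)).op) x).symm

theorem resL_resL (M : T.Modules) {U V V' : Idx f W} (h : V ≤ U) (h' : V' ≤ V) :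
    resL M h' ∘ₗ resL M h = resL M (h'.trans h) := by
  refine LinearMap.ext fun x => ?_
  obtain ⟨x, rfl⟩ := (toRes M U).surjective x
  show resL M h' (resL M h (toRes M U x)) = _
  rw [resL_apply, resL_apply, resL_apply, ← ConcreteCategory.comp_apply, ← M.presheaf.map_comp]
  rfl

theorem resL_self (M : T.Modules) (U : Idx f W) : resL M (le_refl U) = LinearMap.id := by
  refine LinearMap.ext fun x => ?_
  obtain ⟨x, rfl⟩ := (toRes M U).surjective x
  rw [resL_apply, LinearMap.id_apply]
  exact congrArg (toRes M U) (ConcreteCategory.congr_hom (M.presheaf.map_id (op U.1)) x)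

variable (f) (N : ModuleCat.{u} Γ(S, W))

/-- The presheaf `O ↦ N ⊗ Γ(M, O)`. -/
def tensPre (M : T.Modules) : (Idx f W)ᵒᵖ ⥤ AddCommGrpCat.{u} where
  obj O := AddCommGrpCat.of (N ⊗[Γ(S, W)] Res M O.unop)
  map {U V} i := AddCommGrpCat.ofHom ((resL M (leOfHom i.unop)).lTensor N).toAddMonoidHom
  map_id U := by
    refine AddCommGrpCat.hom_ext (AddMonoidHom.ext fun x => ?_)
    show (resL M _).lTensor N x = x
    rw [resL_self, LinearMap.lTensor_id, LinearMap.id_apply]
  map_comp {U V V'} i j := by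
    refine AddCommGrpCat.hom_ext (AddMonoidHom.ext fun x => ?_)
    show (resL M _).lTensor N x = (resL M _).lTensor N ((resL M _).lTensor N x)
    rw [← LinearMap.comp_apply, ← LinearMap.lTensor_comp, resL_resL]

/-- Morphisms of modules. -/
def tensMap {M M' : T.Modules} (φ : M ⟶ M') : tensPre f N M ⟶ tensPre f N M' where
  app O := AddCommGrpCat.ofHom ((mapL φ O.unop).lTensor N).toAddMonoidHom
  naturality U V i := by
    refine AddCommGrpCat.hom_ext (AddMonoidHom.ext fun x => ?_)
    show (mapL φ _).lTensor N ((resL M _).lTensor N x) = (resL M' _).lTensor N ((mapL φ _).lTensor N x)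
    rw [← LinearMap.comp_apply, ← LinearMap.comp_apply, ← LinearMap.lTensor_comp, ← LinearMap.lTensor_comp]
    exact congrArg (fun g => LinearMap.lTensor N g x) (LinearMap.ext fun z => (resL_mapL φ _ z).symm)

variable {f}
variable {F : T.Modules} (I : InjectiveResolution F)

variable (f) in
/-- The complex `O ↦ N ⊗ Γ(I, O)`. -/
def cx : MV.PCx.{u} (Idx f W) where
  X n := tensPre f N (I.cocomplex.X n)
  d n := tensMap f N (I.cocomplex.d n (n + 1))
  d_d n O x := by
    show (mapL _ O.unop).lTensor N ((mapL _ O.unop).lTensor N x) = 0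
    rw [← LinearMap.comp_apply, ← LinearMap.lTensor_comp,
      show (mapL (I.cocomplex.d (n + 1) (n + 1 + 1)) O.unop) ∘ₗ mapL (I.cocomplex.d n (n + 1)) O.unop = 0 from
        LinearMap.ext fun z => by
          obtain ⟨z, rfl⟩ := (toRes _ O.unop).surjective z
          show mapL _ _ (mapL _ _ (toRes _ _ z)) = 0
          rw [mapL_apply, mapL_apply, ← map_zero (toRes (I.cocomplex.X (n + 1 + 1)) O.unop)]
          exact congrArg _ (ConcreteCategory.congr_hom (congrArg (fun g => g.app O.unop.1)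
            (I.cocomplex.d_comp_d n (n + 1) (n + 1 + 1))) z),
      LinearMap.lTensor_zero]
    rfl

section Square

variable (M : T.Modules) (P Q : Idx f W)

/-- The union. -/
abbrev un : Idx f W := ⟨P.1 ⊔ Q.1, sup_le P.2 Q.2⟩

/-- The intersection. -/
abbrev int : Idx f W := ⟨P.1 ⊓ Q.1, inf_le_left.trans P.2⟩

theorem hP : P ≤ un P Q := le_sup_left (a := P.1)
theorem hQ : Q ≤ un P Q := le_sup_right (a := P.1)
theorem hZP : int P Q ≤ P := inf_le_left (b := Q.1)
theorem hZQ : int P Q ≤ Q := inf_le_right (a := P.1)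

/-- The pair of restrictions. -/
def Lmap : Res M (un P Q) →ₗ[Γ(S, W)] Res M P × Res M Q :=
  (resL M (hP P Q)).prod (resL M (hQ P Q))

/-- The difference. -/
def Dmap : Res M P × Res M Q →ₗ[Γ(S, W)] Res M (int P Q) :=
  resL M (hZP P Q) ∘ₗ LinearMap.fst _ _ _ - resL M (hZQ P Q) ∘ₗ LinearMap.snd _ _ _

theorem Lmap_injective : Function.Injective (Lmap M P Q) := by
  intro x y h
  obtain ⟨x, rfl⟩ := (toRes M _).surjective x
  obtain ⟨y, rfl⟩ := (toRes M _).surjective y
  refine congrArg _ (TopCat.Sheaf.eq_of_locally_eq₂ (F := ⟨M.presheaf, M.isSheaf⟩)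
    (homOfLE le_sup_left : P.1 ⟶ P.1 ⊔ Q.1) (homOfLE le_sup_right : Q.1 ⟶ P.1 ⊔ Q.1) le_rfl x y ?_ ?_)
  · exact (toRes M P).injective (congrArg Prod.fst h)
  · exact (toRes M Q).injective (congrArg Prod.snd h)

theorem exact_L_D : Function.Exact (Lmap M P Q) (Dmap M P Q) := by
  rintro ⟨a, b⟩
  obtain ⟨a, rfl⟩ := (toRes M P).surjective a
  obtain ⟨b, rfl⟩ := (toRes M Q).surjective b
  show resL M (hZP P Q) (toRes M P a) - resL M (hZQ P Q) (toRes M Q b) = 0 ↔ _
  rw [sub_eq_zero]
  constructor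
  · intro hab
    let G : TopCat.Sheaf AddCommGrpCat.{u} T := ⟨M.presheaf, M.isSheaf⟩
    let Uf : Bool → T.Opens := fun t => cond t P.1 Q.1
    have hab' := (toRes M _).injective hab
    obtain ⟨c, hc, -⟩ := G.existsUnique_gluing' Uf (P.1 ⊔ Q.1)
      (fun t => homOfLE (by cases t; exact le_sup_right; exact le_sup_left))
      (sup_le (le_iSup Uf true) (le_iSup Uf false))
      (fun t => match t with
        | true => a
        | false => b) (by
      intro i j
      cases i <;> cases j
      · rfl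
      · have h := congrArg (G.obj.map (homOfLE (le_inf inf_le_right inf_le_left : Q.1 ⊓ P.1 ≤ P.1 ⊓ Q.1)).op) hab'
        simp only [G, ← ConcreteCategory.comp_apply, ← Functor.map_comp] at h
        exact h.symm
      · exact hab'
      · rfl)
    refine ⟨toRes M (un P Q) c, Prod.ext ?_ ?_⟩
    · exact congrArg (toRes M P) (hc true)
    · exact congrArg (toRes M Q) (hc false)
  · rintro ⟨c, hc⟩
    obtain ⟨c, rfl⟩ := (toRes M _).surjective c
    rw [← show resL M (hP P Q) (toRes M _ c) = toRes M P a from congrArg Prod.fst hc,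
      ← show resL M (hQ P Q) (toRes M _ c) = toRes M Q b from congrArg Prod.snd hc]
    show resL M _ (resL M _ _) = resL M _ (resL M _ _)
    rw [← LinearMap.comp_apply, ← LinearMap.comp_apply, resL_resL, resL_resL]

theorem prodRight_lTensor_L (z : N ⊗[Γ(S, W)] Res M (un P Q)) :
    TensorProduct.prodRight Γ(S, W) Γ(S, W) N (Res M P) (Res M Q) ((Lmap M P Q).lTensor N z) =
      ((resL M (hP P Q)).lTensor N z, (resL M (hQ P Q)).lTensor N z) := by
  induction z using TensorProduct.induction_on with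
  | zero => simp only [map_zero]; rfl
  | tmul b n => rfl
  | add x y hx hy => simp only [map_add, hx, hy, Prod.mk_add_mk]

theorem lTensor_D (w : N ⊗[Γ(S, W)] (Res M P × Res M Q)) :
    (Dmap M P Q).lTensor N w =
      (resL M (hZP P Q)).lTensor N (TensorProduct.prodRight Γ(S, W) Γ(S, W) N (Res M P) (Res M Q) w).1 -
      (resL M (hZQ P Q)).lTensor N (TensorProduct.prodRight Γ(S, W) Γ(S, W) N (Res M P) (Res M Q) w).2 := by
  induction w using TensorProduct.induction_on with
  | zero => simp only [map_zero, Prod.fst_zero, Prod.snd_zero, sub_zero]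
  | tmul b n =>
    obtain ⟨a, c⟩ := n
    show b ⊗ₜ[Γ(S, W)] (resL M (hZP P Q) a - resL M (hZQ P Q) c) =
      b ⊗ₜ[Γ(S, W)] resL M (hZP P Q) a - b ⊗ₜ[Γ(S, W)] resL M (hZQ P Q) c
    rw [TensorProduct.tmul_sub]
  | add x y hx hy =>
    rw [map_add, hx, hy, map_add, Prod.fst_add, Prod.snd_add, map_add, map_add]
    abel

variable [Module.Flat Γ(S, W) N]

theorem tens_sep (x : N ⊗[Γ(S, W)] Res M (un P Q)) (h₁ : (resL M (hP P Q)).lTensor N x = 0)
    (h₂ : (resL M (hQ P Q)).lTensor N x = 0) : x = 0 := by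
  refine Module.Flat.lTensor_preserves_injective_linearMap _ (Lmap_injective M P Q) ?_
  rw [map_zero]
  apply (TensorProduct.prodRight Γ(S, W) Γ(S, W) N (Res M P) (Res M Q)).injective
  rw [prodRight_lTensor_L, h₁, h₂, map_zero]
  rfl

theorem tens_glue (a : N ⊗[Γ(S, W)] Res M P) (b : N ⊗[Γ(S, W)] Res M Q)
    (h : (resL M (hZP P Q)).lTensor N a = (resL M (hZQ P Q)).lTensor N b) :
    ∃ x, (resL M (hP P Q)).lTensor N x = a ∧ (resL M (hQ P Q)).lTensor N x = b := by
  let e := TensorProduct.prodRight Γ(S, W) Γ(S, W) N (Res M P) (Res M Q)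
  obtain ⟨x, hx⟩ := (Module.Flat.lTensor_exact N (exact_L_D M P Q) (e.symm (a, b))).1 (by
    rw [lTensor_D, e.apply_symm_apply, h, sub_self])
  have := congrArg e hx
  rw [prodRight_lTensor_L, e.apply_symm_apply] at this
  exact ⟨x, congrArg Prod.fst this, congrArg Prod.snd this⟩

end Square

theorem res_surjective (M : T.Modules) [Injective M] {U V : Idx f W} (h : V ≤ U) :
    Function.Surjective ((resL M h).lTensor N) :=
  LinearMap.lTensor_surjective _ fun x => by
    obtain ⟨y, hy⟩ := CohDelta.Flasque.surjective_res M h ((toRes M V).symm x)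
    exact ⟨toRes M U y, (congrArg (toRes M V) hy).trans ((toRes M V).apply_symm_apply x)⟩

theorem square [Module.Flat Γ(S, W) N] (P Q : Idx f W) :
    (cx f N I).Square (un P Q) P Q (int P Q) where
  hP := hP P Q
  hQ := hQ P Q
  hZP := hZP P Q
  hZQ := hZQ P Q
  sep n x h₁ h₂ := tens_sep N (I.cocomplex.X n) P Q x h₁ h₂
  glue n a b h := tens_glue N (I.cocomplex.X n) P Q a b h
  surj n := haveI : Injective (I.cocomplex.X n) := I.injective n; res_surjective N _ _

section Affine

variable {M₁ M₂ M₃ : T.Modules}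

/-- Sections are left exact. -/
theorem exists_section {a : M₁ ⟶ M₂} [Mono a] {b : M₂ ⟶ M₃} {w : a ≫ b = 0}
    (h : (ShortComplex.mk a b w).Exact) (O : T.Opens) (x : Γ(M₂, O)) (hx : b.app O x = 0) :
    ∃ y, a.app O y = x := by
  let Φ := SheafOfModules.toSheaf T.ringCatSheaf
  haveI : Mono (Φ.map a) := inferInstance
  exact TopCat.Sheaf.sections_exact_of_left_exact (h.map Φ) (inferInstanceAs (Mono (Φ.map a))) x hx

variable [F.IsQuasicoherent] {O : T.Opens} (hO : IsAffineOpen O)

include hO in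
/-- The resolution is exact on affine opens. -/
theorem exists_of_d_eq_zero (m : ℕ) (x : Γ(I.cocomplex.X (m + 1), O))
    (hx : (I.cocomplex.d (m + 1) (m + 1 + 1)).app O x = 0) :
    ∃ y, (I.cocomplex.d m (m + 1)).app O y = x := by
  open CohDelta.Syzygy in
  obtain ⟨s, hs⟩ := exists_section (a := kernel.ι (I.cocomplex.d (m + 1) (m + 1 + 1)))
    (ShortComplex.exact_of_f_is_kernel (ShortComplex.mk _ _ (kernel.condition _)) (kernelIsKernel _)) O x hx
  haveI : (CohDelta.Syzygy.Z I 0).IsQuasicoherent :=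
    (SheafOfModules.isQuasicoherent (R := T.ringCatSheaf)).prop_of_iso (CohDelta.Syzygy.augIso I) ‹F.IsQuasicoherent›
  obtain ⟨y, hy⟩ := (CohDelta.Syzygy.c_eq_zero_iff I O m s).1
    ((ZarCoh.Affine.HU_subsingleton (CohDelta.Syzygy.Z I 0) hO m).elim _ _)
  refine ⟨y, ?_⟩
  rw [← hs, ← hy]
  exact (congr($((CohDelta.Syzygy.t_ι I m)).app O y)).symm

include hO in
theorem exact_affine [Module.Flat Γ(S, W) N] (hOW : O ≤ f ⁻¹ᵁ W) (m : ℕ)
    (x : (cx f N I).sec (m + 1) ⟨O, hOW⟩) (hx : (cx f N I).dd (m + 1) ⟨O, hOW⟩ x = 0) :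
    ∃ y, (cx f N I).dd m ⟨O, hOW⟩ y = x := by
  refine (Module.Flat.lTensor_exact N (f := mapL (I.cocomplex.d m (m + 1)) ⟨O, hOW⟩)
    (g := mapL (I.cocomplex.d (m + 1) (m + 1 + 1)) ⟨O, hOW⟩) (fun z => ⟨fun hz => ?_, ?_⟩) x).1 hx
  · obtain ⟨z, rfl⟩ := (toRes _ _).surjective z
    obtain ⟨y, hy⟩ := exists_of_d_eq_zero I hO m z ((toRes _ _).injective (hz.trans (map_zero _).symm))
    exact ⟨toRes _ _ y, congrArg (toRes _ _) hy⟩
  · rintro ⟨y, rfl⟩
    obtain ⟨y, rfl⟩ := (toRes _ _).surjective y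
    rw [mapL_apply, mapL_apply, ← map_zero (toRes (I.cocomplex.X (m + 1 + 1)) (⟨O, hOW⟩ : Idx f W))]
    exact congrArg _ (congr($(I.cocomplex.d_comp_d m (m + 1) (m + 1 + 1)).app O y))

omit [F.IsQuasicoherent] in
/-- Cycles in degree zero come from `F`. -/
theorem exists_zero [Module.Flat Γ(S, W) N] (O : Idx f W) (x : (cx f N I).sec 0 O)
    (hx : (cx f N I).dd 0 O x = 0) : ∃ y, (mapL (I.ι.f 0) O).lTensor N y = x := by
  refine (Module.Flat.lTensor_exact N (f := mapL (I.ι.f 0) O)
    (g := mapL (I.cocomplex.d 0 (0 + 1)) O) (fun z => ⟨fun hz => ?_, ?_⟩) x).1 hx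
  · obtain ⟨z, rfl⟩ := (toRes _ _).surjective z
    haveI : Mono (I.ι.f 0) := inferInstance
    obtain ⟨y, hy⟩ := exists_section (a := I.ι.f 0) I.exact₀ O.1 z
      ((toRes _ _).injective (hz.trans (map_zero _).symm))
    exact ⟨toRes _ _ y, congrArg (toRes _ _) hy⟩
  · rintro ⟨y, rfl⟩
    obtain ⟨y, rfl⟩ := (toRes _ _).surjective y
    show mapL _ O (toRes _ O _) = 0
    rw [mapL_apply, ← map_zero (toRes (I.cocomplex.X (0 + 1)) O)]
    exact congrArg _ (congr($(I.ι_f_zero_comp_complex_d).app O.1 y))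

end Affine

end Groth.Agent.Lib.EtQCoh.KeyA
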