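import Groth.Agent.Lib.EtQCoh.BaseChange

/-!
# Comparing a resolution by modules with a resolution by étale sheaves
-/

set_option autoImplicit false
set_option backward.isDefEq.respectTransparency false
set_option backward.isDefEq.respectTransparency.types false
set_option linter.style.haveILetI false

universe u v' u'

open CategoryTheory CategoryTheory.Limits AlgebraicGeometry Opposite TopologicalSpace
open Groth.Agent.Lib.EtQCoh.LocHomology

noncomputable section

namespace Groth.Agent.Lib.EtQCoh.Resolution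

section Lift

variable {B : Type u'} [Category.{v'} B] [Abelian B] {G : B} (K : CochainComplex B ℕ) (η : G ⟶ K.X 0)
  (hη : η ≫ K.d 0 1 = 0) [Mono η] (h0 : (ShortComplex.mk η (K.d 0 1) hη).Exact)
  (hK : ∀ n, (ShortComplex.mk (K.d n (n + 1)) (K.d (n + 1) (n + 2)) (K.d_comp_d _ _ _)).Exact)
  (R : InjectiveResolution G)

theorem R_aug : R.ι.f 0 ≫ R.cocomplex.d 0 1 = 0 := R.ι_f_zero_comp_complex_d

include h0 hK in
/-- An exact augmented complex maps to any injective resolution. -/
theorem exists_chainMap :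
    ∃ c : K ⟶ R.cocomplex, η ≫ c.f 0 = R.ι.f 0 := by
  let c0 : K.X 0 ⟶ R.cocomplex.X 0 := Injective.factorThru (R.ι.f 0) η
  have hc0 : η ≫ c0 = R.ι.f 0 := Injective.comp_factorThru _ _
  have h1 : η ≫ c0 ≫ R.cocomplex.d 0 1 = 0 := by
    rw [reassoc_of% hc0]
    exact R_aug R
  let c1 : K.X 1 ⟶ R.cocomplex.X 1 := h0.descToInjective (c0 ≫ R.cocomplex.d 0 1) h1
  have hc1 : K.d 0 1 ≫ c1 = c0 ≫ R.cocomplex.d 0 1 := h0.comp_descToInjective _ h1
  exact ⟨CochainComplex.mkHom K R.cocomplex c0 c1 hc1.symm fun n p =>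
    ⟨(hK n).descToInjective (p.2.1 ≫ R.cocomplex.d (n + 1) (n + 2)) (by
        show K.d n (n + 1) ≫ p.2.1 ≫ R.cocomplex.d (n + 1) (n + 2) = 0
        rw [← Category.assoc, ← p.2.2, Category.assoc, R.cocomplex.d_comp_d, comp_zero]),
      ((hK n).comp_descToInjective _ _).symm⟩, hc0⟩

end Lift

variable {T : Scheme.{u}} {F : T.Modules} (I : InjectiveResolution F)

/-- The étale complex of a resolution by modules. -/
abbrev EI : CochainComplex (EtCoh.Ab T) ℕ :=
  haveI : (EPre.E T).Additive := inferInstance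
  ((EPre.E T).mapHomologicalComplex (ComplexShape.up ℕ)).obj I.cocomplex

/-- The augmentation from the sheaf of sections. -/
def aug [F.IsQuasicoherent] {G : EtCoh.Ab T} (e : G ≅ AffGood.qSh F) : G ⟶ (EI I).X 0 :=
  (e ≪≫ EPre.qShIso F).hom ≫ (EPre.E T).map (I.ι.f 0)

set_option maxHeartbeats 1000000 in
theorem exists_chainMap_EI [F.IsQuasicoherent] {G : EtCoh.Ab T} (e : G ≅ AffGood.qSh F) (R : InjectiveResolution G) :
    ∃ c : EI I ⟶ R.cocomplex, aug I e ≫ c.f 0 = R.ι.f 0 := by
  haveI : (EPre.E T).Additive := inferInstance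
  haveI : PreservesFiniteLimits (EPre.E T) := Functor.preservesFiniteLimits_of_preservesHomology _
  have hm : Mono (I.ι.f 0) := inferInstance
  haveI : Mono ((EPre.E T).map (I.ι.f 0)) := (EPre.E T).map_mono _
  haveI : Mono (aug I e) := inferInstanceAs (Mono (_ ≫ _))
  have hη : aug I e ≫ (EI I).d 0 1 = 0 := by
    show ((e ≪≫ EPre.qShIso F).hom ≫ (EPre.E T).map (I.ι.f 0)) ≫ (EPre.E T).map (I.cocomplex.d 0 1) = 0
    have h : (EPre.E T).map (I.ι.f 0 ≫ I.cocomplex.d 0 1) = 0 :=
      (congrArg (EPre.E T).map I.ι_f_zero_comp_complex_d).trans (Functor.map_zero _ _ _)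
    rw [Category.assoc, ← Functor.map_comp, h, comp_zero]
  refine Resolution.exists_chainMap (EI I) (aug I e) hη ?_ (fun n => EPre.exact_E (I.exact_succ n)) R
  let S₀ := ShortComplex.mk (I.ι.f 0) (I.cocomplex.d 0 1) I.ι_f_zero_comp_complex_d
  refine (ShortComplex.exact_iff_of_iso ?_).1 (EPre.exact_E (T := S₀) I.exact₀)
  exact ShortComplex.isoMk (e ≪≫ EPre.qShIso F).symm (Iso.refl _) (Iso.refl _)
    (by simp [aug, S₀]) (by simp [S₀])

variable {S : Scheme.{u}} (f : T ⟶ S)

/-- The presheaf complex of `v ↦ Γ(V, v^* f_* I)`. -/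
abbrev PI : CochainComplex (Psh S) ℕ :=
  ((EPre.pre S).mapHomologicalComplex (ComplexShape.up ℕ)).obj
    (((Coh.push f).mapHomologicalComplex (ComplexShape.up ℕ)).obj I.cocomplex)

/-- The presheaf complex of `V ↦ R(V ×_S T)`. -/
abbrev PR {G : EtCoh.Ab T} (R : InjectiveResolution G) : CochainComplex (Psh S) ℕ :=
  ((sheafToPresheaf S.smallEtaleTopology AddCommGrpCat.{u + 1}).mapHomologicalComplex (ComplexShape.up ℕ)).obj
    (((EtCoh.push f).mapHomologicalComplex (ComplexShape.up ℕ)).obj R.cocomplex)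

variable {G : EtCoh.Ab T} {R : InjectiveResolution G} (c : EI I ⟶ R.cocomplex)

/-- The sections map underlying the chain map. -/
def psh (n : ℕ) : (EPre.pre T).obj (I.cocomplex.X n) ⟶ (R.cocomplex.X n).obj :=
  toSheafify T.smallEtaleTopology ((EPre.pre T).obj (I.cocomplex.X n)) ≫ (c.f n).hom

theorem psh_comm (n m : ℕ) :
    psh I c n ≫ (R.cocomplex.d n m).hom = (EPre.pre T).map (I.cocomplex.d n m) ≫ psh I c m := by
  have h := congrArg (fun a => a.hom) (c.comm n m)
  show (toSheafify _ _ ≫ (c.f n).hom) ≫ (R.cocomplex.d n m).hom = _ ≫ toSheafify _ _ ≫ (c.f m).hom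
  rw [Category.assoc, show (c.f n).hom ≫ (R.cocomplex.d n m).hom =
    ((EI I).d n m).hom ≫ (c.f m).hom from h, ← Category.assoc, ← Category.assoc]
  congr 1
  exact (toSheafify_naturality T.smallEtaleTopology ((EPre.pre T).map (I.cocomplex.d n m))).symm

/-- **The comparison map.** -/
def α : PI I f ⟶ PR f R where
  f n := BaseChange.γ f (I.cocomplex.X n) ≫ Functor.whiskerLeft (EtCoh.bc f).op (psh I c n)
  comm' n m _ := by
    show (BaseChange.γ f _ ≫ Functor.whiskerLeft _ _) ≫ Functor.whiskerLeft (EtCoh.bc f).op (R.cocomplex.d n m).hom =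
      (EPre.pre S).map ((Coh.push f).map (I.cocomplex.d n m)) ≫ BaseChange.γ f _ ≫ Functor.whiskerLeft _ _
    rw [Category.assoc, ← Functor.whiskerLeft_comp, psh_comm, Functor.whiskerLeft_comp, ← Category.assoc,
      ← BaseChange.γ_natural, Category.assoc]

end Groth.Agent.Lib.EtQCoh.Resolution
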