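import Groth.Agent.Lib.EtQCoh.MV
import Groth.Agent.Lib.EtQCoh.EPre
import Groth.Agent.Lib.EtQCoh.Resolution
import Groth.Agent.Lib.EtQCoh.KeyA
import Groth.Agent.Lib.EtJ.Double

/-!
# The étale resolution on the opens of a base change
-/

set_option autoImplicit false
set_option backward.isDefEq.respectTransparency false
set_option backward.isDefEq.respectTransparency.types false
set_option linter.style.haveILetI false

universe u

open CategoryTheory CategoryTheory.Limits AlgebraicGeometry Opposite TopologicalSpace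
open Groth.Agent.Lib.EtQCoh.EPre Groth.Agent.Lib.EtQCoh.KeyA

noncomputable section

namespace Groth.Agent.Lib.EtQCoh.KeyR

section Sub

variable {X : Scheme.{u}} (V : X.Etale)

/-- Inclusions of opens. -/
def subMap {O O' : V.left.Opens} (h : O' ≤ O) : sub V O' ⟶ sub V O :=
  MorphismProperty.Over.homMk (V.left.homOfLE h) (by
    show V.left.homOfLE h ≫ O.ι ≫ V.hom = O'.ι ≫ V.hom
    rw [← Category.assoc, Scheme.homOfLE_ι])

theorem subMap_id (O : V.left.Opens) : subMap V (le_refl O) = 𝟙 (sub V O) :=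
  MorphismProperty.Over.Hom.ext (Scheme.homOfLE_rfl _ _)

theorem subMap_comp {O O' O'' : V.left.Opens} (h : O' ≤ O) (h' : O'' ≤ O') :
    subMap V h' ≫ subMap V h = subMap V (h'.trans h) :=
  MorphismProperty.Over.Hom.ext (Scheme.homOfLE_homOfLE _ h' h)

theorem subMap_left {O O' : V.left.Opens} (h : O' ≤ O) (x : (sub V O').left) :
    O.ι ((subMap V h).left x) = O'.ι x :=
  congr($(Scheme.homOfLE_ι V.left h) x)

theorem subMap_subι {O O' : V.left.Opens} (h : O' ≤ O) : subMap V h ≫ subι V O = subι V O' :=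
  MorphismProperty.Over.Hom.ext (Scheme.homOfLE_ι V.left h)

instance {O O' : V.left.Opens} (h : O' ≤ O) : IsOpenImmersion (subMap V h).left :=
  inferInstanceAs (IsOpenImmersion (V.left.homOfLE h))

instance mono_subMap {O O' : V.left.Opens} (h : O' ≤ O) : Mono (subMap V h) :=
  (MorphismProperty.Over.forget _ _ X ⋙ Over.forget X).mono_of_mono_map
    (inferInstanceAs (Mono (subMap V h).left))

variable (G : EtCoh.Ab X) (P Q : V.left.Opens)

/-- Sections vanishing on two opens vanish on their union. -/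
theorem sep (x : EtCoh.sect G (sub V (P ⊔ Q)))
    (h₁ : G.obj.map (subMap V le_sup_left : sub V P ⟶ _).op x = 0)
    (h₂ : G.obj.map (subMap V le_sup_right : sub V Q ⟶ _).op x = 0) : x = 0 := by
  refine EtSite.Stalk.sections_ext G x 0 fun z => ?_
  rcases (z.2 : z.1 ∈ P ⊔ Q) with hz | hz
  · exact ⟨sub V P, subMap V le_sup_left, by rw [h₁, map_zero], ⟨z.1, hz⟩,
      Subtype.ext (subMap_left V le_sup_left (⟨z.1, hz⟩ : P))⟩
  · exact ⟨sub V Q, subMap V le_sup_right, by rw [h₂, map_zero], ⟨z.1, hz⟩,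
      Subtype.ext (subMap_left V le_sup_right (⟨z.1, hz⟩ : Q))⟩

/-- Gluing over two opens. -/
theorem glue (a : EtCoh.sect G (sub V P)) (b : EtCoh.sect G (sub V Q))
    (hab : G.obj.map (subMap V inf_le_left : sub V (P ⊓ Q) ⟶ _).op a =
      G.obj.map (subMap V inf_le_right : sub V (P ⊓ Q) ⟶ _).op b) :
    ∃ c : EtCoh.sect G (sub V (P ⊔ Q)), G.obj.map (subMap V le_sup_left : sub V P ⟶ _).op c = a ∧
      G.obj.map (subMap V le_sup_right : sub V Q ⟶ _).op c = b := by
  let Z : Bool → X.Etale := fun t => sub V (cond t P Q)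
  let π : ∀ t, Z t ⟶ sub V (P ⊔ Q) := fun t =>
    subMap V (by cases t; exact le_sup_right; exact le_sup_left)
  have hc : Sieve.ofArrows Z π ∈ X.smallEtaleTopology (sub V (P ⊔ Q)) := by
    refine EtSite.Basic.ofArrows_mem Z π fun z => ?_
    rcases (z.2 : z.1 ∈ P ⊔ Q) with hz | hz
    · exact ⟨true, ⟨z.1, hz⟩, Subtype.ext (subMap_left V (O' := P) le_sup_left ⟨z.1, hz⟩)⟩
    · exact ⟨false, ⟨z.1, hz⟩, Subtype.ext (subMap_left V (O' := Q) le_sup_right ⟨z.1, hz⟩)⟩
  have hG : Presieve.IsSheaf X.smallEtaleTopology (G.obj ⋙ forget AddCommGrpCat.{u + 1}) :=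
    (isSheaf_iff_isSheaf_of_type _ _).1
      ((sheafCompose X.smallEtaleTopology (forget AddCommGrpCat.{u + 1})).obj G).property
  have hsf := hG _ hc
  rw [Sieve.ofArrows, ← Presieve.isSheafFor_iff_generate, Presieve.isSheafFor_arrows_iff] at hsf
  have cross : ∀ (T : X.Etale) (p : T ⟶ sub V P) (q : T ⟶ sub V Q),
      p ≫ subMap V (le_sup_left (b := Q)) = q ≫ subMap V (le_sup_right (a := P)) →
      G.obj.map p.op a = G.obj.map q.op b := by
    intro T p q hpq
    have hpq' : p.left ≫ P.ι = q.left ≫ Q.ι := by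
      have := congrArg (fun g : T ⟶ sub V (P ⊔ Q) => (g ≫ subι V (P ⊔ Q)).left) hpq
      simp only [Category.assoc, subMap_subι] at this
      exact this
    have hr : Set.range (p.left ≫ P.ι).base ⊆ Set.range (P ⊓ Q).ι.base := by
      rintro _ ⟨t, rfl⟩
      rw [Scheme.Opens.range_ι]
      refine ⟨(p.left t).2, ?_⟩
      rw [hpq']
      exact (q.left t).2
    let l : T.left ⟶ (P ⊓ Q : V.left.Opens) := IsOpenImmersion.lift (P ⊓ Q).ι (p.left ≫ P.ι) hr
    have hl : l ≫ (P ⊓ Q).ι = p.left ≫ P.ι := IsOpenImmersion.lift_fac _ _ _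
    let r : T ⟶ sub V (P ⊓ Q) := MorphismProperty.Over.homMk l (by
      show l ≫ (P ⊓ Q).ι ≫ V.hom = T.hom
      rw [← Category.assoc, hl, Category.assoc]
      exact Over.w p.hom)
    have h₁ : r ≫ subMap V inf_le_left = p := MorphismProperty.Over.Hom.ext ((cancel_mono P.ι).1 (by
      show (l ≫ V.left.homOfLE (inf_le_left : P ⊓ Q ≤ P)) ≫ P.ι = _
      rw [Category.assoc, Scheme.homOfLE_ι, hl]))
    have h₂ : r ≫ subMap V inf_le_right = q := MorphismProperty.Over.Hom.ext ((cancel_mono Q.ι).1 (by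
      show (l ≫ V.left.homOfLE (inf_le_right : P ⊓ Q ≤ Q)) ≫ Q.ι = _
      rw [Category.assoc, Scheme.homOfLE_ι, hl, hpq']))
    rw [← h₁, ← h₂, op_comp, op_comp, Functor.map_comp, Functor.map_comp, ConcreteCategory.comp_apply,
      ConcreteCategory.comp_apply, hab]
  let s : ∀ t, (G.obj ⋙ forget AddCommGrpCat.{u + 1}).obj (op (Z t)) := fun t =>
    match t with
    | true => a
    | false => b
  have hs : Presieve.Arrows.Compatible _ π s := by
    intro i k T gi gk hg
    cases i <;> cases k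
    · obtain rfl : gi = gk := (cancel_mono (π false)).1 hg
      rfl
    · exact (cross T gk gi hg.symm).symm
    · exact cross T gi gk hg
    · obtain rfl : gi = gk := (cancel_mono (π true)).1 hg
      rfl
  obtain ⟨c, hc₁, -⟩ := hsf s hs
  exact ⟨c, hc₁ true, hc₁ false⟩

end Sub

variable {T S : Scheme.{u}} {f : T ⟶ S} {W : S.Opens} (U : T.Etale)

/-- The open subobjects over opens of `T`. -/
abbrev subO (O : Idx f W) : T.Etale := sub U (U.hom ⁻¹ᵁ O.1)

/-- Functoriality. -/
def subO_map {O O' : Idx f W} (h : O' ≤ O) : subO U O' ⟶ subO U O :=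
  subMap U (U.hom.preimage_mono h)

variable (f W)

/-- As a functor. -/
def subF : Idx f W ⥤ T.Etale where
  obj O := subO U O
  map i := subO_map U (leOfHom i)
  map_id _ := subMap_id U _
  map_comp _ _ := (subMap_comp U _ _).symm

variable {G : EtCoh.Ab T} (R : InjectiveResolution G)

/-- The complex `O ↦ R(u⁻¹O)`. -/
def cx : MV.PCx.{u + 1} (Idx f W) where
  X n := (subF f W U).op ⋙ (R.cocomplex.X n).obj
  d n := Functor.whiskerLeft _ (R.cocomplex.d n (n + 1)).hom
  d_d n O x := ConcreteCategory.congr_hom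
    (congrArg (fun g => g.hom.app ((subF f W U).op.obj O)) (R.cocomplex.d_comp_d n (n + 1) (n + 1 + 1))) x

theorem square (P Q : Idx f W) :
    (cx f W U R).Square (KeyA.un P Q) P Q (KeyA.int P Q) where
  hP := KeyA.hP P Q
  hQ := KeyA.hQ P Q
  hZP := KeyA.hZP P Q
  hZQ := KeyA.hZQ P Q
  sep n x h₁ h₂ := sep U (R.cocomplex.X n) (U.hom ⁻¹ᵁ P.1) (U.hom ⁻¹ᵁ Q.1) x h₁ h₂
  glue n a b h := glue U (R.cocomplex.X n) (U.hom ⁻¹ᵁ P.1) (U.hom ⁻¹ᵁ Q.1) a b h
  surj n := haveI : Injective (R.cocomplex.X n) := R.injective n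
    EtJ.Double.map_surjective_of_injective (R.cocomplex.X n) (subMap U _)

end Groth.Agent.Lib.EtQCoh.KeyR
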