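import Mathlib.Algebra.Category.Grp.Basic
import Mathlib.CategoryTheory.Category.Preorder
import Mathlib.CategoryTheory.Opposites
import Mathlib.Tactic.Abel
import Mathlib.Tactic.Convert

/-!
# Mayer-Vietoris for comparison maps of complexes of presheaves, elementwise
-/

set_option autoImplicit false

universe v v' w

open CategoryTheory Opposite

noncomputable section

namespace Groth.Agent.Lib.EtQCoh.MV

variable (ι : Type w) [Preorder ι]

/-- A cochain complex of presheaves on an ordered set. -/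
structure PCx where
  /-- The terms. -/
  X : ℕ → ιᵒᵖ ⥤ AddCommGrpCat.{v}
  /-- The differential. -/
  d : ∀ n, X n ⟶ X (n + 1)
  d_d : ∀ (n : ℕ) (O : ιᵒᵖ) (x : (X n).obj O), (d (n + 1)).app O ((d n).app O x) = 0

variable {ι}

namespace PCx

variable (K : PCx.{v} ι)

/-- Sections. -/
abbrev sec (n : ℕ) (O : ι) : Type v := (K.X n).obj (op O)

/-- The differential on sections. -/
def dd (n : ℕ) (O : ι) : K.sec n O →+ K.sec (n + 1) O := ((K.d n).app (op O)).hom

/-- Restriction. -/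
def res (n : ℕ) {U V : ι} (h : V ≤ U) : K.sec n U →+ K.sec n V := ((K.X n).map (homOfLE h).op).hom

theorem dd_dd (n : ℕ) (O : ι) (x : K.sec n O) : K.dd (n + 1) O (K.dd n O x) = 0 := K.d_d n _ x

theorem res_dd (n : ℕ) {U V : ι} (h : V ≤ U) (x : K.sec n U) :
    K.res (n + 1) h (K.dd n U x) = K.dd n V (K.res n h x) :=
  (NatTrans.naturality_apply (K.d n) (homOfLE h).op x).symm

theorem res_res (n : ℕ) {U V W : ι} (h : V ≤ U) (h' : W ≤ V) (x : K.sec n U) :
    K.res n h' (K.res n h x) = K.res n (h'.trans h) x :=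
  (ConcreteCategory.congr_hom ((K.X n).map_comp (homOfLE h).op (homOfLE h').op) x).symm

/-- Boundaries. -/
def Bd : ∀ (n : ℕ) (O : ι), K.sec n O → Prop
  | 0, _, x => x = 0
  | m + 1, O, x => ∃ r, K.dd m O r = x

theorem Bd.res' : ∀ {n : ℕ} {U V : ι} (h : V ≤ U) {x : K.sec n U}, K.Bd n U x → K.Bd n V (K.res n h x)
  | 0, _, _, _, x, hx => by
    show K.res 0 _ x = 0
    rw [show x = 0 from hx, map_zero]
  | m + 1, _, _, h, _, ⟨r, hr⟩ => ⟨K.res m h r, by rw [← res_dd, hr]⟩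

theorem Bd.add' : ∀ {n : ℕ} {O : ι} {x y : K.sec n O}, K.Bd n O x → K.Bd n O y → K.Bd n O (x + y)
  | 0, _, x, y, hx, hy => by
    show x + y = 0
    rw [show x = 0 from hx, show y = 0 from hy, add_zero]
  | _ + 1, _, _, _, ⟨r, hr⟩, ⟨s, hs⟩ => ⟨r + s, by rw [map_add, hr, hs]⟩

theorem Bd.neg' : ∀ {n : ℕ} {O : ι} {x : K.sec n O}, K.Bd n O x → K.Bd n O (-x)
  | 0, _, x, hx => by
    show -x = 0
    rw [show x = 0 from hx, neg_zero]
  | _ + 1, _, _, ⟨r, hr⟩ => ⟨-r, by rw [map_neg, hr]⟩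

theorem Bd.sub' {n : ℕ} {O : ι} {x y : K.sec n O} (hx : K.Bd n O x) (hy : K.Bd n O y) :
    K.Bd n O (x - y) := by
  rw [sub_eq_add_neg]
  exact Bd.add' K hx (Bd.neg' K hy)

/-- Boundaries lift to cycles along surjective restrictions. -/
theorem Bd.lift {U V : ι} (h : V ≤ U) (hs : ∀ n, Function.Surjective (K.res n h)) :
    ∀ {n : ℕ} {x : K.sec n V}, K.Bd n V x → ∃ y, K.dd n U y = 0 ∧ K.res n h y = x
  | 0, x, hx => ⟨0, map_zero _, (map_zero _).trans (show x = 0 from hx).symm⟩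
  | m + 1, _, ⟨r, hr⟩ => by
    obtain ⟨r', rfl⟩ := hs m r
    exact ⟨K.dd m U r', K.dd_dd m U r', (K.res_dd m h r').trans hr⟩

/-- A Mayer-Vietoris square. -/
structure Square (U P Q Z : ι) : Prop where
  hP : P ≤ U
  hQ : Q ≤ U
  hZP : Z ≤ P
  hZQ : Z ≤ Q
  sep : ∀ (n : ℕ) (x : K.sec n U), K.res n hP x = 0 → K.res n hQ x = 0 → x = 0
  glue : ∀ (n : ℕ) (a : K.sec n P) (b : K.sec n Q), K.res n hZP a = K.res n hZQ b →
    ∃ x : K.sec n U, K.res n hP x = a ∧ K.res n hQ x = b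
  surj : ∀ n : ℕ, Function.Surjective (K.res n hZP)

theorem Square.ext {U P Q Z : ι} (s : K.Square U P Q Z) {n : ℕ} {x y : K.sec n U}
    (h₁ : K.res n s.hP x = K.res n s.hP y) (h₂ : K.res n s.hQ x = K.res n s.hQ y) : x = y :=
  sub_eq_zero.1 (s.sep n _ (by rw [map_sub, h₁, sub_self]) (by rw [map_sub, h₂, sub_self]))

end PCx

variable (A : PCx.{v} ι) (R : PCx.{v'} ι)

/-- A comparison map. -/
structure Hom where
  /-- The components. -/
  f : ∀ (n : ℕ) (O : ι), A.sec n O →+ R.sec n O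
  comm : ∀ (n : ℕ) (O : ι) (x : A.sec n O), f (n + 1) O (A.dd n O x) = R.dd n O (f n O x)
  natural : ∀ (n : ℕ) {U V : ι} (h : V ≤ U) (x : A.sec n U), f n V (A.res n h x) = R.res n h (f n U x)

variable {A R} (β : Hom A R)

/-- Surjective on cohomology. -/
def Surj (n : ℕ) (O : ι) : Prop :=
  ∀ y, R.dd n O y = 0 → ∃ x, A.dd n O x = 0 ∧ R.Bd n O (y - β.f n O x)

/-- Injective on cohomology. -/
def Inj (n : ℕ) (O : ι) : Prop :=
  ∀ x, A.dd n O x = 0 → R.Bd n O (β.f n O x) → A.Bd n O x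

/-- Bijective on cohomology in every degree. -/
def Qis (O : ι) : Prop := ∀ n, Surj β n O ∧ Inj β n O

theorem surj_of_square {U P Q Z : ι} (sA : A.Square U P Q Z) (sR : R.Square U P Q Z)
    (hP : Qis β P) (hQ : Qis β Q) (hZ : Qis β Z) : ∀ n, Surj β n U
  | 0 => fun y hy => by
    obtain ⟨a, ha, ha'⟩ := (hP 0).1 (R.res 0 sR.hP y) (by rw [← R.res_dd, hy, map_zero])
    obtain ⟨b, hb, hb'⟩ := (hQ 0).1 (R.res 0 sR.hQ y) (by rw [← R.res_dd, hy, map_zero])
    have ea := sub_eq_zero.1 (show R.res 0 sR.hP y - β.f 0 P a = 0 from ha')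
    have eb := sub_eq_zero.1 (show R.res 0 sR.hQ y - β.f 0 Q b = 0 from hb')
    have hab : A.res 0 sA.hZP a - A.res 0 sA.hZQ b = 0 :=
      (hZ 0).2 _ (by rw [map_sub, ← A.res_dd, ← A.res_dd, ha, hb, map_zero, map_zero, sub_zero]) (by
        show β.f 0 Z _ = 0
        rw [map_sub, β.natural, β.natural, ← ea, ← eb, R.res_res, R.res_res, sub_self])
    obtain ⟨x, hxa, hxb⟩ := sA.glue 0 a b (sub_eq_zero.1 hab)
    refine ⟨x, PCx.Square.ext A sA (n := 1) ?_ ?_, ?_⟩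
    · rw [A.res_dd, hxa, ha, map_zero]
    · rw [A.res_dd, hxb, hb, map_zero]
    · show y - β.f 0 U x = 0
      refine sR.sep 0 _ ?_ ?_
      · rw [map_sub, ← β.natural, hxa, ea, sub_self]
      · rw [map_sub, ← β.natural, hxb, eb, sub_self]
  | m + 1 => fun y hy => by
    obtain ⟨a, ha, r, hr⟩ := (hP (m + 1)).1 (R.res _ sR.hP y) (by rw [← R.res_dd, hy, map_zero])
    obtain ⟨b, hb, s, hs⟩ := (hQ (m + 1)).1 (R.res _ sR.hQ y) (by rw [← R.res_dd, hy, map_zero])
    -- make the two cycles agree on the intersection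
    obtain ⟨e, he⟩ := (hZ (m + 1)).2 (A.res _ sA.hZP a - A.res _ sA.hZQ b)
      (by rw [map_sub, ← A.res_dd, ← A.res_dd, ha, hb, map_zero, map_zero, sub_zero])
      ⟨R.res m sR.hZQ s - R.res m sR.hZP r, by
        rw [map_sub, ← R.res_dd, ← R.res_dd, hr, hs, map_sub, map_sub, map_sub, β.natural, β.natural,
          R.res_res, R.res_res]
        abel⟩
    obtain ⟨eP, rfl⟩ := sA.surj m e
    let a₁ := a - A.dd m P eP
    let r₁ := r + β.f m P eP
    have ha₁ : A.res _ sA.hZP a₁ = A.res _ sA.hZQ b := by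
      show A.res _ sA.hZP (a - A.dd m P eP) = _
      rw [map_sub, A.res_dd, he]
      abel
    have hr₁ : R.dd m P r₁ = R.res _ sR.hP y - β.f (m + 1) P a₁ := by
      show R.dd m P (r + β.f m P eP) = _ - β.f (m + 1) P (a - A.dd m P eP)
      rw [map_add, map_sub, hr, β.comm]
      abel
    have ha₁' : A.dd _ P a₁ = 0 := by
      show A.dd _ P (a - A.dd m P eP) = 0
      rw [map_sub, ha, A.dd_dd, sub_zero]
    clear_value a₁ r₁
    -- the difference of the primitives is a cycle on the intersection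
    obtain ⟨c, hc, hbd⟩ := (hZ m).1 (R.res m sR.hZQ s - R.res m sR.hZP r₁) (by
      rw [map_sub, ← R.res_dd, ← R.res_dd, hs, hr₁, map_sub, map_sub, R.res_res, R.res_res, ← β.natural,
        ← β.natural, ha₁]
      abel)
    obtain ⟨cP, rfl⟩ := sA.surj m c
    obtain ⟨t, ht, ht'⟩ := PCx.Bd.lift R sR.hZP sR.surj hbd
    let a₂ := a₁ - A.dd m P cP
    let r₂ := r₁ + β.f m P cP + t
    obtain ⟨x, hxa, hxb⟩ := sA.glue (m + 1) a₂ b (by
      show A.res _ sA.hZP (a₁ - A.dd m P cP) = _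
      rw [map_sub, A.res_dd, hc, sub_zero, ha₁])
    obtain ⟨z, hzr, hzs⟩ := sR.glue m r₂ s (by
      show R.res m sR.hZP (r₁ + β.f m P cP + t) = _
      rw [map_add, map_add, ht', ← β.natural]
      abel)
    refine ⟨x, PCx.Square.ext A sA (n := m + 2) ?_ ?_, z, PCx.Square.ext R sR ?_ ?_⟩
    · rw [A.res_dd, hxa, map_zero]
      show A.dd _ P (a₁ - A.dd m P cP) = 0
      rw [map_sub, ha₁', A.dd_dd, sub_zero]
    · rw [A.res_dd, hxb, hb, map_zero]
    · rw [R.res_dd, hzr, map_sub, ← β.natural, hxa]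
      show R.dd m P (r₁ + β.f m P cP + t) = _ - β.f (m + 1) P (a₁ - A.dd m P cP)
      rw [map_add, map_add, hr₁, ht, map_sub, β.comm]
      abel
    · rw [R.res_dd, hzs, hs, map_sub, ← β.natural, hxb]

theorem inj_of_square {U P Q Z : ι} (sA : A.Square U P Q Z) (sR : R.Square U P Q Z)
    (hP : Qis β P) (hQ : Qis β Q) (hZ : Qis β Z) : ∀ n, Inj β n U
  | 0 => fun x hx (hy : β.f 0 U x = 0) =>
    sA.sep 0 x ((hP 0).2 _ (by rw [← A.res_dd, hx, map_zero]) (by
      show β.f 0 P _ = 0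
      rw [β.natural, hy, map_zero]))
      ((hQ 0).2 _ (by rw [← A.res_dd, hx, map_zero]) (by
        show β.f 0 Q _ = 0
        rw [β.natural, hy, map_zero]))
  | m + 1 => fun x hx ⟨r, hr⟩ => by
    obtain ⟨e, he⟩ := (hP (m + 1)).2 (A.res _ sA.hP x) (by rw [← A.res_dd, hx, map_zero])
      ⟨R.res m sR.hP r, by rw [← R.res_dd, hr, β.natural]⟩
    obtain ⟨g, hg⟩ := (hQ (m + 1)).2 (A.res _ sA.hQ x) (by rw [← A.res_dd, hx, map_zero])
      ⟨R.res m sR.hQ r, by rw [← R.res_dd, hr, β.natural]⟩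
    obtain ⟨c, hc, hc'⟩ := (hP m).1 (R.res m sR.hP r - β.f m P e) (by
      rw [map_sub, ← R.res_dd, hr, ← β.comm, he, β.natural, sub_self])
    obtain ⟨c', hc₂, hc₂'⟩ := (hQ m).1 (R.res m sR.hQ r - β.f m Q g) (by
      rw [map_sub, ← R.res_dd, hr, ← β.comm, hg, β.natural, sub_self])
    have hd : A.dd m P (e + c) = A.res _ sA.hP x := by rw [map_add, he, hc, add_zero]
    have hd' : A.dd m Q (g + c') = A.res _ sA.hQ x := by rw [map_add, hg, hc₂, add_zero]
    have hbd := (hZ m).2 (A.res m sA.hZP (e + c) - A.res m sA.hZQ (g + c'))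
      (by rw [map_sub, ← A.res_dd, ← A.res_dd, hd, hd', A.res_res, A.res_res, sub_self]) (by
      convert PCx.Bd.sub' R (PCx.Bd.res' R sR.hZQ hc₂') (PCx.Bd.res' R sR.hZP hc') using 1
      simp only [map_add, map_sub, β.natural, R.res_res]
      abel)
    obtain ⟨t, ht, ht'⟩ := PCx.Bd.lift A sA.hZP sA.surj hbd
    obtain ⟨z, hza, hzb⟩ := sA.glue m (e + c - t) (g + c') (by rw [map_sub, ht']; abel)
    exact ⟨z, PCx.Square.ext A sA (by rw [A.res_dd, hza, map_sub, hd, ht, sub_zero])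
      (by rw [A.res_dd, hzb, hd'])⟩

/-- **Mayer-Vietoris.** -/
theorem qis_of_square {U P Q Z : ι} (sA : A.Square U P Q Z) (sR : R.Square U P Q Z)
    (hP : Qis β P) (hQ : Qis β Q) (hZ : Qis β Z) : Qis β U := fun n =>
  ⟨surj_of_square β sA sR hP hQ hZ n, inj_of_square β sA sR hP hQ hZ n⟩

end Groth.Agent.Lib.EtQCoh.MV
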