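import Groth.Agent.Lib.EtQCoh.Rho
import Groth.Agent.Lib.CohDelta.Sect
import Mathlib.LinearAlgebra.TensorProduct.Finiteness

/-!
# The comparison is locally bijective on homology
-/

set_option autoImplicit false
set_option backward.isDefEq.respectTransparency false
set_option backward.isDefEq.respectTransparency.types false
set_option linter.style.haveILetI false

universe u

open CategoryTheory CategoryTheory.Limits AlgebraicGeometry Opposite TopologicalSpace
open Groth.Agent.Lib.EtQCoh.EPre Groth.Agent.Lib.EtQCoh.KeyA Groth.Agent.Lib.EtQCoh.KeyR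
open Groth.Agent.Lib.EtQCoh.Key Groth.Agent.Lib.EtQCoh.Rho Groth.Agent.Lib.EtQCoh.LocHomology
open ZarCoh.FlatBC.PullbackSections Groth.Agent.Lib.DescAlg.PbSec
open scoped TensorProduct

noncomputable section

namespace Groth.Agent.Lib.EtQCoh.Main

variable {T S : Scheme.{u}} {f : T ⟶ S}

/-- A boundary predicate in terms of an abstract previous degree. -/
theorem exists_of_bd {W : S.Opens} (U : T.Etale) {G : EtCoh.Ab T} (Re : InjectiveResolution G)
    (O : Idx f W) {p i : ℕ} (hp : p = (ComplexShape.up ℕ).prev i)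
    {x : (KeyR.cx f W U Re).sec i O} (h : (KeyR.cx f W U Re).Bd i O x) :
    ∃ w, (Re.cocomplex.d p i).hom.app (op (subO U O)) w = x := by
  cases i with
  | zero => exact ⟨0, (map_zero _).trans (show x = 0 from h).symm⟩
  | succ m =>
    obtain rfl : p = m := hp.trans (CochainComplex.prev_nat_succ m)
    obtain ⟨r, hr⟩ := h
    exact ⟨r, hr⟩

theorem bd_of_eq {W : S.Opens} (U : T.Etale) {G : EtCoh.Ab T} (Re : InjectiveResolution G)
    (O : Idx f W) {p i : ℕ} (hp : p = (ComplexShape.up ℕ).prev i)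
    {x : (KeyR.cx f W U Re).sec i O} {w} (h : (Re.cocomplex.d p i).hom.app (op (subO U O)) w = x) :
    (KeyR.cx f W U Re).Bd i O x := by
  cases i with
  | zero =>
    show x = 0
    rw [← h, Re.cocomplex.shape p 0 (by simp)]
    rfl
  | succ m =>
    obtain rfl : p = m := hp.trans (CochainComplex.prev_nat_succ m)
    exact ⟨w, h⟩

theorem exists_of_bdA {W : S.Opens} (N : ModuleCat.{u} Γ(S, W)) {F : T.Modules} (I : InjectiveResolution F)
    (O : Idx f W) {p i : ℕ} (hp : p = (ComplexShape.up ℕ).prev i) {x : (KeyA.cx f N I).sec i O}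
    (h : (KeyA.cx f N I).Bd i O x) : ∃ e, (mapL (I.cocomplex.d p i) O).lTensor N e = x := by
  cases i with
  | zero => exact ⟨0, (map_zero _).trans (show x = 0 from h).symm⟩
  | succ m =>
    obtain rfl : p = m := hp.trans (CochainComplex.prev_nat_succ m)
    obtain ⟨r, hr⟩ := h
    exact ⟨r, hr⟩

theorem map_map {X : Scheme.{u}} {P : X.Etaleᵒᵖ ⥤ AddCommGrpCat.{u + 1}} {A B C : X.Etale} (g : B ⟶ A)
    (h : C ⟶ B) (x : P.obj (op A)) : P.map h.op (P.map g.op x) = P.map (h ≫ g).op x :=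
  (ConcreteCategory.congr_hom (P.map_comp g.op h.op) x).symm

theorem pre_map_down {X : Scheme.{u}} (M : X.Modules) {A B : X.Etale} (g : B ⟶ A)
    (x : ((pre X).obj M).obj (op A)) :
    (((pre X).obj M).map g.op x).down =
      R g.left (Over.w g.hom) M (W := ⊤) (W' := ⊤) le_top x.down := rfl

theorem flat_NB {W : S.Opens} (hW : IsAffineOpen W) (V : S.Etale) [IsAffine V.left]
    (hV : (⊤ : V.left.Opens) ≤ V.hom ⁻¹ᵁ W) : Module.Flat Γ(S, W) (NB W V hV) := by
  haveI : Etale V.hom := V.prop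
  haveI : IsAffine ((𝟭 Scheme.{u}).obj V.left) := ‹IsAffine V.left›
  exact V.hom.flat_appLE hW (isAffineOpen_top _) hV

theorem le_of_hom {W : S.Opens} {V V' : S.Etale} (g : V' ⟶ V) (hV : (⊤ : V.left.Opens) ≤ V.hom ⁻¹ᵁ W) :
    (⊤ : V'.left.Opens) ≤ V'.hom ⁻¹ᵁ W := by
  intro x _
  show V'.hom x ∈ W
  rw [← show g.left ≫ V.hom = V'.hom from Over.w g.hom]
  exact hV (show g.left x ∈ (⊤ : V.left.Opens) from trivial)

/-- A small affine étale neighbourhood over an affine open of a given one. -/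
theorem exists_nbhd (V : S.Etale) (v : V.left) (W₀ : S.Opens) (hv : V.hom v ∈ W₀) :
    ∃ (W : S.Opens) (V' : S.Etale) (g : V' ⟶ V), IsAffineOpen W ∧ W ≤ W₀ ∧ V.hom v ∈ W ∧ IsAffine V'.left ∧
      ((⊤ : V'.left.Opens) ≤ V'.hom ⁻¹ᵁ W) ∧ ∃ v' : V'.left, g.left v' = v := by
  obtain ⟨_, ⟨W, hW, rfl⟩, hvW, hWle⟩ := S.isBasis_affineOpens.exists_subset_of_mem_open hv W₀.2
  obtain ⟨_, ⟨O, hO, rfl⟩, hvO, hOle⟩ :=
    V.left.isBasis_affineOpens.exists_subset_of_mem_open (show v ∈ V.hom ⁻¹ᵁ W from hvW) (V.hom ⁻¹ᵁ W).2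
  exact ⟨W, sub V O, subι V O, hW, hWle, hvW, hO, fun x _ => hOle x.2, ⟨v, hvO⟩, rfl⟩

variable {F : T.Modules} [F.IsQuasicoherent] (I : InjectiveResolution F) {G : EtCoh.Ab T}
  {Re : InjectiveResolution G} (c : Resolution.EI I ⟶ Re.cocomplex)
  (e : G ≅ AffGood.qSh F) (hc : Resolution.aug I e ≫ c.f 0 = Re.ι.f 0) (hG : AffGood.CechAff G)
  [QuasiCompact f] [QuasiSeparated f]

include e hc hG in
theorem qis_top {W : S.Opens} (hW : IsAffineOpen W) (V : S.Etale) [IsAffine V.left]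
    (hV : (⊤ : V.left.Opens) ≤ V.hom ⁻¹ᵁ W) : MV.Qis (Key.β V hV I c) (top f W) :=
  haveI := flat_NB hW V hV
  Key.qis V hV I c hW e hc hG (f ⁻¹ᵁ W) le_rfl (f.isCompact_preimage hW.isCompact)

set_option maxHeartbeats 1000000 in
include e hc hG in
/-- **Local surjectivity.** -/
theorem surj {p i : ℕ} (hp : p = (ComplexShape.up ℕ).prev i) (V : S.Etale)
    (y : ((Resolution.PR f Re).X i).obj (op V)) (hy : ((Resolution.PR f Re).d i (i + 1)).app (op V) y = 0)
    (v : V.left) :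
    ∃ (V' : S.Etale) (g : V' ⟶ V), (∃ v' : V'.left, g.left.base v' = v) ∧
      ∃ (x : ((Resolution.PI I f).X i).obj (op V')) (w : ((Resolution.PR f Re).X p).obj (op V')),
        ((Resolution.PI I f).d i (i + 1)).app (op V') x = 0 ∧
          ((Resolution.α I f c).f i).app (op V') x + ((Resolution.PR f Re).d p i).app (op V') w =
            ((Resolution.PR f Re).X i).map g.op y := by
  obtain ⟨W, V', g, hW, -, -, hA, hV', hv'⟩ := exists_nbhd V v ⊤ trivial
  refine ⟨V', g, hv', ?_⟩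
  haveI := hA
  let j := incl (f := f) (W := W) V'
  haveI : IsIso j := isIso_incl V' hV'
  let y' := ((Resolution.PR f Re).X i).map g.op y
  have hy' : ((Resolution.PR f Re).d i (i + 1)).app (op V') y' = 0 := by
    rw [NatTrans.naturality_apply, hy, map_zero]
  obtain ⟨t, ht, hbd⟩ := (qis_top I c e hc hG hW V' hV' i).1 ((Re.cocomplex.X i).obj.map j.op y') (by
    refine (NatTrans.naturality_apply (Re.cocomplex.d i (i + 1)).hom j.op y').trans ?_
    exact (congrArg _ hy').trans (map_zero _))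
  obtain ⟨w, hw⟩ := exists_of_bd _ Re _ hp hbd
  obtain ⟨w', rfl⟩ := (ConcreteCategory.bijective_of_isIso ((Re.cocomplex.X p).obj.map j.op)).2 w
  refine ⟨⟨ρ V' hV' (I.cocomplex.X i) t⟩, w', ULift.ext _ _ ?_, ?_⟩
  · refine Eq.trans (Eq.symm (ρ_natural V' hV' (I.cocomplex.d i (i + 1)) t)) ?_
    rw [show (mapL (I.cocomplex.d i (i + 1)) (top f W)).lTensor _ t = 0 from ht, map_zero]
    rfl
  · apply (ConcreteCategory.bijective_of_isIso ((Re.cocomplex.X i).obj.map j.op)).1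
    refine (map_add ((Re.cocomplex.X i).obj.map j.op).hom _ _).trans ?_
    show (Re.cocomplex.X i).obj.map j.op (((Resolution.α I f c).f i).app (op V') _) +
      (Re.cocomplex.X i).obj.map j.op ((Re.cocomplex.d p i).hom.app (op ((EtCoh.bc f).obj V')) w') = _
    rw [α_ρ, ← NatTrans.naturality_apply (Re.cocomplex.d p i).hom j.op w']
    exact (congrArg _ hw).trans (add_sub_cancel _ _)

/-- The complex `f_* I`. -/
abbrev K : CochainComplex S.Modules ℕ :=
  ((Coh.push f).mapHomologicalComplex (ComplexShape.up ℕ)).obj I.cocomplex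

variable (p i : ℕ)

/-- Its short complex. -/
abbrev sc : ShortComplex S.Modules := (K (f := f) I).sc' p i (i + 1)

omit [F.IsQuasicoherent] [QuasiCompact f] [QuasiSeparated f] in
theorem exists_lift_homology {W : S.Opens} (s₀ : S) (hs : s₀ ∈ W)
    (s : Finset Γ((sc (f := f) I p i).homology, W)) :
    ∃ (W' : S.Opens) (h : W' ≤ W), s₀ ∈ W' ∧ ∀ a ∈ s, ∃ z : Γ((sc (f := f) I p i).cycles, W'),
      (sc (f := f) I p i).homologyπ.app W' z = (sc (f := f) I p i).homology.presheaf.map (homOfLE h).op a := by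
  classical
  induction s using Finset.induction with
  | empty => exact ⟨W, le_rfl, hs, fun a ha => absurd ha (Finset.notMem_empty a)⟩
  | insert a s _ ih =>
    obtain ⟨W₁, h₁, hs₁, hz⟩ := ih
    let π := (sc (f := f) I p i).homologyπ
    haveI : Epi ((SheafOfModules.toSheaf S.ringCatSheaf).map π) := inferInstance
    obtain ⟨W₂, h₂, z₂, hs₂, hz₂⟩ := CohDelta.Sect.exists_preimage_of_epi
      ((SheafOfModules.toSheaf S.ringCatSheaf).map π) (V := W) a hs
    refine ⟨W₁ ⊓ W₂, inf_le_left.trans h₁, ⟨hs₁, hs₂⟩, fun b hb => ?_⟩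
    have key : ∀ {U : S.Opens} (hU : U ≤ W) (hU' : W₁ ⊓ W₂ ≤ U) (z : Γ((sc (f := f) I p i).cycles, U))
        (a : Γ((sc (f := f) I p i).homology, W)),
        π.app U z = (sc (f := f) I p i).homology.presheaf.map (homOfLE hU).op a →
        π.app (W₁ ⊓ W₂) ((sc (f := f) I p i).cycles.presheaf.map (homOfLE hU').op z) =
          (sc (f := f) I p i).homology.presheaf.map (homOfLE (inf_le_left.trans h₁)).op a := by
      intro U hU hU' z a hz
      refine (ConcreteCategory.congr_hom (π.mapPresheaf.naturality (homOfLE hU').op) z).trans ?_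
      refine (congrArg ((sc (f := f) I p i).homology.presheaf.map (homOfLE hU').op) hz).trans ?_
      exact (ConcreteCategory.congr_hom ((sc (f := f) I p i).homology.presheaf.map_comp (homOfLE hU).op
        (homOfLE hU').op) a).symm
    rcases Finset.mem_insert.1 hb with rfl | hb
    · exact ⟨_, key h₂ inf_le_right z₂ b hz₂⟩
    · obtain ⟨z, hz⟩ := hz b hb
      exact ⟨_, key h₁ inf_le_left z b hz⟩

set_option maxHeartbeats 4000000 in
include e hc hG in
/-- **Local injectivity.** -/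
theorem inj (hp : p = (ComplexShape.up ℕ).prev i) [(sc (f := f) I p i).homology.IsQuasicoherent] (V : S.Etale)
    (x : ((Resolution.PI I f).X i).obj (op V)) (hx : ((Resolution.PI I f).d i (i + 1)).app (op V) x = 0)
    (hw : ∃ w : ((Resolution.PR f Re).X p).obj (op V),
      ((Resolution.PR f Re).d p i).app (op V) w = ((Resolution.α I f c).f i).app (op V) x)
    (v : V.left) :
    ∃ (V' : S.Etale) (g : V' ⟶ V), (∃ v' : V'.left, g.left.base v' = v) ∧
      ∃ w : ((Resolution.PI I f).X p).obj (op V'),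
        ((Resolution.PI I f).d p i).app (op V') w = ((Resolution.PI I f).X i).map g.op x := by
  let C := sc (f := f) I p i
  let preS := EPre.pre S
  have hker : (ShortComplex.mk C.iCycles C.g C.iCycles_g).Exact :=
    ShortComplex.exact_of_f_is_kernel _ C.cyclesIsKernel
  have hcok : (ShortComplex.mk C.toCycles C.homologyπ C.toCycles_comp_homologyπ).Exact :=
    ShortComplex.exact_of_g_is_cokernel _ C.homologyIsCokernel
  obtain ⟨V₁, g₁, ⟨v₁, hv₁⟩, c₁, hc₁⟩ := EPre.pre_locally_exact hker V x hx v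
  obtain ⟨W, V₂, g₂, hW, -, hs₀, hA₂, hV₂, v₂, hv₂⟩ := exists_nbhd V₁ v₁ ⊤ trivial
  let c₂ := (preS.obj C.cycles).map g₂.op c₁
  let h₂ : Γ((Scheme.Modules.pullback V₂.hom).obj C.homology, ⊤) :=
    ((preS.map C.homologyπ).app (op V₂) c₂).down
  haveI := hA₂
  haveI : IsAffine ((𝟭 Scheme.{u}).obj V₂.left) := hA₂
  letI := (V₂.hom.appLE W ⊤ hV₂).hom.toAlgebra
  obtain ⟨t, ht⟩ := (bijective_pbTensor V₂.hom C.homology hW (isAffineOpen_top _) hV₂).2 h₂
  obtain ⟨s, hs⟩ := TensorProduct.exists_finset t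
  classical
  obtain ⟨W', hW'W, hsW', hz⟩ := exists_lift_homology (f := f) I p i (V₁.hom v₁) hs₀ (s.image Prod.snd)
  choose z hz using hz
  obtain ⟨_, ⟨W₃, hW₃, rfl⟩, hvW₃, hW₃le⟩ := S.isBasis_affineOpens.exists_subset_of_mem_open hsW' W'.2
  let V₃ := sub V₂ (V₂.hom ⁻¹ᵁ W₃)
  let g₃ : V₃ ⟶ V₂ := subι V₂ _
  have hV₃ : (⊤ : V₃.left.Opens) ≤ V₃.hom ⁻¹ᵁ W₃ := fun a _ => a.2
  have hv₂W : V₂.hom v₂ ∈ W₃ := by
    have : V₂.hom v₂ = V₁.hom v₁ := by
      rw [← show g₂.left ≫ V₁.hom = V₂.hom from Over.w g₂.hom, ← hv₂]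
      rfl
    rw [this]
    exact hvW₃
  -- the lifted sections
  let zz : s → Γ(C.cycles, W₃) := fun a =>
    C.cycles.presheaf.map (homOfLE hW₃le).op (z a.1.2 (Finset.mem_image_of_mem _ a.2))
  have hzz : ∀ a : s, C.homologyπ.app W₃ (zz a) =
      C.homology.presheaf.map (homOfLE (show W₃ ≤ W from le_trans hW₃le hW'W)).op a.1.2 := fun a => by
    refine (ConcreteCategory.congr_hom (C.homologyπ.mapPresheaf.naturality (homOfLE hW₃le).op) _).trans ?_
    refine (congrArg (C.homology.presheaf.map (homOfLE hW₃le).op) (hz a.1.2 _)).trans ?_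
    exact (ConcreteCategory.congr_hom (C.homology.presheaf.map_comp (homOfLE hW'W).op (homOfLE hW₃le).op) _).symm
  let τ : ∀ (Y : S.Etale) (m : Y ⟶ V₂), (⊤ : Y.left.Opens) ≤ Y.hom ⁻¹ᵁ W₃ →
      (preS.obj C.cycles).obj (op Y) := fun Y m hY =>
    ⟨∑ a : s, m.left.appLE ⊤ ⊤ le_top a.1.1 • pbRes Y.hom C.cycles (V := ⊤) hY (zz a)⟩
  have hτ : ∀ (Y Y' : S.Etale) (m : Y ⟶ V₂) (g : Y' ⟶ Y) (hY : _) (hY' : _),
      (preS.obj C.cycles).map g.op (τ Y m hY) = τ Y' (g ≫ m) hY' := fun Y Y' m g hY hY' => by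
    refine ULift.ext _ _ ((map_sum _ _ _).trans (Finset.sum_congr rfl fun a _ => ?_))
    rw [R_smul, R_pbRes]
    refine congrArg₂ (fun r y => r • y) ?_ rfl
    show (m.left.appLE ⊤ ⊤ le_top ≫ g.left.appLE ⊤ ⊤ le_top) a.1.1 = _
    rw [Scheme.Hom.appLE_comp_appLE]
    rfl
  let c₃ := (preS.obj C.cycles).map g₃.op c₂
  let τ₃ := τ V₃ g₃ hV₃
  have hdiff : (preS.map C.homologyπ).app (op V₃) (c₃ - τ₃) = 0 := by
    rw [map_sub, sub_eq_zero, NatTrans.naturality_apply]
    refine ULift.ext _ _ ?_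
    rw [pre_map_down]
    show R g₃.left (Over.w g₃.hom) C.homology le_top h₂ =
      ((Scheme.Modules.pullback V₃.hom).map C.homologyπ).app ⊤ (τ₃).down
    rw [← ht, hs, map_sum, map_sum]
    refine Eq.trans ?_ (Eq.symm (map_sum _ _ _))
    rw [← Finset.sum_coe_sort]
    refine Finset.sum_congr rfl fun a _ => ?_
    rw [pbTensor_tmul, R_smul, R_pbRes, Scheme.Modules.Hom.app_smul, pbRes_natural, hzz]
    exact congrArg _ (pbRes_map V₃.hom C.homology _ hV₃ _).symm
  obtain ⟨V₄, g₄, ⟨v₄, hv₄⟩, w₄, hw₄⟩ := EPre.pre_locally_exact hcok V₃ (c₃ - τ₃) hdiff ⟨v₂, hv₂W⟩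
  obtain ⟨_, ⟨O, hO, rfl⟩, hvO, -⟩ :=
    V₄.left.isBasis_affineOpens.exists_subset_of_mem_open (show v₄ ∈ (⊤ : V₄.left.Opens) from trivial) isOpen_univ
  let V₅ := sub V₄ O
  let g₅ : V₅ ⟶ V₄ := subι V₄ O
  haveI : IsAffine V₅.left := hO
  let m := g₅ ≫ g₄
  have hV₅ : (⊤ : V₅.left.Opens) ≤ V₅.hom ⁻¹ᵁ W₃ := le_of_hom m hV₃
  let gg : V₅ ⟶ V := ((m ≫ g₃) ≫ g₂) ≫ g₁
  refine ⟨V₅, gg, ⟨⟨v₄, hvO⟩, ?_⟩, ?_⟩
  · show g₁.left (g₂.left (g₃.left (g₄.left v₄))) = v
    rw [hv₄]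
    show g₁.left (g₂.left v₂) = v
    rw [hv₂]
    exact hv₁
  let w₅ := (preS.obj C.X₁).map g₅.op w₄
  -- the tensor
  let t₅ : NB W₃ V₅ hV₅ ⊗[Γ(S, W₃)] Res (I.cocomplex.X i) (top f W₃) :=
    ∑ a : s, toN W₃ V₅ hV₅ ((m ≫ g₃).left.appLE ⊤ ⊤ le_top a.1.1) ⊗ₜ
      toRes (I.cocomplex.X i) (top f W₃) (C.iCycles.app W₃ (zz a))
  have ht₅ : ρ V₅ hV₅ (I.cocomplex.X i) t₅ =
      ((preS.map C.iCycles).app (op V₅) (τ V₅ (m ≫ g₃) hV₅)).down := by
    refine (map_sum _ _ _).trans (Eq.trans ?_ (Eq.symm (map_sum _ _ _)))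
    refine Finset.sum_congr rfl fun a _ => ?_
    refine (ρ_tmul V₅ hV₅ _ _ _).trans (Eq.trans ?_ (Scheme.Modules.Hom.app_smul _ _ _).symm)
    exact congrArg _ (pbRes_natural V₅.hom C.iCycles hV₅ (zz a)).symm
  have ht₅' : (mapL (I.cocomplex.d i (i + 1)) (top f W₃)).lTensor (NB W₃ V₅ hV₅) t₅ = 0 := by
    refine (map_sum _ _ _).trans (Finset.sum_eq_zero fun a _ => ?_)
    rw [LinearMap.lTensor_tmul, mapL_apply,
      show (I.cocomplex.d i (i + 1)).app (f ⁻¹ᵁ W₃) (C.iCycles.app W₃ (zz a)) = 0 from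
        congr($(C.iCycles_g).app W₃ (zz a)), map_zero, TensorProduct.tmul_zero]
  -- `x` on `V₅` is a tensor plus a boundary
  have hx₅ : ((Resolution.PI I f).X i).map gg.op x =
      @HAdd.hAdd (((Resolution.PI I f).X i).obj (op V₅)) (((Resolution.PI I f).X i).obj (op V₅))
        (((Resolution.PI I f).X i).obj (op V₅)) _
        ⟨ρ V₅ hV₅ (I.cocomplex.X i) t₅⟩ (((Resolution.PI I f).d p i).app (op V₅) w₅) := by
    have e1 : (preS.obj C.X₂).map gg.op x =
        (preS.map C.iCycles).app (op V₅) ((preS.obj C.cycles).map m.op c₃) := by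
      rw [NatTrans.naturality_apply, NatTrans.naturality_apply, NatTrans.naturality_apply]
      rw [show (preS.map C.iCycles).app (op V₁) c₁ = (preS.obj C.X₂).map g₁.op x from hc₁]
      rw [map_map, map_map, map_map]
    have e2 : (preS.obj C.cycles).map m.op c₃ = τ V₅ (m ≫ g₃) hV₅ + (preS.map C.toCycles).app (op V₅) w₅ := by
      have h' : (preS.map C.toCycles).app (op V₅) w₅ = (preS.obj C.cycles).map m.op (c₃ - τ₃) :=
        ((NatTrans.naturality_apply (preS.map C.toCycles) g₅.op w₄).trans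
          (congrArg ((preS.obj C.cycles).map g₅.op) hw₄)).trans (map_map g₄ g₅ (c₃ - τ₃))
      rw [h', ← hτ V₃ V₅ g₃ m hV₃ hV₅, ← map_add]
      exact congrArg _ (add_sub_cancel τ₃ c₃).symm
    refine e1.trans ((congrArg _ e2).trans ((map_add _ _ _).trans ?_))
    refine congrArg₂ (fun a b : ((Resolution.PI I f).X i).obj (op V₅) => a + b) (ULift.ext _ _ ht₅.symm) ?_
    exact (ConcreteCategory.congr_hom (congrArg (fun a => a.app (op V₅))
      ((Functor.map_comp preS C.toCycles C.iCycles).symm.trans (congrArg preS.map C.toCycles_i))) w₅)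
  obtain ⟨w, hw⟩ := hw
  let j := incl (f := f) (W := W₃) V₅
  have hbd : (KeyR.cx f W₃ (UU f V₅) Re).Bd i (top f W₃) ((Key.β V₅ hV₅ I c).f i (top f W₃) t₅) := by
    refine bd_of_eq _ Re _ hp (w := (Re.cocomplex.X p).obj.map j.op
      (((Resolution.PR f Re).X p).map gg.op w - ((Resolution.α I f c).f p).app (op V₅) w₅)) ?_
    refine Eq.trans ?_ (α_ρ V₅ hV₅ I c i t₅)
    refine (NatTrans.naturality_apply (Re.cocomplex.d p i).hom j.op _).trans (congrArg _ ?_)
    show ((Resolution.PR f Re).d p i).app (op V₅) _ = _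
    rw [map_sub, NatTrans.naturality_apply, hw, ← NatTrans.naturality_apply, hx₅, map_add,
      show ((Resolution.PR f Re).d p i).app (op V₅) (((Resolution.α I f c).f p).app (op V₅) w₅) =
        ((Resolution.α I f c).f i).app (op V₅) (((Resolution.PI I f).d p i).app (op V₅) w₅) from
          ConcreteCategory.congr_hom (congrArg (fun a => a.app (op V₅)) ((Resolution.α I f c).comm p i)) w₅,
      add_sub_cancel_right]
  obtain ⟨ee, hee⟩ := exists_of_bdA _ I _ hp ((qis_top I c e hc hG hW₃ V₅ hV₅ i).2 t₅ ht₅' hbd)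
  refine ⟨@HAdd.hAdd (((Resolution.PI I f).X p).obj (op V₅)) (((Resolution.PI I f).X p).obj (op V₅))
    (((Resolution.PI I f).X p).obj (op V₅)) _ ⟨ρ V₅ hV₅ (I.cocomplex.X p) ee⟩ w₅, ?_⟩
  rw [map_add, hx₅]
  refine congrArg (fun a : ((Resolution.PI I f).X i).obj (op V₅) => a + _) (ULift.ext _ _ ?_)
  exact (ρ_natural V₅ hV₅ (I.cocomplex.d p i) ee).symm.trans (congrArg _ hee)

end Groth.Agent.Lib.EtQCoh.Main
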