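import Groth.Agent.Lib.EtQCoh.Key

/-!
# Tensors as sections of the pulled back direct image
-/

set_option autoImplicit false
set_option backward.isDefEq.respectTransparency false
set_option backward.isDefEq.respectTransparency.types false
set_option linter.style.haveILetI false

universe u

open CategoryTheory CategoryTheory.Limits AlgebraicGeometry Opposite TopologicalSpace
open Groth.Agent.Lib.EtQCoh.EPre Groth.Agent.Lib.EtQCoh.KeyA Groth.Agent.Lib.EtQCoh.KeyR
open Groth.Agent.Lib.EtQCoh.Key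
open ZarCoh.FlatBC.PullbackSections Groth.Agent.Lib.DescAlg.PbSec
open scoped TensorProduct

noncomputable section

namespace Groth.Agent.Lib.EtQCoh.Rho

variable {T S : Scheme.{u}} {f : T ⟶ S} {W : S.Opens} (V : S.Etale)
  (hV : (⊤ : V.left.Opens) ≤ V.hom ⁻¹ᵁ W)

variable (f W) in
/-- The preimage of `W`. -/
abbrev top : Idx f W := ⟨f ⁻¹ᵁ W, le_rfl⟩

/-- Pullback of sections of the direct image. -/
def pbW (M : T.Modules) :
    Res M (top f W) →+ Γ((Scheme.Modules.pullback V.hom).obj ((Coh.push f).obj M), ⊤) :=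
  (pbRes V.hom ((Coh.push f).obj M) (U := W) hV).comp (toRes M (top f W)).symm.toAddMonoidHom

/-- The scalar action. -/
def ρ0 (M : T.Modules) :
    NB W V hV →+ Res M (top f W) →+ Γ((Scheme.Modules.pullback V.hom).obj ((Coh.push f).obj M), ⊤) :=
  ((smulAddHom Γ((𝟭 Scheme.{u}).obj V.left, ⊤) Γ((Scheme.Modules.pullback V.hom).obj ((Coh.push f).obj M), ⊤)).compl₂
    (pbW V hV M)).comp (toN W V hV).symm.toAddMonoidHom

set_option maxHeartbeats 1000000 in
theorem ρ0_balanced (M : T.Modules) (a : Γ(S, W)) (b : NB W V hV) (z : Res M (top f W)) :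
    ρ0 V hV M (a • b) z = ρ0 V hV M b (a • z) := by
  obtain ⟨b, rfl⟩ := (toN W V hV).surjective b
  obtain ⟨z, rfl⟩ := (toRes M (top f W)).surjective z
  let Q := (Scheme.Modules.pullback V.hom).obj ((Coh.push f).obj M)
  let y : Γ(Q, ⊤) := pbRes V.hom ((Coh.push f).obj M) (U := W) hV z
  have h : pbRes V.hom ((Coh.push f).obj M) (U := W) hV (a • (show Γ((Coh.push f).obj M, W) from z)) =
      φV W V hV a • y := pbRes_smul V.hom ((Coh.push f).obj M) hV a z
  show (φV W V hV a * b) • y = b • pbRes V.hom ((Coh.push f).obj M) (U := W) hV (f.appLE W (f ⁻¹ᵁ W) le_rfl a • z)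
  rw [mul_comm, mul_smul, ← h]
  congr 2
  rw [Scheme.Hom.appLE_eq_app]
  rfl

/-- `b ⊗ z ↦ b • (pullback of z)`. -/
def ρ (M : T.Modules) :
    (NB W V hV ⊗[Γ(S, W)] Res M (top f W)) →+
      Γ((Scheme.Modules.pullback V.hom).obj ((Coh.push f).obj M), ⊤) :=
  TensorProduct.liftAddHom (ρ0 V hV M) (ρ0_balanced V hV M)

theorem ρ_tmul (M : T.Modules) (b : Γ((𝟭 Scheme.{u}).obj V.left, ⊤)) (z : Γ(M, f ⁻¹ᵁ W)) :
    ρ V hV M (toN W V hV b ⊗ₜ toRes M (top f W) z) =
      b • pbRes V.hom ((Coh.push f).obj M) (U := W) hV z := rfl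

theorem ρ_natural {M M' : T.Modules} (φ : M ⟶ M') (x : NB W V hV ⊗[Γ(S, W)] Res M (top f W)) :
    ρ V hV M' ((mapL φ (top f W)).lTensor _ x) =
      ((Scheme.Modules.pullback V.hom).map ((Coh.push f).map φ)).app ⊤ (ρ V hV M x) := by
  induction x using TensorProduct.induction_on with
  | zero => simp only [map_zero]
  | tmul b z =>
    obtain ⟨b, rfl⟩ := (toN W V hV).surjective b
    obtain ⟨z, rfl⟩ := (toRes M (top f W)).surjective z
    rw [LinearMap.lTensor_tmul, mapL_apply, ρ_tmul, ρ_tmul, Scheme.Modules.Hom.app_smul]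
    exact congrArg (fun y => b • y) (pbRes_natural V.hom ((Coh.push f).map φ) hV z).symm
  | add x y hx hy => simp only [map_add, hx, hy]

/-- The inclusion of the preimage of `W` (which is everything). -/
abbrev incl : subO (UU f V) (top f W) ⟶ UU f V := subι (UU f V) ((UU f V).hom ⁻¹ᵁ (f ⁻¹ᵁ W))

include hV in
theorem preimage_eq : (UU f V).hom ⁻¹ᵁ (f ⁻¹ᵁ W) = ⊤ := by
  refine eq_top_iff.2 ?_
  rw [← Scheme.Hom.comp_preimage, show (UU f V).hom ≫ f = pullback.fst V.hom f ≫ V.hom from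
    (BaseChange.bc_w f V).symm, Scheme.Hom.comp_preimage]
  exact fun x _ => hV trivial

include hV in
theorem isIso_incl : IsIso (incl (f := f) (W := W) V) := by
  haveI : IsIso (incl (f := f) (W := W) V).left := by
    let j : (((UU f V).hom ⁻¹ᵁ (f ⁻¹ᵁ W) : (UU f V).left.Opens) : Scheme.{u}) ⟶ (UU f V).left :=
      ((UU f V).hom ⁻¹ᵁ (f ⁻¹ᵁ W)).ι
    haveI : Epi j.base := (TopCat.epi_iff_surjective _).2 fun x => ⟨⟨x, by
      rw [preimage_eq V hV]
      trivial⟩, rfl⟩
    exact IsOpenImmersion.isIso j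
  refine ⟨MorphismProperty.Over.homMk (inv (incl (f := f) (W := W) V).left) ?_, ?_, ?_⟩
  · rw [IsIso.inv_comp_eq]
    exact (Over.w (incl (f := f) (W := W) V).hom).symm
  · exact MorphismProperty.Over.Hom.ext (IsIso.hom_inv_id _)
  · exact MorphismProperty.Over.Hom.ext (IsIso.inv_hom_id _)

variable {F : T.Modules} (I : InjectiveResolution F) {G : EtCoh.Ab T} {Re : InjectiveResolution G}
  (c : Resolution.EI I ⟶ Re.cocomplex)

set_option maxHeartbeats 1000000 in
/-- `ρ` followed by the comparison map is `β`. -/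
theorem α_ρ (n : ℕ) (x : (KeyA.cx f (NB W V hV) I).sec n (top f W)) :
    (Re.cocomplex.X n).obj.map (incl (f := f) (W := W) V).op
        (((Resolution.α I f c).f n).app (op V) ⟨ρ V hV (I.cocomplex.X n) x⟩) =
      (Key.β V hV I c).f n (top f W) x := by
  have hn := NatTrans.naturality_apply (Resolution.psh I c n) (incl (f := f) (W := W) V).op
    ⟨BaseChange.γapp f (I.cocomplex.X n) V (ρ V hV (I.cocomplex.X n) x)⟩
  refine hn.symm.trans ?_
  refine congrArg (fun y => (Resolution.psh I c n).app (op (subO (UU f V) (top f W))) ⟨y⟩) ?_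
  show R (incl (f := f) (W := W) V).left (Over.w (incl (f := f) (W := W) V).hom) (I.cocomplex.X n)
      (W := ⊤) (W' := ⊤) le_top (BaseChange.γapp f (I.cocomplex.X n) V (ρ V hV (I.cocomplex.X n) x)) =
    β0 V hV (I.cocomplex.X n) (top f W) x
  clear hn
  induction x using TensorProduct.induction_on with
  | zero => simp only [map_zero]
  | tmul b z =>
    obtain ⟨b, rfl⟩ := (toN W V hV).surjective b
    obtain ⟨z, rfl⟩ := (toRes (I.cocomplex.X n) (top f W)).surjective z
    rw [ρ_tmul, β0_tmul]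
    have h1 : BaseChange.γapp f (I.cocomplex.X n) V
        (b • pbRes V.hom ((Coh.push f).obj (I.cocomplex.X n)) (U := W) hV z) =
      (pullback.fst V.hom f : (UU f V).left ⟶ V.left).appLE ⊤ ⊤ le_top b •
        pbRes (UU f V).hom (I.cocomplex.X n) (U := f ⁻¹ᵁ W) (V := (⊤ : (UU f V).left.Opens))
          (preimage_eq V hV).ge z := by
      refine (Scheme.Modules.Hom.app_smul (BaseChange.b (BaseChange.bc_w f V) (I.cocomplex.X n)) b _).trans ?_
      rw [BaseChange.b_pbRes]
      have hp : ∀ (g : (UU f V).left ⟶ V.left) (e : (⊤ : (UU f V).left.Opens) ≤ g ⁻¹ᵁ ⊤),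
          g.app ⊤ b = g.appLE ⊤ ⊤ e b := fun g e => ConcreteCategory.congr_hom g.appLE_eq_app.symm b
      exact congrArg (fun r : Γ((UU f V).left, ⊤) => r •
        pbRes (UU f V).hom (I.cocomplex.X n) (U := f ⁻¹ᵁ W) (V := (⊤ : (UU f V).left.Opens))
          (preimage_eq V hV).ge z) (hp (pullback.fst V.hom f) le_top)
    refine (congrArg _ h1).trans ?_
    rw [R_smul, R_pbRes]
    refine congrArg₂ (fun r y => r • y) ?_ rfl
    show ((pullback.fst V.hom f : (UU f V).left ⟶ V.left).appLE ⊤ ⊤ le_top ≫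
        (incl (f := f) (W := W) V).left.appLE ⊤ ⊤ le_top) b = _
    rw [Scheme.Hom.appLE_comp_appLE]
    rfl
  | add x y hx hy => simp only [map_add, hx, hy]

end Groth.Agent.Lib.EtQCoh.Rho
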