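import Groth.Prelude.Def_EtZar
import Groth.Agent.Lib.ZarCoh.Basic
import Groth.Agent.Lib.EtQCoh.ZarSite
import Mathlib.Algebra.Category.Grp.Ulift

/-!
# Zariski cohomology does not depend on the universe of the values
-/

set_option autoImplicit false
set_option backward.isDefEq.respectTransparency false
set_option backward.isDefEq.respectTransparency.types false
set_option linter.style.haveILetI false

universe u

open CategoryTheory CategoryTheory.Limits AlgebraicGeometry Opposite TopologicalSpace CategoryTheory.Abelian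
open Groth.Agent.Lib.ZarCoh.Basic (injSES injSES_shortExact isFlasque_of_injective flasque_surjective constEquiv constEquiv_comp H_flasque)

noncomputable section

namespace Groth.Agent.Lib.EtQCoh.ULift

variable {X : Scheme.{u}}

/-- Lifting the universe of an abelian sheaf. -/
abbrev U (X : Scheme.{u}) : CohTop.Ab X.toTopCat ⥤ EtZar.Ab X :=
  sheafCompose (Opens.grothendieckTopology X) AddCommGrpCat.uliftFunctor.{u + 1, u}

section Flasque

/-- Restriction of sections. -/
abbrev res (F : EtZar.Ab X) {V W : X.Opens} (h : V ≤ W) (s : F.obj.obj (op W)) : F.obj.obj (op V) :=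
  F.obj.map (homOfLE h).op s

theorem res_res (F : EtZar.Ab X) {V W Z : X.Opens} (h : V ≤ W) (h' : W ≤ Z) (s : F.obj.obj (op Z)) :
    res F h (res F h' s) = res F (h.trans h') s := by
  simp only [res, ← ConcreteCategory.comp_apply, ← F.obj.map_comp]
  rfl

theorem res_self (F : EtZar.Ab X) {W : X.Opens} (h : W ≤ W) (s : F.obj.obj (op W)) : res F h s = s := by
  show F.obj.map (homOfLE h).op s = s
  rw [show (homOfLE h).op = 𝟙 (op W) from rfl, CategoryTheory.Functor.map_id]
  rfl

theorem app_res {F G : EtZar.Ab X} (φ : F ⟶ G) {V W : X.Opens} (h : V ≤ W) (s : F.obj.obj (op W)) :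
    φ.hom.app (op V) (res F h s) = res G h (φ.hom.app (op W) s) :=
  NatTrans.naturality_apply φ.hom _ s

theorem exists_section {S : ShortComplex (EtZar.Ab X)} (hS : S.ShortExact) (W : X.Opens)
    (x : S.X₂.obj.obj (op W)) (hx : S.g.hom.app (op W) x = 0) :
    ∃ y : S.X₁.obj.obj (op W), S.f.hom.app (op W) y = x := by
  have := hS.mono_f
  let E := sheafToPresheaf (Opens.grothendieckTopology X) AddCommGrpCat.{u + 1} ⋙ (evaluation _ _).obj (op W)
  have : PreservesFiniteLimits ((evaluation (Opens X)ᵒᵖ AddCommGrpCat.{u + 1}).obj (op W)) :=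
    ⟨fun _ _ _ => inferInstance⟩
  have : PreservesFiniteLimits E := comp_preservesFiniteLimits _ _
  exact (ShortComplex.ab_exact_iff _).1 (hS.exact.map_of_mono_of_preservesKernel E hS.mono_f inferInstance) x hx

variable {S : ShortComplex (EtZar.Ab X)} (W : X.Opens) (s : S.X₃.obj.obj (op W))

/-- A partial lift. -/
structure PartialLift where
  /-- the open -/
  V : X.Opens
  le : V ≤ W
  /-- the lift -/
  t : S.X₂.obj.obj (op V)
  map_t : S.g.hom.app (op V) t = res S.X₃ le s

/-- Extension of partial lifts. -/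
def Ext' (p q : PartialLift W s) : Prop := ∃ h : p.V ≤ q.V, res S.X₂ h q.t = p.t

variable {W s}

theorem ext'_trans {p q r : PartialLift W s} (h : Ext' W s p q) (h' : Ext' W s q r) : Ext' W s p r := by
  obtain ⟨h, e⟩ := h
  obtain ⟨h', e'⟩ := h'
  exact ⟨h.trans h', by rw [← res_res _ h h', e', e]⟩

theorem exists_bound (c : Set (PartialLift W s)) (hc : IsChain (Ext' W s) c) :
    ∃ ub, ∀ a ∈ c, Ext' W s a ub := by
  let ι := {V : X.Opens // ∃ p ∈ c, p.V = V}
  choose p hp hpV using fun i : ι => i.2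
  let sf : ∀ i : ι, S.X₂.obj.obj (op i.1) := fun i => res S.X₂ (hpV i).ge (p i).t
  have key : ∀ (i j : ι) (V : X.Opens) (hi : V ≤ i.1) (hj : V ≤ j.1),
      res S.X₂ hi (sf i) = res S.X₂ hj (sf j) := fun i j V hi hj => by
    simp only [sf, res_res]
    by_cases hij : p i = p j
    · congr! 1 <;> first | exact congrArg PartialLift.V hij | (rw [hij])
    rcases hc (hp i) (hp j) hij with ⟨h, e⟩ | ⟨h, e⟩
    · rw [← e, res_res]
    · rw [← e, res_res]
  obtain ⟨t, ht, -⟩ := TopCat.Sheaf.existsUnique_gluing S.X₂ (fun i : ι => i.1) sf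
    fun i j => key i j _ inf_le_left inf_le_right
  have hle : (⨆ i : ι, i.1) ≤ W := iSup_le fun i => (hpV i) ▸ (p i).le
  refine ⟨⟨_, hle, t, TopCat.Sheaf.eq_of_locally_eq S.X₃ (fun i : ι => i.1) _ _ fun i => ?_⟩, fun a ha => ?_⟩
  · show res S.X₃ (le_iSup (fun i : ι => i.1) i) _ = res S.X₃ (le_iSup (fun i : ι => i.1) i) (res S.X₃ hle s)
    rw [← app_res, show res S.X₂ (le_iSup (fun i : ι => i.1) i) t = sf i from ht i, app_res, (p i).map_t,
      res_res, res_res]
  · let i : ι := ⟨a.V, a, ha, rfl⟩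
    refine ⟨le_iSup (fun i : ι => i.1) i, (ht i).trans ?_⟩
    by_cases hia : p i = a
    · simp only [sf]
      generalize hpV i = e
      revert e
      rw [hia]
      intro e
      exact res_self _ _ _
    rcases hc (hp i) ha hia with ⟨h, e⟩ | ⟨h, e⟩
    · show res S.X₂ (hpV i).ge (p i).t = a.t
      rw [← e, res_res]
      exact res_self _ _ _
    · exact e

/-- **Sections lift along epimorphisms with flasque kernel.** -/
theorem surjective_of_flasque (hS : S.ShortExact)
    (hF : ∀ {V W : X.Opens} (h : V ≤ W), Function.Surjective (res S.X₁ h)) (W : X.Opens) :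
    Function.Surjective (S.g.hom.app (op W)) := by
  intro s
  obtain ⟨m, hm⟩ := exists_maximal_of_chains_bounded (exists_bound (W := W) (s := s))
    (fun h h' => ext'_trans h h')
  suffices hW : W ≤ m.V by
    refine ⟨res S.X₂ hW m.t, ?_⟩
    rw [app_res, m.map_t, res_res]
    simp [res]
  intro x hx
  have := hS.epi_g
  have : Sheaf.IsLocallySurjective S.g := (Sheaf.isLocallySurjective_iff_epi' _ S.g).2 inferInstance
  obtain ⟨V, hVW, ⟨t₁, ht₁⟩, hxV⟩ := Presheaf.imageSieve_mem (Opens.grothendieckTopology X) S.g.hom s x hx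
  have hd : S.g.hom.app (op (m.V ⊓ V)) (res S.X₂ inf_le_left m.t - res S.X₂ inf_le_right t₁) = 0 := by
    rw [map_sub, app_res, app_res, m.map_t, show S.g.hom.app (op V) t₁ = res S.X₃ hVW.le s from ht₁,
      res_res, res_res, sub_self]
  obtain ⟨t₃, ht₃⟩ := exists_section hS _ _ hd
  obtain ⟨t₄, ht₄⟩ := hF (inf_le_right : m.V ⊓ V ≤ V) t₃
  let f : ULift.{u} Bool → X.Opens := fun b => if b.down then m.V else V
  let sf : ∀ b, S.X₂.obj.obj (op (f b)) := fun b => match b with
    | ⟨true⟩ => m.t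
    | ⟨false⟩ => t₁ + S.f.hom.app (op V) t₄
  have key : res S.X₂ (inf_le_left : m.V ⊓ V ≤ m.V) (sf ⟨true⟩) =
      res S.X₂ (inf_le_right : m.V ⊓ V ≤ V) (sf ⟨false⟩) := by
    show res S.X₂ inf_le_left m.t = res S.X₂ inf_le_right (t₁ + S.f.hom.app (op V) t₄)
    rw [show ∀ a b, res S.X₂ (inf_le_right : m.V ⊓ V ≤ V) (a + b) =
      res S.X₂ inf_le_right a + res S.X₂ inf_le_right b from fun a b => map_add _ a b, ← app_res, ht₄, ht₃]
    abel
  obtain ⟨t₅, ht₅, -⟩ := TopCat.Sheaf.existsUnique_gluing S.X₂ f sf (by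
    rintro ⟨_ | _⟩ ⟨_ | _⟩
    · rfl
    · have h2 := congrArg (res S.X₂ (le_of_eq (inf_comm V m.V))) key
      rw [res_res, res_res] at h2
      exact h2.symm
    · exact key
    · rfl)
  have hle : iSup f ≤ W := iSup_le fun b => by rcases b with ⟨_ | _⟩; exacts [hVW.le, m.le]
  let n : PartialLift W s := ⟨iSup f, hle, t₅, TopCat.Sheaf.eq_of_locally_eq S.X₃ f _ _ fun b => by
    show res S.X₃ (le_iSup f b) _ = res S.X₃ (le_iSup f b) (res S.X₃ hle s)
    rw [← app_res, show res S.X₂ (le_iSup f b) t₅ = sf b from ht₅ b, res_res]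
    rcases b with ⟨_ | _⟩
    · show S.g.hom.app (op V) (t₁ + S.f.hom.app (op V) t₄) = _
      rw [map_add, show S.g.hom.app (op V) (S.f.hom.app (op V) t₄) = 0 from
        ConcreteCategory.congr_hom (congrArg (fun a => a.hom.app (op V)) S.zero) t₄, add_zero]
      exact ht₁
    · exact m.map_t⟩
  obtain ⟨h, -⟩ := hm n ⟨le_iSup f ⟨true⟩, ht₅ ⟨true⟩⟩
  exact h (le_iSup f ⟨false⟩ hxV)

end Flasque

section Exact

theorem shortExact_map (T : ShortComplex (CohTop.Ab X.toTopCat)) (hT : T.ShortExact)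
    [(U X).PreservesZeroMorphisms] : (T.map (U X)).ShortExact := by
  have := hT.mono_f
  have := hT.epi_g
  have : Epi (T.map (U X)).g := by
    refine (Sheaf.isLocallySurjective_iff_epi' _ (T.map (U X)).g).1 ⟨fun {W} y x hx => ?_⟩
    have : Presheaf.IsLocallySurjective (Opens.grothendieckTopology X) T.g.hom :=
      (Sheaf.isLocallySurjective_iff_epi' _ T.g).2 inferInstance
    obtain ⟨V, g, ⟨a, ha⟩, hxV⟩ := Presheaf.imageSieve_mem (Opens.grothendieckTopology X) T.g.hom
      (U := op W) y.down x hx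
    exact ⟨V, g, ⟨⟨a⟩, congrArg ULift.up ha⟩, hxV⟩
  have : PreservesFiniteLimits (U X) := by
    have : PreservesLimitsOfSize.{0, 0} (U X ⋙ sheafToPresheaf _ AddCommGrpCat.{u + 1}) :=
      inferInstanceAs (PreservesLimitsOfSize.{0, 0} (sheafToPresheaf (Opens.grothendieckTopology X) AddCommGrpCat.{u} ⋙
        (Functor.whiskeringRight _ _ _).obj AddCommGrpCat.uliftFunctor.{u + 1, u}))
    have : PreservesLimitsOfSize.{0, 0} (U X) :=
      preservesLimits_of_reflects_of_preserves (U X) (sheafToPresheaf _ AddCommGrpCat.{u + 1})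
    exact PreservesLimitsOfSize.preservesFiniteLimits _
  exact { exact := hT.exact.map_of_mono_of_preservesKernel (U X) hT.mono_f inferInstance
          mono_f := (U X).map_mono T.f
          epi_g := ‹_› }

end Exact

instance U_additive : (U X).Additive where

theorem U_flasque (A : CohTop.Ab X.toTopCat) [TopCat.Sheaf.IsFlasque A] {V W : X.Opens} (h : V ≤ W) :
    Function.Surjective (res ((U X).obj A) h) := fun y => by
  obtain ⟨z, hz⟩ := flasque_surjective A h y.down
  exact ⟨⟨z⟩, congrArg ULift.up hz⟩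

/-- The constant sheaf `ℤ`, one universe up. -/
abbrev ZU (X : Scheme.{u}) : EtZar.Ab X :=
  (constantSheaf (Opens.grothendieckTopology X) AddCommGrpCat.{u + 1}).obj (AddCommGrpCat.of (ULift.{u + 1} ℤ))

/-- Morphisms out of `ℤ` are global sections. -/
def secEquiv (F : EtZar.Ab X) : (ZU X ⟶ F) ≃+ F.obj.obj (op ⊤) :=
  ((constantSheafAdj (Opens.grothendieckTopology X) AddCommGrpCat.{u + 1}
    (IsTerminal.ofUniqueHom (fun V : X.Opens => homOfLE le_top) fun _ _ => Subsingleton.elim _ _)).homAddEquiv _ F).trans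
    (AddCommGrpCat.uliftZMultiplesAddEquiv _)

theorem secEquiv_comp {F G : EtZar.Ab X} (g : ZU X ⟶ F) (φ : F ⟶ G) :
    secEquiv G (g ≫ φ) = φ.hom.app (op ⊤) (secEquiv F g) := by
  simp only [secEquiv, AddEquiv.trans_apply, Adjunction.homAddEquiv_apply,
    Adjunction.homEquiv_naturality_right]
  rfl

/-- A flasque sheaf, one universe up. -/
def Fl (F : EtZar.Ab X) : Prop := ∀ {V W : X.Opens} (h : V ≤ W), Function.Surjective (res F h)

theorem fl_quot {S : ShortComplex (EtZar.Ab X)} (hS : S.ShortExact) (h₁ : Fl S.X₁) (h₂ : Fl S.X₂) :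
    Fl S.X₃ := fun {V W} h y => by
  obtain ⟨x, rfl⟩ := surjective_of_flasque hS h₁ V y
  obtain ⟨z, rfl⟩ := h₂ h x
  exact ⟨S.g.hom.app (op W) z, (app_res S.g h z).symm⟩

theorem fl_injective (I : EtZar.Ab X) [Injective I] : Fl I := by
  intro V W h
  let P := fun Z : X.Opens => (presheafToSheaf (Opens.grothendieckTopology X) AddCommGrpCat.{u + 1}).obj
    (yoneda.obj Z ⋙ uliftFunctor.{u + 1, u} ⋙ AddCommGrpCat.free.{u + 1})
  have hm : Mono (yoneda.map (homOfLE h)) := by
    haveI : Mono (homOfLE h) := ⟨fun _ _ _ => Subsingleton.elim _ _⟩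
    infer_instance
  let ι : P V ⟶ P W := (presheafToSheaf (Opens.grothendieckTopology X) AddCommGrpCat.{u + 1}).map
    (Functor.whiskerRight (yoneda.map (homOfLE h)) (uliftFunctor.{u + 1, u} ⋙ AddCommGrpCat.free.{u + 1}))
  have : Mono ι := by
    have : Mono (Functor.whiskerRight (yoneda.map (homOfLE h)) (uliftFunctor.{u + 1, u} ⋙ AddCommGrpCat.free.{u + 1})) := by
      have : ∀ Z, Mono ((Functor.whiskerRight (yoneda.map (homOfLE h)) (uliftFunctor.{u + 1, u} ⋙ AddCommGrpCat.free.{u + 1})).app Z) := fun Z => by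
        have : Mono ((yoneda.map (homOfLE h)).app Z) := inferInstance
        exact inferInstanceAs (Mono ((uliftFunctor.{u + 1, u} ⋙ AddCommGrpCat.free.{u + 1}).map _))
      exact NatTrans.mono_of_mono_app _
    infer_instance
  let e : ∀ Z, (P Z ⟶ I) ≃ I.obj.obj (op Z) := fun Z =>
    (((sheafificationAdjunction (Opens.grothendieckTopology X) AddCommGrpCat.{u + 1}).homEquiv _ I).trans
      ((AddCommGrpCat.adj.{u + 1}.whiskerRight _).homEquiv _ _)).trans uliftYonedaEquiv
  intro y
  refine ⟨e W (Injective.factorThru ((e V).symm y) ι), ?_⟩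
  have key : ∀ k : P W ⟶ I, e V (ι ≫ k) = res I h (e W k) := fun k =>
    (congrArg (fun t => uliftYonedaEquiv ((AddCommGrpCat.adj.{u + 1}.whiskerRight _).homEquiv _ _ t))
      ((sheafificationAdjunction (Opens.grothendieckTopology X) AddCommGrpCat.{u + 1}).homEquiv_naturality_left
        (Functor.whiskerRight (yoneda.map (homOfLE h)) (uliftFunctor.{u + 1, u} ⋙ AddCommGrpCat.free.{u + 1})) k)).trans
      ((congrArg uliftYonedaEquiv ((AddCommGrpCat.adj.{u + 1}.whiskerRight _).homEquiv_naturality_left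
        (uliftYoneda.{u + 1}.map (homOfLE h))
        ((sheafificationAdjunction (Opens.grothendieckTopology X) AddCommGrpCat.{u + 1}).homEquiv _ I k))).trans
        (uliftYonedaEquiv_naturality _ (homOfLE h).op).symm)
  rw [← key, Injective.comp_factorThru, Equiv.apply_symm_apply]

/-- A flasque sheaf has no higher cohomology. -/
theorem subsingleton_of_fl (n : ℕ) : ∀ (F : EtZar.Ab X), Fl F → Subsingleton (Ext.{u + 1} (ZU X) F (n + 1)) := by
  induction n with
  | zero =>
    intro F hF
    let S := ShortComplex.mk (Injective.ι F) (cokernel.π _) (cokernel.condition _)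
    have hS : S.ShortExact := { exact := ShortComplex.exact_cokernel (Injective.ι F) }
    have : Injective S.X₂ := inferInstanceAs (Injective (Injective.under F))
    refine subsingleton_of_forall_eq 0 fun ξ => ?_
    obtain ⟨y, rfl⟩ := Ext.covariant_sequence_exact₁ _ hS ξ (Ext.eq_zero_of_injective _) (zero_add 1)
    obtain ⟨y, rfl⟩ := (Ext.mk₀_bijective _ _).2 y
    obtain ⟨x, hx⟩ := surjective_of_flasque hS hF ⊤ (secEquiv _ y)
    obtain ⟨x, rfl⟩ := (secEquiv S.X₂).surjective x
    rw [← secEquiv_comp] at hx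
    rw [← (secEquiv _).injective hx, ← Ext.mk₀_comp_mk₀, Ext.comp_assoc_of_second_deg_zero,
      hS.comp_extClass, Ext.comp_zero]
  | succ n ih =>
    intro F hF
    let S := ShortComplex.mk (Injective.ι F) (cokernel.π _) (cokernel.condition _)
    have hS : S.ShortExact := { exact := ShortComplex.exact_cokernel (Injective.ι F) }
    have : Injective S.X₂ := inferInstanceAs (Injective (Injective.under F))
    haveI := ih S.X₃ (fl_quot hS hF (fl_injective _))
    refine subsingleton_of_forall_eq 0 fun ξ => ?_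
    obtain ⟨y, rfl⟩ := Ext.covariant_sequence_exact₁ _ hS ξ (Ext.eq_zero_of_injective _) rfl
    rw [Subsingleton.elim y 0, Ext.zero_comp]

section Compare

/-- The connecting map. -/
def conn {B : Type*} [Category B] [Abelian B] [HasExt.{u + 1} B] {S : ShortComplex B} (hS : S.ShortExact) (Z : B)
    (n : ℕ) : Ext.{u + 1} Z S.X₃ n →+ Ext.{u + 1} Z S.X₁ (n + 1) :=
  hS.extClass.postcomp Z rfl

/-- The connecting map, in the small universe. -/
def conn₀ {S : ShortComplex (CohTop.Ab X.toTopCat)} (hS : S.ShortExact)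
    (n : ℕ) : CohTop.H S.X₃ n →+ CohTop.H S.X₁ (n + 1) :=
  hS.extClass.postcomp _ rfl

/-- Two surjections with the same kernel have isomorphic targets. -/
def equivOfSameKer {A₀ B₀ B₁ : Type*} [AddCommGroup A₀] [AddCommGroup B₀] [AddCommGroup B₁] (f : A₀ →+ B₀)
    (g : A₀ →+ B₁) (hf : Function.Surjective f) (hg : Function.Surjective g)
    (h : ∀ a, f a = 0 ↔ g a = 0) : B₀ ≃+ B₁ :=
  (QuotientAddGroup.quotientKerEquivOfSurjective f hf).symm.trans
    ((QuotientAddGroup.quotientAddEquivOfEq (by ext a; exact h a)).trans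
      (QuotientAddGroup.quotientKerEquivOfSurjective g hg))

theorem constEquiv_add (B : CohTop.Ab X.toTopCat) (a b) :
    constEquiv B (a + b) = constEquiv B a + constEquiv B b :=
  AddEquiv.map_add (((constantSheafAdj (Opens.grothendieckTopology X) AddCommGrpCat.{u}
    (isTerminalTop (α := Opens X))).homAddEquiv _ B).trans (AddCommGrpCat.uliftZMultiplesAddEquiv _)) a b

/-- Global sections as degree zero cohomology. -/
def h0 (B : CohTop.Ab X.toTopCat) : CohTop.H B 0 ≃+ B.obj.obj (op ⊤) :=
  Ext.addEquiv₀.trans (AddEquiv.mk' (constEquiv B) (constEquiv_add B))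

/-- **Cohomology is independent of the universe.** -/
theorem nonempty_equiv (n : ℕ) : ∀ A : CohTop.Ab X.toTopCat,
    Nonempty (EtZar.H ((U X).obj A) n ≃+ ULift.{u + 1} (CohTop.H A n)) := by
  induction n with
  | zero =>
    intro A
    exact ⟨(Ext.addEquiv₀.trans (secEquiv ((U X).obj A))).trans
      (AddEquiv.ulift.trans ((h0 A).symm.trans AddEquiv.ulift.symm))⟩
  | succ n ih =>
    intro A
    let T := injSES A
    have hT : T.ShortExact := injSES_shortExact A
    have hU := shortExact_map T hT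
    have hI : Fl ((U X).obj T.X₂) := fun h => U_flasque T.X₂ h
    have hbig : ∀ m, ∀ z : Ext.{u + 1} (ZU X) ((U X).obj T.X₂) (m + 1), z = 0 := fun m z =>
      @Subsingleton.elim _ (subsingleton_of_fl m _ hI) _ _
    let χ : EtZar.H ((U X).obj T.X₃) n →+ EtZar.H ((U X).obj A) (n + 1) := conn hU (ZU X) n
    let ψ : CohTop.H T.X₃ n →+ CohTop.H A (n + 1) := conn₀ hT n
    have hχ : Function.Surjective χ := fun x => by
      obtain ⟨y, hy⟩ := Ext.covariant_sequence_exact₁ _ hU x (hbig n _) rfl
      exact ⟨y, hy⟩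
    have hψ : Function.Surjective ψ := fun x => by
      obtain ⟨y, hy⟩ := Ext.covariant_sequence_exact₁ _ hT x (Ext.eq_zero_of_injective _) rfl
      exact ⟨y, hy⟩
    have hχ0 : ∀ y, χ y = 0 ↔ ∃ t, Ext.comp t (Ext.mk₀ (T.map (U X)).g) (add_zero n) = y := fun y => by
      refine ⟨fun h => Ext.covariant_sequence_exact₃ _ hU y rfl h, ?_⟩
      rintro ⟨t, rfl⟩
      show (t.comp (Ext.mk₀ (T.map (U X)).g) (add_zero n)).comp hU.extClass rfl = 0
      rw [Ext.comp_assoc (a₁₂ := n) (a₂₃ := 1) t _ _ (add_zero n) (zero_add 1) (by omega),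
        ShortComplex.ShortExact.comp_extClass, Ext.comp_zero]
    have hψ0 : ∀ y, ψ y = 0 ↔ ∃ t, Ext.comp t (Ext.mk₀ T.g) (add_zero n) = y := fun y => by
      refine ⟨fun h => Ext.covariant_sequence_exact₃ _ hT y rfl h, ?_⟩
      rintro ⟨t, rfl⟩
      show (t.comp (Ext.mk₀ T.g) (add_zero n)).comp hT.extClass rfl = 0
      rw [Ext.comp_assoc (a₁₂ := n) (a₂₃ := 1) t _ _ (add_zero n) (zero_add 1) (by omega),
        ShortComplex.ShortExact.comp_extClass, Ext.comp_zero]
    cases n with
    | zero =>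
      let a : ((U X).obj T.X₃).obj.obj (op ⊤) ≃+ EtZar.H ((U X).obj T.X₃) 0 :=
        (Ext.addEquiv₀.trans (secEquiv _)).symm
      let b : ((U X).obj T.X₃).obj.obj (op ⊤) ≃+ CohTop.H T.X₃ 0 :=
        AddEquiv.ulift.trans (h0 T.X₃).symm
      refine ⟨(equivOfSameKer (χ.comp a.toAddMonoidHom) (ψ.comp b.toAddMonoidHom)
        (hχ.comp a.surjective) (hψ.comp b.surjective) fun s => ?_).trans AddEquiv.ulift.symm⟩
      show χ (a s) = 0 ↔ ψ (b s) = 0
      rw [hχ0, hψ0]
      constructor
      · rintro ⟨t, ht⟩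
        obtain ⟨f, rfl⟩ := (Ext.mk₀_bijective _ _).2 t
        refine ⟨(h0 T.X₂).symm (secEquiv _ f).down, ?_⟩
        rw [Ext.mk₀_comp_mk₀] at ht
        have h1 : secEquiv _ (f ≫ (T.map (U X)).g) = s := by
          rw [(Ext.mk₀_bijective _ _).1 (ht.trans (show a s = Ext.mk₀ ((secEquiv _).symm s) from rfl))]
          exact (secEquiv _).apply_symm_apply s
        rw [secEquiv_comp] at h1
        show Ext.comp (Ext.mk₀ ((constEquiv T.X₂).symm (secEquiv _ f).down)) (Ext.mk₀ T.g) (add_zero 0) =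
          Ext.mk₀ ((constEquiv T.X₃).symm s.down)
        rw [Ext.mk₀_comp_mk₀]
        congr 1
        apply (constEquiv T.X₃).injective
        rw [constEquiv_comp, Equiv.apply_symm_apply, Equiv.apply_symm_apply]
        exact congrArg ULift.down h1
      · rintro ⟨t, ht⟩
        obtain ⟨f, rfl⟩ := (Ext.mk₀_bijective _ _).2 t
        rw [Ext.mk₀_comp_mk₀] at ht
        refine ⟨Ext.mk₀ ((secEquiv _).symm ⟨constEquiv T.X₂ f⟩), ?_⟩
        have h1 : constEquiv T.X₃ (f ≫ T.g) = s.down := by
          have := (Ext.mk₀_bijective _ _).1 (ht.trans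
            (show b s = Ext.mk₀ ((constEquiv T.X₃).symm s.down) from rfl))
          rw [this, Equiv.apply_symm_apply]
        rw [constEquiv_comp] at h1
        show Ext.comp _ _ _ = Ext.mk₀ ((secEquiv _).symm s)
        rw [Ext.mk₀_comp_mk₀]
        congr 1
        apply (secEquiv _).injective
        rw [secEquiv_comp, AddEquiv.apply_symm_apply, AddEquiv.apply_symm_apply]
        exact ULift.ext _ _ h1
    | succ m =>
      obtain ⟨e⟩ := ih T.X₃
      have hχi : Function.Injective χ := by
        rw [injective_iff_map_eq_zero]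
        intro y hy
        obtain ⟨t, rfl⟩ := (hχ0 y).1 hy
        rw [hbig m t, Ext.zero_comp]
      have hψi : Function.Injective ψ := by
        rw [injective_iff_map_eq_zero]
        intro y hy
        obtain ⟨t, rfl⟩ := (hψ0 y).1 hy
        rw [Ext.eq_zero_of_injective t, Ext.zero_comp]
      exact ⟨(((AddEquiv.ofBijective χ ⟨hχi, hχ⟩).symm.trans e).trans
        (AddEquiv.ulift.trans (AddEquiv.ofBijective ψ ⟨hψi, hψ⟩))).trans AddEquiv.ulift.symm⟩

end Compare

end Groth.Agent.Lib.EtQCoh.ULift
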