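import Groth.Agent.Lib.EtQCoh.AffGood
import Groth.Agent.Lib.EtQCoh.ZarSite
import Groth.Agent.Lib.BigEt.Compare
import Groth.Agent.Lib.SpecSeq.HomExt
import Groth.Prelude.Def_EtCore

/-!
# Zariski and étale cohomology of affine-good sheaves
-/

set_option autoImplicit false
set_option backward.isDefEq.respectTransparency false
set_option backward.isDefEq.respectTransparency.types false
set_option linter.style.haveILetI false
set_option linter.unusedVariables false

universe u

open CategoryTheory CategoryTheory.Limits AlgebraicGeometry Opposite TopologicalSpace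
open Groth.Agent.Lib.SpecSeq Groth.Agent.Lib.EtQCoh.ZarSite

noncomputable section

namespace Groth.Agent.Lib.EtQCoh.Zar

variable {X : Scheme.{u}} [EtZar.ZarCont X] {G : EtCoh.Ab X} (R : InjectiveResolution G)

/-- The restricted resolution. -/
abbrev resCx : CochainComplex (EtZar.Ab X) ℕ :=
  ((EtZar.resZar X).mapHomologicalComplex (ComplexShape.up ℕ)).obj R.cocomplex

/-- The augmentation. -/
def aug : (EtZar.resZar X).obj G ⟶ (resCx R).X 0 := (EtZar.resZar X).map (R.ι.f 0)

theorem aug_d : aug R ≫ (resCx R).d 0 1 = 0 := by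
  change (EtZar.resZar X).map (R.ι.f 0) ≫ (EtZar.resZar X).map (R.cocomplex.d 0 1) = 0
  have h := congrArg (EtZar.resZar X).map R.ι_f_zero_comp_complex_d
  rw [Functor.map_comp, Functor.map_zero] at h
  exact h

variable {P : EtCoh.Ab X → Prop} (hP : AffGood.AffGood P) (hG : P G)

include hP hG in
theorem exactAt_resCx (k : ℕ) : (resCx R).ExactAt (k + 1) := by
  rw [HomologicalComplex.exactAt_iff' _ k (k + 1) (k + 2) (by simp) (by simp),
    ShortComplex.exact_iff_epi_kernel_lift]
  let a : (EtZar.resZar X).obj (R.cocomplex.X k) ⟶ (EtZar.resZar X).obj (R.cocomplex.X (k + 1)) :=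
    (EtZar.resZar X).map (R.cocomplex.d k (k + 1))
  let b : (EtZar.resZar X).obj (R.cocomplex.X (k + 1)) ⟶
      (EtZar.resZar X).obj (R.cocomplex.X (k + 2)) :=
    (EtZar.resZar X).map (R.cocomplex.d (k + 1) (k + 2))
  have hab : a ≫ b = 0 := by
    rw [← Functor.map_comp, R.cocomplex.d_comp_d, Functor.map_zero]
  change Epi (kernel.lift b a hab)
  refine (Sheaf.isLocallySurjective_iff_epi' _ (kernel.lift b a hab)).1 ⟨fun {W} y => ?_⟩
  intro x hx
  obtain ⟨_, ⟨V, hV, rfl⟩, hxV, hVW⟩ := X.isBasis_affineOpens.exists_subset_of_mem_open hx W.2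
  let g : V ⟶ W := homOfLE hVW
  let y' := (kernel b).obj.map g.op y
  let x' : (R.cocomplex.X (k + 1)).obj.obj (op ((EtZar.zarToEt X).obj V)) :=
    (kernel.ι b).hom.app (op V) y'
  have hx' : (R.cocomplex.d (k + 1) (k + 2)).hom.app (op ((EtZar.zarToEt X).obj V)) x' = 0 :=
    ConcreteCategory.congr_hom (congrArg (fun m => m.hom.app (op V)) (kernel.condition b)) y'
  obtain ⟨z, hz⟩ := AffGood.exists_of_d_eq_zero hP hG R k _ (show IsAffine (V : Scheme.{u}) from hV) x' hx'
  refine ⟨V, g, ⟨z, ?_⟩, hxV⟩
  have hinj : Function.Injective ((kernel.ι b).hom.app (op V)) := by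
    have : Mono (kernel.ι b).hom :=
      inferInstanceAs (Mono ((sheafToPresheaf (Opens.grothendieckTopology X) AddCommGrpCat.{u + 1}).map
        (kernel.ι b)))
    exact (AddCommGrpCat.mono_iff_injective _).1 (inferInstance : Mono ((kernel.ι b).hom.app (op V)))
  apply hinj
  refine (ConcreteCategory.congr_hom (congrArg (fun m => m.hom.app (op V))
    (kernel.lift_ι b a hab)) z).trans ?_
  exact hz

include hP hG in
theorem isZero_rightDerived (q : ℕ) : IsZero (((EtZar.resZar X).rightDerived (q + 1)).obj G) := by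
  let R₀ := injectiveResolution G
  exact IsZero.of_iso ((exactAt_resCx R₀ hP hG q).isZero_homology) (R₀.isoRightDerivedObj (EtZar.resZar X) (q + 1))

variable (hex : ∀ k, (resCx R).ExactAt (k + 1))

include hex in
/-- The restriction of the resolution is an injective resolution. -/
def resolution : InjectiveResolution ((EtZar.resZar X).obj G) where
  cocomplex := resCx R
  injective n := inferInstanceAs (Injective ((EtZar.resZar X).obj (R.cocomplex.X n)))
  ι := (CochainComplex.fromSingle₀Equiv _ _).symm ⟨aug R, aug_d R⟩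
  quasiIso := ⟨fun n => by
    cases n with
    | succ n =>
      rw [quasiIsoAt_iff_exactAt _ _ (CochainComplex.exactAt_succ_single_obj _ _)]
      exact hex n
    | zero =>
      rw [CochainComplex.quasiIsoAt₀_iff, ShortComplex.quasiIso_iff_of_zeros]
      · have hl : IsLimit (KernelFork.ofι (aug R) (aug_d R) : KernelFork ((resCx R).d 0 1)) :=
          KernelFork.mapIsLimit R.kernelFork R.isLimitKernelFork (EtZar.resZar X)
        let S := ShortComplex.mk (aug R) ((resCx R).d 0 1) (aug_d R)
        refine (ShortComplex.exact_and_mono_f_iff_of_iso ?_).1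
          ⟨ShortComplex.exact_of_f_is_kernel S hl, Fork.IsLimit.mono hl⟩
        exact ShortComplex.isoMk (Iso.refl _) (Iso.refl _) (Iso.refl _)
          ((Category.id_comp _).trans (Category.comp_id _).symm)
          ((Category.id_comp _).trans (Category.comp_id _).symm)
      all_goals first | rfl | exact (resCx R).shape _ _ (by simp)⟩

/-- The two complexes of global sections. -/
def cxIso (A : EtZar.Ab X) {B : EtCoh.Ab X} (i : (pullZar X).obj A ≅ B) :
    HomExt.homCx R B ≅ HomExt.homCx (resolution R hex) A :=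
  haveI : (pullZar X).Additive := (zarAdj X).left_adjoint_additive
  HomologicalComplex.Hom.isoOfComponents
    (fun n => AddEquiv.toAddCommGrpIso
      (AddEquiv.mk' (i.homFromEquiv.symm.trans ((zarAdj X).homEquiv A (R.cocomplex.X n)))
        fun (f g : B ⟶ R.cocomplex.X n) => by
          change (zarAdj X).homEquiv _ _ (i.hom ≫ (f + g)) =
            (zarAdj X).homEquiv _ _ (i.hom ≫ f) + (zarAdj X).homEquiv _ _ (i.hom ≫ g)
          rw [Preadditive.comp_add]
          exact (zarAdj X).homAddEquiv_add _ _ _ _))
    fun n m _ => by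
      ext f
      change (zarAdj X).homEquiv _ _ (i.hom ≫ f) ≫ (EtZar.resZar X).map (R.cocomplex.d n m) =
        (zarAdj X).homEquiv _ _ (i.hom ≫ f ≫ R.cocomplex.d n m)
      rw [← Adjunction.homEquiv_naturality_right, Category.assoc]

/-- The constant sheaf pulls back to the constant sheaf. -/
def pullConst (A : AddCommGrpCat.{u + 1}) :
    (pullZar X).obj ((constantSheaf (Opens.grothendieckTopology X) AddCommGrpCat.{u + 1}).obj A) ≅
      (constantSheaf X.smallEtaleTopology AddCommGrpCat.{u + 1}).obj A :=
  (BigEt.Compare.pullConstIso.{u + 1} (EtZar.zarToEt X) (Opens.grothendieckTopology X) X.smallEtaleTopology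
    (IsTerminal.ofUniqueHom (fun U : X.Opens => homOfLE le_top) fun _ _ => Subsingleton.elim _ _)
    (ZarSite.isTerminalTop X)).app A

/-- **Zariski and étale cohomology agree if the restriction to the Zariski site is acyclic.** -/
theorem nonempty_hEquiv_of_exactAt (G : EtCoh.Ab X)
    (h : ∀ k, (resCx (injectiveResolution G)).ExactAt (k + 1)) (q : ℕ) :
    Nonempty (EtCoh.H X G q ≃+ EtZar.H ((EtZar.resZar X).obj G) q) :=
  let R₀ := injectiveResolution G
  ⟨((HomExt.homologyIso R₀ q).symm ≪≫
    (HomologicalComplex.homologyFunctor _ _ q).mapIso (cxIso R₀ h _ (pullConst _)) ≪≫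
    HomExt.homologyIso (resolution R₀ h) q).addCommGroupIsoToAddEquiv⟩

include hP hG in
/-- **Zariski and étale cohomology agree.** -/
theorem nonempty_hEquiv (q : ℕ) :
    Nonempty (EtCoh.H X G q ≃+ EtZar.H ((EtZar.resZar X).obj G) q) :=
  nonempty_hEquiv_of_exactAt G (exactAt_resCx (injectiveResolution G) hP hG) q

end Groth.Agent.Lib.EtQCoh.Zar
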