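import Groth.Agent.Lib.EtQCoh.Zar
import Groth.Agent.Lib.EtQCoh.ULift
import Groth.Agent.Lib.DescAlg.PbSecHom
import Groth.Prelude.Def_Coh

/-!
# The restriction of the étale sheaf of a quasi-coherent module to the Zariski site
-/

set_option autoImplicit false
set_option backward.isDefEq.respectTransparency false
set_option backward.isDefEq.respectTransparency.types false
set_option linter.style.haveILetI false

universe u

open CategoryTheory CategoryTheory.Limits AlgebraicGeometry Opposite TopologicalSpace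
open ZarCoh.FlatBC.PullbackSections Groth.Agent.Lib.DescAlg.PbSec

noncomputable section

namespace Groth.Agent.Lib.EtQCoh.ZarIso

theorem pbRes_map {X Y : Scheme.{u}} (u : Y ⟶ X) (M : X.Modules) {U U' : X.Opens} {W : Y.Opens}
    (h : U' ≤ U) (e : W ≤ u ⁻¹ᵁ U') (m : Γ(M, U)) :
    pbRes u M e (M.presheaf.map (homOfLE h).op m) = pbRes u M (e.trans (u.preimage_mono h)) m := by
  let P := ((Scheme.Modules.pullback u).obj M).presheaf
  have h1 := ConcreteCategory.congr_hom
    (((Scheme.Modules.pullbackPushforwardAdjunction u).unit.app M).mapPresheaf.naturality (homOfLE h).op) m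
  show P.map (homOfLE e).op _ = P.map (homOfLE (e.trans (u.preimage_mono h))).op _
  refine (congrArg (P.map (homOfLE e).op) h1).trans ?_
  show P.map _ (P.map _ _) = _
  rw [← ConcreteCategory.comp_apply, ← P.map_comp]
  rfl

variable {X : Scheme.{u}} [EtZar.ZarCont X] (F : X.Modules) [F.IsQuasicoherent]

omit [EtZar.ZarCont X] in
theorem mem_preimage_self (W : X.Opens) : (⊤ : W.toScheme.Opens) ≤ W.ι ⁻¹ᵁ W := fun x _ => x.2

/-- Sections over an open. -/
def secEquiv (W : X.Opens) : Γ(F, W) ≃+ Γ((Scheme.Modules.pullback W.ι).obj F, ⊤) :=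
  AddEquiv.ofBijective (pbRes W.ι F (V := ⊤) (mem_preimage_self W))
    (pbRes_bijective F W.ι (le_of_eq W.opensRange_ι.symm) (mem_preimage_self W))

set_option maxHeartbeats 1000000 in
/-- **`ε_* F^a = F`.** -/
theorem nonempty_iso :
    Nonempty ((EtQCoh.ULift.U X).obj (Coh.toAb F) ≅ (EtZar.resZar X).obj (AffGood.qSh F)) := by
  refine ⟨(fullyFaithfulSheafToPresheaf _ _).preimageIso (NatIso.ofComponents
    (fun W => AddEquiv.toAddCommGrpIso
      ((AddEquiv.ulift.trans (secEquiv F W.unop)).trans AddEquiv.ulift.symm)) fun {W V} g => ?_)⟩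
  ext ⟨m⟩
  refine ULift.ext _ _ ?_
  exact (pbRes_map (Scheme.Opens.ι V.unop) F g.unop.le (mem_preimage_self V.unop) m).trans
    (R_pbRes (X.homOfLE g.unop.le) (X.homOfLE_ι g.unop.le) F (mem_preimage_self W.unop) le_top m).symm

/-- **Étale and Zariski cohomology of quasi-coherent modules agree.** -/
theorem nonempty_hEquiv {G : EtCoh.Ab X} (hG : EtAssoc.IsAssoc F G) (q : ℕ) :
    Nonempty (EtCoh.H X G q ≃+ ULift.{u + 1} (Coh.HH X F q)) := by
  obtain ⟨e⟩ := AffGood.nonempty_iso_qSh F hG
  obtain ⟨i⟩ := nonempty_iso F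
  obtain ⟨a⟩ := Zar.nonempty_hEquiv AffGood.affGood_cechAff (AffGood.cechAff_of_isAssoc F hG) q
  obtain ⟨b⟩ := EtQCoh.ULift.nonempty_equiv q (Coh.toAb F)
  exact ⟨(a.trans ((@Sheaf.functorH _ _ (Opens.grothendieckTopology X) (inferInstance : HasSheafify _ AddCommGrpCat.{u + 1}) _ q).mapIso
    ((EtZar.resZar X).mapIso e ≪≫ i.symm)).addCommGroupIsoToAddEquiv).trans b⟩

end Groth.Agent.Lib.EtQCoh.ZarIso
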