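import Groth.Agent.Lib.EtQCoh.Zar
import Groth.Agent.Lib.Henselian.Etale
import Mathlib.FieldTheory.IsSepClosed
import Mathlib.RingTheory.Unramified.Field
import Mathlib.RingTheory.Spectrum.Prime.RingHom
import Mathlib.RingTheory.Localization.AtPrime.Basic

/-!
# Schemes with strictly henselian local rings: étale coverings split Zariski locally
-/

set_option autoImplicit false
set_option backward.isDefEq.respectTransparency false
set_option backward.isDefEq.respectTransparency.types false
set_option linter.style.haveILetI false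

universe u

open CategoryTheory CategoryTheory.Limits AlgebraicGeometry Opposite TopologicalSpace
open Groth.Agent.Lib.EtQCoh.ZarSite
open scoped TensorProduct

noncomputable section

namespace Groth.Agent.Lib.EtQCoh.ZarStrict

theorem map_eval_symm {A B : Type u} [CommRing A] [CommRing B] (e : A ≃+* B) (g : Polynomial B) (a : A) :
    e ((g.map e.symm.toRingHom).eval a) = g.eval (e a) := by
  induction g using Polynomial.induction_on' with
  | add p q hp hq => simp only [Polynomial.map_add, Polynomial.eval_add, map_add, hp, hq]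
  | monomial n c => simp

theorem henselianLocalRing_of_ringEquiv {A B : Type u} [CommRing A] [CommRing B] [IsLocalRing B]
    (e : A ≃+* B) [HenselianLocalRing A] : HenselianLocalRing B where
  is_henselian f hf a₀ h₁ h₂ := by
    have hm : ∀ x : A, e x ∈ IsLocalRing.maximalIdeal B ↔ x ∈ IsLocalRing.maximalIdeal A := fun x => by
      simp only [IsLocalRing.mem_maximalIdeal, mem_nonunits_iff, isUnit_map_iff]
    have he : ∀ g : Polynomial B, e ((g.map e.symm.toRingHom).eval (e.symm a₀)) = g.eval a₀ := fun g => by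
      rw [map_eval_symm, e.apply_symm_apply]
    obtain ⟨a, ha, ha'⟩ := HenselianLocalRing.is_henselian (f.map e.symm.toRingHom) (hf.map _) (e.symm a₀)
      ((hm _).1 (by rw [he]; exact h₁))
      ((isUnit_map_iff e _).1 (by rw [Polynomial.derivative_map, he]; exact h₂))
    refine ⟨e a, ?_, ?_⟩
    · have h := congrArg e (show (f.map e.symm.toRingHom).eval a = 0 from ha)
      rwa [map_zero, map_eval_symm] at h
    · have h := (hm _).2 ha'
      rwa [map_sub, e.apply_symm_apply] at h

/-- A point of an étale algebra over a strictly henselian local ring gives a section. -/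
theorem exists_algHom {B C : Type u} [CommRing B] [CommRing C] [Algebra B C] [Algebra.Etale B C]
    (P : Ideal B) [P.IsPrime] [HenselianLocalRing (Localization.AtPrime P)] [IsSepClosed P.ResidueField]
    (hP : ∃ Q : PrimeSpectrum C, Q.asIdeal.comap (algebraMap B C) = P) :
    Nonempty (C →ₐ[B] Localization.AtPrime P) := by
  let k := P.ResidueField
  obtain ⟨Q, hQ⟩ := hP
  haveI : Nontrivial (k ⊗[B] C) :=
    (PrimeSpectrum.nontrivial_iff_mem_rangeComap (S := C) ⟨P, inferInstance⟩).2 ⟨Q, PrimeSpectrum.ext hQ⟩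
  obtain ⟨M, hM⟩ := Ideal.exists_maximal (k ⊗[B] C)
  let L := (k ⊗[B] C) ⧸ M
  letI : Field L := Ideal.Quotient.field M
  haveI : Algebra.FormallyUnramified k L :=
    Algebra.FormallyUnramified.comp k (k ⊗[B] C) L
  haveI : Algebra.EssFiniteType k L := Algebra.EssFiniteType.comp k (k ⊗[B] C) L
  haveI : Algebra.IsSeparable k L := Algebra.FormallyUnramified.isSeparable k L
  let ek : k ≃ₐ[k] L := AlgEquiv.ofBijective (Algebra.ofId k L)
    ⟨(algebraMap k L).injective, IsSepClosed.algebraMap_surjective k L⟩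
  let σ : C →ₐ[B] k :=
    ((ek.symm.toAlgHom.comp (Ideal.Quotient.mkₐ k M)).restrictScalars B).comp
      (Algebra.TensorProduct.includeRight : C →ₐ[B] k ⊗[B] C)
  obtain ⟨τ, -⟩ := Henselian.Etale.exists_algHom_lift
    (A := Localization.AtPrime P) (IsLocalRing.maximalIdeal _) σ
  exact ⟨τ⟩

/-- An algebra map to a localisation at a prime factors through a principal localisation. -/
theorem exists_away {B C : Type u} [CommRing B] [CommRing C] [Algebra B C] [Algebra.FinitePresentation B C]
    (P : Ideal B) [P.IsPrime] (σ : C →ₐ[B] Localization.AtPrime P) :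
    ∃ g : B, g ∉ P ∧ Nonempty (C →ₐ[B] Localization.Away g) := by
  classical
  obtain ⟨n, π, hπ, rs, hrs⟩ := Algebra.FinitePresentation.out (R := B) (A := C)
  obtain ⟨s, hs⟩ := IsLocalization.exist_integer_multiples P.primeCompl Finset.univ
    fun i : Fin n => σ (π (MvPolynomial.X i))
  choose b hb using fun i => hs i (Finset.mem_univ i)
  -- the map to the localisation at `s`
  have hu : IsUnit (algebraMap B (Localization.AtPrime P) s.1) := IsLocalization.map_units _ s
  let ρ : Localization.Away s.1 →ₐ[B] Localization.AtPrime P :=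
    IsLocalization.liftAlgHom (M := Submonoid.powers s.1) (f := Algebra.ofId B _)
      (by rintro ⟨_, k, rfl⟩; simpa using hu.pow k)
  let f₀ : MvPolynomial (Fin n) B →ₐ[B] Localization.Away s.1 :=
    MvPolynomial.aeval fun i => IsLocalization.mk' _ (b i) (⟨s.1, Submonoid.mem_powers _⟩ : Submonoid.powers s.1)
  have hρ : ρ.comp f₀ = σ.comp π := MvPolynomial.algHom_ext fun i => by
    refine hu.mul_left_cancel ?_
    show _ * ρ (f₀ (MvPolynomial.X i)) = _ * σ (π (MvPolynomial.X i))
    rw [MvPolynomial.aeval_X, ← ρ.commutes s.1, ← map_mul, IsLocalization.mk'_spec'_mk, ρ.commutes, ρ.commutes]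
    exact (hb i).trans (Algebra.smul_def _ _)
  -- kill the relations
  have hr : ∀ r ∈ rs, ∃ t : B, t ∉ P ∧ algebraMap B (Localization.Away s.1) t * f₀ r = 0 := fun r hr => by
    obtain ⟨c, d, hcd⟩ := IsLocalization.exists_mk'_eq (Submonoid.powers s.1) (f₀ r)
    have h0 : ρ (f₀ r) = 0 := by
      have h1 : π r = 0 := RingHom.mem_ker.1 (hrs ▸ Ideal.subset_span hr)
      have h2 := DFunLike.congr_fun hρ r
      simpa [h1] using h2
    have hc : algebraMap B (Localization.AtPrime P) c = 0 := by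
      have h3 := congrArg ρ (IsLocalization.mk'_spec (Localization.Away s.1) c d)
      rw [map_mul, hcd, h0, zero_mul, ρ.commutes] at h3
      exact h3.symm
    obtain ⟨t, ht⟩ := (IsLocalization.map_eq_zero_iff P.primeCompl _ c).1 hc
    refine ⟨t.1, t.2, ?_⟩
    rw [← hcd, IsLocalization.mul_mk'_eq_mk'_of_mul, ht, IsLocalization.mk'_zero]
  choose t htP ht using hr
  let T : B := ∏ r : rs, t r.1 r.2
  refine ⟨s.1 * T, fun h => ?_, ?_⟩
  · rcases Ideal.IsPrime.mem_or_mem ‹_› h with h | h
    · exact s.2 h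
    · obtain ⟨r, -, hr'⟩ := Ideal.IsPrime.prod_mem_iff.1 h
      exact htP r.1 r.2 hr'
  let Ag := Localization.Away (s.1 * T)
  have hsT : IsUnit (algebraMap B Ag s.1) ∧ IsUnit (algebraMap B Ag T) := by
    have := IsLocalization.Away.algebraMap_isUnit (S := Ag) (s.1 * T)
    rw [map_mul] at this
    exact IsUnit.mul_iff.1 this
  let ξ : Localization.Away s.1 →ₐ[B] Ag :=
    IsLocalization.liftAlgHom (M := Submonoid.powers s.1) (f := Algebra.ofId B _)
      (by rintro ⟨_, k, rfl⟩; simpa using hsT.1.pow k)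
  have hker : RingHom.ker π.toRingHom ≤ RingHom.ker (ξ.comp f₀).toRingHom := by
    rw [show RingHom.ker π.toRingHom = Ideal.span (rs : Set (MvPolynomial (Fin n) B)) from hrs.symm, Ideal.span_le]
    intro r hr
    show ξ (f₀ r) = 0
    have hu' : IsUnit (algebraMap B Ag (t r hr)) :=
      isUnit_of_dvd_unit (map_dvd _ (Finset.dvd_prod_of_mem (fun r : rs => t r.1 r.2) (Finset.mem_univ ⟨r, hr⟩))) hsT.2
    refine hu'.mul_right_eq_zero.1 ?_
    rw [← ξ.commutes, ← map_mul, ht r hr, map_zero]
  exact ⟨AlgHom.liftOfSurjective π hπ (ξ.comp f₀) hker⟩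

variable {X : Scheme.{u}}

/-- An étale neighbourhood of a point with strictly henselian local ring has a section near it. -/
theorem exists_section (x : X) (hx : EtCoh.IsStrictlyHenselianLocalRing (X.presheaf.stalk x))
    (V : X.Etale) (v : V.left) (hv : V.hom v = x) :
    ∃ (D : X.Opens), x ∈ D ∧ Nonempty ((EtZar.zarToEt X).obj D ⟶ V) := by
  haveI : Etale V.hom := V.prop
  obtain ⟨_, ⟨W, hW, rfl⟩, hxW, -⟩ :=
    X.isBasis_affineOpens.exists_subset_of_mem_open (show x ∈ (⊤ : X.Opens) from trivial) isOpen_univ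
  obtain ⟨_, ⟨O, hO, rfl⟩, hvO, hOW⟩ := V.left.isBasis_affineOpens.exists_subset_of_mem_open
    (show v ∈ V.hom ⁻¹ᵁ W from (by show V.hom v ∈ W; rw [hv]; exact hxW)) (V.hom ⁻¹ᵁ W).2
  let φ := V.hom.appLE W O hOW
  letI : Algebra Γ(X, W) Γ(V.left, O) := φ.hom.toAlgebra
  haveI : Algebra.Etale Γ(X, W) Γ(V.left, O) :=
    RingHom.etale_algebraMap.1 (HasRingHomProperty.appLE @Etale V.hom inferInstance ⟨W, hW⟩ ⟨O, hO⟩ hOW)
  let P := (hW.primeIdealOf ⟨x, hxW⟩).asIdeal
  letI : Algebra Γ(X, W) (X.presheaf.stalk x) := TopCat.Presheaf.algebra_section_stalk X.presheaf (⟨x, hxW⟩ : W)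
  haveI : IsLocalization.AtPrime (X.presheaf.stalk x) P := hW.isLocalization_stalk ⟨x, hxW⟩
  obtain ⟨hH, hS⟩ := hx
  let e : X.presheaf.stalk x ≃+* Localization.AtPrime P :=
    (IsLocalization.algEquiv P.primeCompl (X.presheaf.stalk x) (Localization.AtPrime P)).toRingEquiv
  haveI : HenselianLocalRing (Localization.AtPrime P) := henselianLocalRing_of_ringEquiv e
  haveI : IsSepClosed P.ResidueField :=
    haveI := hS
    IsSepClosed.of_exists_root _ fun p hm hi hs => by
      let ek := IsLocalRing.ResidueField.mapEquiv e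
      obtain ⟨a, ha⟩ := IsSepClosed.exists_root (p.map ek.symm.toRingHom)
        (by rw [Polynomial.degree_map]; exact (Polynomial.degree_pos_of_irreducible hi).ne') hs.map
      refine ⟨ek a, ?_⟩
      have h := congrArg ek (show (p.map ek.symm.toRingHom).eval a = 0 from ha)
      rwa [map_zero, map_eval_symm] at h
  obtain ⟨σ⟩ := exists_algHom P ⟨hO.primeIdealOf ⟨v, hvO⟩, by
    have h := congrArg PrimeSpectrum.asIdeal (IsAffineOpen.comap_primeIdealOf_appLE (f := V.hom) W hW O hO hOW hvO)
    refine h.trans ?_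
    simp only [hv]
    rfl⟩
  obtain ⟨g, hg, ⟨ψ⟩⟩ := exists_away P σ
  let D := X.basicOpen g
  haveI := hW.isLocalization_basicOpen g
  let ψ' : Γ(V.left, O) →ₐ[Γ(X, W)] Γ(X, D) :=
    (IsLocalization.algEquiv (Submonoid.powers g) (Localization.Away g) Γ(X, D)).toAlgHom.comp ψ
  refine ⟨D, ?_, ⟨MorphismProperty.Over.homMk
    ((hW.basicOpen g).isoSpec.hom ≫ Spec.map (CommRingCat.ofHom ψ'.toRingHom) ≫ hO.fromSpec) ?_⟩⟩
  · have h : hW.primeIdealOf ⟨x, hxW⟩ ∈ hW.fromSpec ⁻¹ᵁ X.basicOpen g := by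
      rw [hW.fromSpec_preimage_basicOpen]
      exact hg
    have h' : hW.fromSpec (hW.primeIdealOf ⟨x, hxW⟩) ∈ X.basicOpen g := h
    rw [hW.fromSpec_primeIdealOf] at h'
    exact h'
  · show ((hW.basicOpen g).isoSpec.hom ≫ Spec.map (CommRingCat.ofHom ψ'.toRingHom) ≫ hO.fromSpec) ≫ V.hom = D.ι
    have h1 : φ ≫ CommRingCat.ofHom ψ'.toRingHom = X.presheaf.map (homOfLE (X.basicOpen_le g)).op := by
      ext a
      exact ψ'.commutes a
    rw [Category.assoc, Category.assoc, ← IsAffineOpen.SpecMap_appLE_fromSpec V.hom hW hO hOW,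
      ← Spec.map_comp_assoc, h1, hW.map_fromSpec (hW.basicOpen g), IsAffineOpen.isoSpec_hom_fromSpec]

variable [EtZar.ZarCont X] {G : EtCoh.Ab X} (R : InjectiveResolution G)

/-- **The restriction to the Zariski site is acyclic.** -/
theorem exactAt_resCx (hS : ∀ x : X, EtCoh.IsStrictlyHenselianLocalRing (X.presheaf.stalk x)) (k : ℕ) :
    (Zar.resCx R).ExactAt (k + 1) := by
  rw [HomologicalComplex.exactAt_iff' _ k (k + 1) (k + 2) (by simp) (by simp),
    ShortComplex.exact_iff_epi_kernel_lift]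
  let a : (EtZar.resZar X).obj (R.cocomplex.X k) ⟶ (EtZar.resZar X).obj (R.cocomplex.X (k + 1)) :=
    (EtZar.resZar X).map (R.cocomplex.d k (k + 1))
  let b : (EtZar.resZar X).obj (R.cocomplex.X (k + 1)) ⟶ (EtZar.resZar X).obj (R.cocomplex.X (k + 2)) :=
    (EtZar.resZar X).map (R.cocomplex.d (k + 1) (k + 2))
  have hab : a ≫ b = 0 := by
    rw [← Functor.map_comp, R.cocomplex.d_comp_d, Functor.map_zero]
  change Epi (kernel.lift b a hab)
  refine (Sheaf.isLocallySurjective_iff_epi' _ (kernel.lift b a hab)).1 ⟨fun {W} y => ?_⟩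
  intro x hxW
  let d := R.cocomplex.d (k + 1) (k + 2)
  let x' : (R.cocomplex.X (k + 1)).obj.obj (op ((EtZar.zarToEt X).obj W)) := (kernel.ι b).hom.app (op W) y
  have hx' : d.hom.app (op ((EtZar.zarToEt X).obj W)) x' = 0 :=
    ConcreteCategory.congr_hom (congrArg (fun m => m.hom.app (op W)) (kernel.condition b)) y
  obtain ⟨z, hz⟩ := AffGood.exists_section_of_exact (S := ShortComplex.mk (kernel.ι d) d (kernel.condition d))
    (ShortComplex.exact_of_f_is_kernel _ (kernelIsKernel d)) _ x' hx'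
  let l := kernel.lift d (R.cocomplex.d k (k + 1)) (R.cocomplex.d_comp_d _ _ _)
  haveI : Epi l := by
    have he := R.exact_succ k
    exact (ShortComplex.exact_iff_epi_kernel_lift _).1 he
  have hl : Sheaf.IsLocallySurjective l := (Sheaf.isLocallySurjective_iff_epi' _ l).2 inferInstance
  obtain ⟨V', g, ⟨t, ht⟩, v', hv'⟩ :=
    (EtSite.Basic.mem_topology_iff _).1 (Presheaf.imageSieve_mem X.smallEtaleTopology l.hom z) ⟨x, hxW⟩
  obtain ⟨D, hxD, ⟨s⟩⟩ := exists_section x (hS x) V' v' (by
    have h : g.left ≫ Scheme.Opens.ι W = V'.hom := Over.w g.hom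
    rw [← h]
    exact congrArg (Scheme.Opens.ι W) hv')
  let i : D ⊓ W ⟶ W := homOfLE inf_le_right
  let j : (EtZar.zarToEt X).obj (D ⊓ W) ⟶ V' := (EtZar.zarToEt X).map (homOfLE inf_le_left) ≫ s
  refine ⟨D ⊓ W, i, ⟨(R.cocomplex.X k).obj.map j.op t, ?_⟩, ⟨hxD, hxW⟩⟩
  have hinj : Function.Injective ((kernel.ι b).hom.app (op (D ⊓ W))) := by
    have : Mono (kernel.ι b).hom :=
      inferInstanceAs (Mono ((sheafToPresheaf (Opens.grothendieckTopology X) AddCommGrpCat.{u + 1}).map
        (kernel.ι b)))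
    exact (AddCommGrpCat.mono_iff_injective _).1 (inferInstance : Mono ((kernel.ι b).hom.app (op (D ⊓ W))))
  apply hinj
  refine (ConcreteCategory.congr_hom (congrArg (fun m => m.hom.app (op (D ⊓ W)))
    (kernel.lift_ι b a hab)) _).trans ?_
  refine Eq.trans ?_ (NatTrans.naturality_apply (kernel.ι b).hom i.op y).symm
  show (R.cocomplex.d k (k + 1)).hom.app _ ((R.cocomplex.X k).obj.map j.op t) =
    (R.cocomplex.X (k + 1)).obj.map ((EtZar.zarToEt X).map i).op x'
  rw [← (subsingleton_hom X W _).elim (j ≫ g) ((EtZar.zarToEt X).map i)]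
  refine ((NatTrans.naturality_apply (R.cocomplex.d k (k + 1)).hom j.op t).trans ?_)
  refine Eq.trans ?_ (ConcreteCategory.congr_hom ((R.cocomplex.X (k + 1)).obj.map_comp g.op j.op) x').symm
  refine congrArg ((R.cocomplex.X (k + 1)).obj.map j.op) ?_
  refine ((ConcreteCategory.congr_hom (congrArg (fun m => m.hom.app (op V'))
    (kernel.lift_ι d (R.cocomplex.d k (k + 1)) (R.cocomplex.d_comp_d _ _ _))) t).symm.trans ?_)
  refine (congrArg ((kernel.ι d).hom.app (op V')) ht).trans ?_
  exact (NatTrans.naturality_apply (kernel.ι d).hom g.op z).trans (congrArg _ hz)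

end Groth.Agent.Lib.EtQCoh.ZarStrict
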